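import Mathlib
import Cfsg.Agent.Tits.Exchange
import Cfsg.Agent.LieExceptional.CoxeterExchange
import Cfsg.Agent.H684.OQ.CellCard_m3
import Cfsg.Agent.Blocks.ModularTraces
import Cfsg.Agent.Characters.GaloisIrr
import Cfsg.Agent.CharDeep.LinearChar
import Cfsg.Agent.H381.OQ.MackeyB_m3
import Cfsg.Agent.ODD.Red.Bas
import Cfsg.Agent.H157.HK.G
import Cfsg.Agent.ODD.Hk.Par
import Cfsg.Agent.Characters.Core
import Cfsg.Agent.Characters.Central
import Cfsg.Agent.Nodes.StabComb
import Cfsg.Agent.H167.AltBldg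
import Cfsg.Agent.H969.TT.TopAbs
import Cfsg.Agent.CharactersDeep.ExtUnique
import Cfsg.Agent.CharDeep.CliffordCorr
import Cfsg.Agent.CharDeep.PowerDegrees
import Cfsg.Agent.LieRecognition.CoxClass
import Cfsg.Agent.H694.CoxA_m3
import Cfsg.Agent.Lib.FinFast
import Cfsg.Agent.Lib.SchurBound
import Cfsg.Agent.FastGrp
import Cfsg.Agent.Prune
set_option linter.all false

section
prune_inst 0x7fbcabf8aba8b9dfdfff7e3fa6dacdf871802fffe4fff943ffe0299f0b9f032109c5238d09e000fecf02401410a87b43f97eefffe86bdc7d63fd57341ffbae4fe5f7b508519c88b406280ff603f007086f3ffdf6fffffffffffffff7ffffffffffbfe3feffff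

-- part: ODD/AH/Cmp
section
prune_inst 0x4340011405400020000000592412058c2f8000120004b800004600e040fc8ac430d060e21b5b0000b58a208844008004811000030001029c0008c0c00051901a0808030043010ad9d56009f00070961000020900000000000000080000000000401c010000
set_option linter.all false
open scoped Cfsg.Agent.FastGrp

/-!
# Odd dimensional modules of crossed products with 2-groups (helper10)
-/

set_option autoImplicit false

namespace Cfsg.Agent.ODD.AH

open Module

variable {V : Type} [AddCommGroup V] [Module ℂ V] [FiniteDimensional ℂ V]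

/-- Clifford theory for a 2-group in odd dimension -/
theorem clifford {C : Type} [Group C] [Finite C] (hC : IsPGroup 2 C) (T : C →* End ℂ V) (P : Set (End ℂ V))
    (hn : ∀ c, ∀ b ∈ P, ∃ b' ∈ P, b * T c = T c * b') (hodd : Odd (finrank ℂ V))
    (irr : ∀ U : Submodule ℂ V, (∀ b ∈ P, ∀ v ∈ U, b v ∈ U) → (∀ c, ∀ v ∈ U, T c v ∈ U) → U = ⊥ ∨ U = ⊤)
    (U : Submodule ℂ V) (hU : ∀ b ∈ P, ∀ v ∈ U, b v ∈ U) : U = ⊥ ∨ U = ⊤ := by
  have key : ∀ (k : ℕ) (K : Subgroup C), Nat.card K = 2 ^ k →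
      (∀ U : Submodule ℂ V, (∀ b ∈ P, ∀ v ∈ U, b v ∈ U) → (∀ c ∈ K, ∀ v ∈ U, T c v ∈ U) → U = ⊥ ∨ U = ⊤) →
      U = ⊥ ∨ U = ⊤ := by
    intro k
    induction k with
    | zero =>
      intro K hK h
      refine h U hU fun c hc v hv => ?_
      rw [Subgroup.eq_bot_of_card_eq K hK, Subgroup.mem_bot] at hc
      rwa [hc, map_one]
    | succ k ih =>
      intro K hK h
      obtain ⟨L, hL, hc⟩ := Sylow.exists_subgroup_le_card_pow_prime_of_le_card (n := k) Nat.prime_two hC (H := K)
        (by rw [hK]; exact Nat.pow_le_pow_right two_pos (Nat.le_succ k))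
      have hi : (L.subgroupOf K).index = 2 := by
        have h1 := (L.subgroupOf K).card_mul_index
        rw [Nat.card_congr (Subgroup.subgroupOfEquivOfLe hL).toEquiv, hc, hK, pow_succ] at h1
        exact Nat.eq_of_mul_eq_mul_left (by positivity) h1
      have hm : ∀ x ∈ K, ∀ y ∈ K, (x * y ∈ L ↔ (x ∈ L ↔ y ∈ L)) := fun x hx y hy =>
        Subgroup.mul_mem_iff_of_index_two hi (a := ⟨x, hx⟩) (b := ⟨y, hy⟩)
      obtain ⟨a, ha, haL, -⟩ := Subgroup.relIndex_eq_two_iff_exists_notMem_and.1 hi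
      refine ih L hc fun X hX hXL => ?_
      by_cases h0 : X = ⊥
      · exact Or.inl h0
      right
      have hinj : Function.Injective (T a) := fun x y e => by
        have h1 := congrArg (T a⁻¹) e
        rwa [← End.mul_apply, ← End.mul_apply, ← map_mul, inv_mul_cancel, map_one] at h1
      have hP' : ∀ b ∈ P, ∀ v ∈ X.map (T a), b v ∈ X.map (T a) := by
        rintro b hb _ ⟨v, hv, rfl⟩
        obtain ⟨b', hb', e⟩ := hn a b hb
        exact ⟨b' v, hX b' hb' v hv, by rw [← End.mul_apply, ← e, End.mul_apply]⟩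
      have haL' : a⁻¹ ∉ L := fun h => haL (inv_mem_iff.1 h)
      have h1 : ∀ c ∈ K, c ∉ L → ∀ v ∈ X, T c v ∈ X.map (T a) := fun c hc hcL v hv =>
        ⟨T (a⁻¹ * c) v, hXL _ ((hm _ (inv_mem ha) _ hc).2 (iff_of_false haL' hcL)) v hv, by
          rw [← End.mul_apply, ← map_mul, mul_inv_cancel_left]⟩
      have h2 : ∀ c ∈ K, c ∉ L → ∀ v ∈ X.map (T a), T c v ∈ X := by
        rintro c hc hcL _ ⟨v, hv, rfl⟩
        rw [← End.mul_apply, ← map_mul]
        exact hXL _ ((hm _ hc _ ha).2 (iff_of_false hcL haL)) v hv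
      have h3 : ∀ c ∈ L, ∀ v ∈ X.map (T a), T c v ∈ X.map (T a) := by
        rintro c hc _ ⟨v, hv, rfl⟩
        rw [← End.mul_apply, ← map_mul]
        exact h1 _ (mul_mem (hL hc) ha) (fun h => haL (((hm _ (hL hc) _ ha).1 h).1 hc)) v hv
      have hs := h (X ⊔ X.map (T a)) (fun b hb v hv => by
        obtain ⟨x, hx, y, hy, rfl⟩ := Submodule.mem_sup.1 hv
        rw [map_add]
        exact Submodule.add_mem_sup (hX b hb x hx) (hP' b hb y hy)) fun c hc v hv => by
          obtain ⟨x, hx, y, hy, rfl⟩ := Submodule.mem_sup.1 hv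
          rw [map_add]
          by_cases hcL : c ∈ L
          · exact Submodule.add_mem_sup (hXL c hcL x hx) (h3 c hcL y hy)
          · rw [add_comm]
            exact Submodule.add_mem_sup (h2 c hc hcL y hy) (h1 c hc hcL x hx)
      have hi' := h (X ⊓ X.map (T a)) (fun b hb v hv => ⟨hX b hb v hv.1, hP' b hb v hv.2⟩) fun c hc v hv => by
        by_cases hcL : c ∈ L
        · exact ⟨hXL c hcL v hv.1, h3 c hcL v hv.2⟩
        · exact ⟨h2 c hc hcL v hv.2, h1 c hc hcL v hv.1⟩
      rcases hi' with h4 | h4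
      · exfalso
        have h5 := hs.resolve_left fun e => h0 (le_bot_iff.1 (le_sup_left.trans e.le))
        have h6 := Submodule.finrank_sup_add_finrank_inf_eq X (X.map (T a))
        rw [h4, h5, finrank_bot, finrank_top, ← (Submodule.equivMapOfInjective _ hinj X).finrank_eq] at h6
        obtain ⟨m, hm⟩ := hodd
        omega
      · exact top_le_iff.1 (h4.ge.trans inf_le_left)
  have := Fact.mk Nat.prime_two
  obtain ⟨k, hk⟩ := IsPGroup.iff_card.1 hC
  exact key k ⊤ (by rw [Subgroup.card_top, hk]) fun X h1 h2 => irr X h1 fun c => h2 c trivial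

/-- Burnside's theorem -/
theorem burnside [Nontrivial V] (A : Subalgebra ℂ (End ℂ V))
    (hW : ∀ U : Submodule ℂ V, (∀ b ∈ A, ∀ v ∈ U, b v ∈ U) → U = ⊥ ∨ U = ⊤) (a : End ℂ V) : a ∈ A := by
  classical
  have hsimple : IsSimpleModule A V := by
    refine { exists_pair_ne := ⟨⊥, ⊤, bot_ne_top⟩, eq_bot_or_eq_top := fun W => ?_ }
    rcases hW ((W.restrictScalars ℂ :)) (fun g hg v hv => W.smul_mem ⟨g, hg⟩ hv) with h | h
    · left
      exact (Submodule.restrictScalars_eq_bot_iff ℂ A V).1 h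
    · right
      exact (Submodule.restrictScalars_eq_top_iff ℂ A V).1 h
  have hsc := ((IsSimpleModule.algebraMap_end_bijective_of_isAlgClosed (A := A) (V := V) ℂ).2 :)
  let f : Module.End (Module.End A V) V :=
    { toFun := a
      map_add' := map_add a
      map_smul' := by
        intro φ v
        obtain ⟨c, rfl⟩ := hsc φ
        show a (((algebraMap ℂ (Module.End A V) c) v :)) = (algebraMap ℂ (Module.End A V) c) (a v)
        rw [Module.algebraMap_end_apply, Module.algebraMap_end_apply, map_smul] }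
  let b := Module.finBasis ℂ V
  obtain ⟨r, hr⟩ := jacobson_density f (Finset.univ.image b)
  have : a = (r : V →ₗ[ℂ] V) := by
    apply b.ext
    intro i
    exact hr (b i) (Finset.mem_image_of_mem _ (Finset.mem_univ _))
  rw [this]
  exact r.2

theorem eq_zero_of_trace {f : End ℂ V} (h : ∀ g : End ℂ V, LinearMap.trace ℂ V (f * g) = 0) : f = 0 := by
  ext v
  refine (Module.forall_dual_apply_eq_zero_iff ℂ _).1 fun φ => ?_
  have h1 := h (φ.smulRight v)
  have e : f * φ.smulRight v = (φ : V →ₗ[ℂ] ℂ).smulRight (f v) := by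
    ext x
    simp only [_root_.Module.End.mul_apply, _root_.LinearMap.coe_smulRight, _root_.map_smul]
  rwa [e, LinearMap.trace_smulRight] at h1

variable {𝒜 : Type} [Ring 𝒜] [Algebra ℂ 𝒜]

/-- a representation of the corner `E 𝒜 E` -/
structure Crn (E : 𝒜) (r : 𝒜 →ₗ[ℂ] End ℂ V) : Prop where
  one : r E = 1
  mul : ∀ x y, E * y = y → r (x * y) = r x * r y

/-- a crossed product inside the corner -/
structure Crs (E : 𝒜) (B : Submodule ℂ 𝒜) {C : Type} [Group C] (T : C → 𝒜) : Prop where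
  one : E ∈ B
  left : ∀ b ∈ B, E * b = b
  right : ∀ b ∈ B, b * E = b
  mul : ∀ b ∈ B, ∀ b' ∈ B, b * b' ∈ B
  T_one : T 1 = E
  T_mul : ∀ c c', T c * T c' = T (c * c')
  norm : ∀ c, ∀ b ∈ B, ∃ b' ∈ B, b * T c = T c * b'

variable {E : 𝒜} {B : Submodule ℂ 𝒜} {C : Type} [Group C] {T : C → 𝒜}

theorem Crs.E_T (h : Crs E B T) (c : C) : E * T c = T c := by rw [← h.T_one, h.T_mul, one_mul]

/-- the operators of the complement -/
def Crs.hom (h : Crs E B T) {r : 𝒜 →ₗ[ℂ] End ℂ V} (hr : Crn E r) : C →* End ℂ V where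
  toFun c := r (T c)
  map_one' := by rw [h.T_one, hr.one]
  map_mul' c c' := by rw [← h.T_mul, hr.mul _ _ (h.E_T c')]

theorem Crs.surj [Finite C] (h : Crs E B T) {r : 𝒜 →ₗ[ℂ] End ℂ V} (hr : Crn E r) (hC : IsPGroup 2 C)
    (hodd : Odd (finrank ℂ V)) (hs : ∀ f, ∃ x ∈ Submodule.span ℂ {x | ∃ c, ∃ b ∈ B, x = T c * b}, r x = f) (f : End ℂ V) :
    ∃ b ∈ B, r b = f := by
  have : Nontrivial V := Module.nontrivial_of_finrank_pos hodd.pos
  let A : Subalgebra ℂ (End ℂ V) := (B.map r).toSubalgebra ⟨E, h.one, hr.one⟩ (by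
    rintro _ _ ⟨x, hx, rfl⟩ ⟨y, hy, rfl⟩
    exact ⟨x * y, h.mul x hx y hy, hr.mul x y (h.left y hy)⟩)
  refine burnside A (clifford hC (h.hom hr) A ?_ hodd fun U h1 h2 => ?_) f
  · rintro c _ ⟨b, hb, rfl⟩
    obtain ⟨b', hb', e⟩ := h.norm c b hb
    refine ⟨r b', ⟨b', hb', rfl⟩, ?_⟩
    show r b * r (T c) = r (T c) * r b'
    rw [← hr.mul _ _ (h.E_T c), e, hr.mul _ _ (h.left b' hb')]
  · have h3 : ∀ x ∈ Submodule.span ℂ {x | ∃ c, ∃ b ∈ B, x = T c * b}, ∀ v ∈ U, r x v ∈ U := by
      intro x hx v hv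
      induction hx using Submodule.span_induction with
      | mem x hx =>
        obtain ⟨c, b, hb, rfl⟩ := hx
        rw [hr.mul _ _ (h.left b hb)]
        exact h2 c _ (h1 _ ⟨b, hb, rfl⟩ v hv)
      | zero => simp
      | add x y _ _ hx hy =>
        rw [map_add]
        exact add_mem hx hy
      | smul c x _ hx =>
        rw [map_smul]
        exact U.smul_mem c hx
    by_cases h0 : U = ⊥
    · exact Or.inl h0
    obtain ⟨v, hv, hv0⟩ := Submodule.exists_mem_ne_zero_of_ne_bot h0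
    refine Or.inr (eq_top_iff.2 fun w _ => ?_)
    obtain ⟨φ, hφ⟩ := Module.Projective.exists_dual_eq_one ℂ hv0
    obtain ⟨x, hx, e⟩ := hs (φ.smulRight w)
    have h4 := h3 x hx v hv
    rwa [e, LinearMap.smulRight_apply, hφ, one_smul] at h4

/-- comparison of two representations with the same character on `B` -/
theorem Crs.compare (h : Crs E B T) {r s : 𝒜 →ₗ[ℂ] End ℂ V} (hr : Crn E r) (hs : Crn E s)
    (hodd : Odd (finrank ℂ V)) (sr : ∀ f, ∃ b ∈ B, r b = f) (ss : ∀ f, ∃ b ∈ B, s b = f)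
    (htr : ∀ b ∈ B, LinearMap.trace ℂ V (r b) = LinearMap.trace ℂ V (s b))
    (hdet : ∀ c, LinearMap.det (r (T c)) = LinearMap.det (s (T c))) (hsgn : ∀ g : C →* ℂˣ, ∀ c, g c * g c = 1)
    (c : C) {b : 𝒜} (hb : b ∈ B) : LinearMap.trace ℂ V (r (T c * b)) = LinearMap.trace ℂ V (s (T c * b)) := by
  have : Nontrivial V := Module.nontrivial_of_finrank_pos hodd.pos
  have ker : ∀ x ∈ B, ∀ y ∈ B, r x = r y → s x = s y := fun x hx y hy e => by
    rw [← sub_eq_zero, ← map_sub]
    refine eq_zero_of_trace fun g => ?_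
    obtain ⟨z, hz, rfl⟩ := ss g
    rw [← hs.mul _ _ (h.left z hz), ← htr _ (h.mul _ (sub_mem hx hy) z hz), hr.mul _ _ (h.left z hz), map_sub, e,
      sub_self, zero_mul, map_zero]
  choose l hl el using sr
  have hφ : ∀ x ∈ B, s (l (r x)) = s x := fun x hx => ker _ (hl _) _ hx (el _)
  let φ₀ : End ℂ V →ₗ[ℂ] End ℂ V :=
    { toFun := fun f => s (l f)
      map_add' := fun f g => by
        rw [← map_add]
        exact ker _ (hl _) _ (add_mem (hl f) (hl g)) (by rw [map_add, el, el, el])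
      map_smul' := fun a f => by
        rw [RingHom.id_apply, ← map_smul]
        exact ker _ (hl _) _ (B.smul_mem a (hl f)) (by rw [map_smul, el, el]) }
  let φ₁ : End ℂ V →ₐ[ℂ] End ℂ V := AlgHom.ofLinearMap φ₀
    (by
      show s (l 1) = 1
      have h1 := hφ _ h.one
      rwa [hr.one, hs.one] at h1)
    fun f g => by
      show s (l (f * g)) = s (l f) * s (l g)
      rw [← hs.mul _ _ (h.left _ (hl g))]
      exact ker _ (hl _) _ (h.mul _ (hl f) _ (hl g)) (by rw [hr.mul _ _ (h.left _ (hl g)), el, el, el])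
  have hsurj : Function.Surjective φ₀ := fun f => by
    obtain ⟨x, hx, rfl⟩ := ss f
    exact ⟨r x, hφ x hx⟩
  let φ : End ℂ V ≃ₐ[ℂ] End ℂ V := AlgEquiv.ofBijective φ₁ ⟨LinearMap.injective_iff_surjective.2 hsurj, hsurj⟩
  have φ_apply : ∀ f, φ f = s (l f) := fun _ => rfl
  have hγ : ∀ c, ∃ γ : ℂ, φ (r (T c)) = γ • s (T c) := fun c => by
    have h1 : s (T c⁻¹) * φ (r (T c)) ∈ Subalgebra.center ℂ (End ℂ V) := by
      rw [Subalgebra.mem_center_iff]
      intro g
      obtain ⟨x, hx, rfl⟩ := ss g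
      obtain ⟨x', hx', e⟩ := h.norm c⁻¹ x hx
      have e1 : T c * x = x' * T c := by
        calc T c * x = T c * (x * T c⁻¹) * T c := by
              rw [mul_assoc, mul_assoc, h.T_mul, inv_mul_cancel, h.T_one, h.right x hx]
          _ = x' * T c := by rw [e, ← mul_assoc, h.T_mul, mul_inv_cancel, h.T_one, h.left x' hx']
      have e2 : φ (r (T c)) * s x = s x' * φ (r (T c)) := by
        rw [← hφ x hx, ← hφ x' hx', ← φ_apply, ← φ_apply, ← map_mul φ, ← map_mul φ, ← hr.mul _ _ (h.left x hx), e1,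
          hr.mul _ _ (h.E_T c)]
      rw [← mul_assoc, ← hs.mul _ _ (h.E_T _), e, hs.mul _ _ (h.left x' hx'), mul_assoc, mul_assoc, e2]
    obtain ⟨γ, e⟩ := (Algebra.IsCentral.mem_center_iff ℂ).1 h1
    refine ⟨γ, ?_⟩
    calc φ (r (T c)) = s (T c) * (s (T c⁻¹) * φ (r (T c))) := by
          rw [← mul_assoc, ← hs.mul _ _ (h.E_T _), h.T_mul, mul_inv_cancel, h.T_one, hs.one, one_mul]
      _ = γ • s (T c) := by rw [e, Algebra.algebraMap_eq_smul_one, mul_smul_comm, mul_one]
  choose γ hγ using hγ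
  have hu : ∀ c, IsUnit (s (T c)) := fun c => (Group.isUnit c).map (h.hom hs)
  have hmul : ∀ c c', γ (c * c') = γ c * γ c' := fun c c' => by
    have h1 := hγ (c * c')
    rw [← h.T_mul, hr.mul _ _ (h.E_T _), map_mul, hγ, hγ, smul_mul_smul_comm, ← hs.mul _ _ (h.E_T _), h.T_mul] at h1
    exact (smul_left_injective ℂ (hu _).ne_zero h1).symm
  have hone : γ 1 = 1 := by
    have h1 := hγ 1
    rw [h.T_one, hr.one, hs.one, map_one] at h1
    exact smul_left_injective ℂ (one_ne_zero (α := End ℂ V)) (h1.symm.trans (one_smul _ _).symm)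
  have h2 : γ c * γ c = 1 := by
    have h3 := congrArg Units.val (hsgn (MonoidHom.toHomUnits ⟨⟨γ, hone⟩, hmul⟩) c)
    simpa only [_root_.Units.val_mul, _root_.MonoidHom.coe_toHomUnits, _root_.MonoidHom.coe_mk, _root_.OneHom.coe_mk, _root_.Units.val_one] using h3
  have h3 : γ c ^ finrank ℂ V = 1 := by
    have h4 := LinearMap.det_map φ (r (T c))
    rw [hγ, LinearMap.det_smul, hdet] at h4
    exact mul_right_cancel₀ ((hu c).map LinearMap.det).ne_zero (h4.trans (one_mul _).symm)
  have h4 : γ c = 1 := by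
    obtain ⟨m, hm⟩ := hodd
    rwa [hm, pow_succ, pow_mul, pow_two, h2, one_pow, one_mul] at h3
  have h5 := hγ c
  rw [h4, one_smul, φ_apply] at h5
  rw [hr.mul _ _ (h.left b hb), hs.mul _ _ (h.left b hb), ← h5, ← el (r (T c)), ← hr.mul _ _ (h.left b hb), el,
    ← hs.mul _ _ (h.left b hb)]
  exact htr _ (h.mul _ (hl _) b hb)

end Cfsg.Agent.ODD.AH
end

-- part: ODD/AH/Main
section
prune_inst 0x40000040010220000001800104000084248000020004000000402080404c02440080008218180000f422208040000002811000020422029c00a8c0000051800800000000000000099400080000708600000209000000000000000000000000000010000000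
set_option linter.all false
open scoped Cfsg.Agent.FastGrp

-- part: ODD/AH/Cox
section
/-!
# Reflection subgroups of a Coxeter group (helper10)

`Ref` is a set of reflections inside `K` which is stable under conjugation by `K`.  `Dl` is the canonical set of simple
reflections of `R = closure Ref`, `CC` the complement of `R` in `K`.
-/

set_option autoImplicit false

namespace Cfsg.Agent.ODD.AH

open Cfsg.Agent.Tits.Exchange Cfsg.Agent.LieExceptional.CoxeterExchange

variable {I W : Type} [Group W] {M : CoxeterMatrix I} (cs : CoxeterSystem M W)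

theorem z2_add_self (a : ZMod 2) : a + a = 0 := by
  revert a
  decide

theorem z2_cases (a : ZMod 2) : a = 0 ∨ a = 1 := by
  revert a
  decide

theorem nn_inv (w r : W) : nn cs w⁻¹ (w * r * w⁻¹) = nn cs w r := by
  have h := nn_mul cs w⁻¹ w r
  rw [inv_mul_cancel, nn_one] at h
  have h2 := z2_add_self (nn cs w r)
  linear_combination -h2 - h

theorem nn_inv' (w r : W) : nn cs w (w⁻¹ * r * w) = nn cs w⁻¹ r := by
  have h := nn_inv cs w⁻¹ r
  rwa [inv_inv] at h

/-- a stable set of reflections -/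
structure RS (K : Subgroup W) (Ref : Set W) : Prop where
  refl : ∀ r ∈ Ref, cs.IsReflection r
  le : ∀ r ∈ Ref, r ∈ K
  conj : ∀ w ∈ K, ∀ r ∈ Ref, w * r * w⁻¹ ∈ Ref

/-- no inversion in `Ref` -/
def Cl (Ref : Set W) (u : W) : Prop := ∀ r ∈ Ref, nn cs u r = 0

/-- the simple reflections of the reflection subgroup -/
def Dl (Ref : Set W) : Set W := {a | a ∈ Ref ∧ ∃ u i, a = u⁻¹ * cs.simple i * u ∧ Cl cs Ref u}

/-- the simple reflections as elements of the reflection subgroup -/
def sg (Ref : Set W) (a : Dl cs Ref) : Subgroup.closure Ref := ⟨a, Subgroup.subset_closure a.2.1⟩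

theorem sg_injective (Ref : Set W) : Function.Injective (sg cs Ref) := fun _ _ h =>
  Subtype.ext (congrArg (fun x : Subgroup.closure Ref => (x : W)) h)

theorem cl_one (Ref : Set W) : Cl cs Ref 1 := fun r _ => nn_one cs r

namespace RS

variable {cs} {K : Subgroup W} {Ref : Set W} (h : RS cs K Ref)
include h

theorem closure_le : Subgroup.closure Ref ≤ K := (Subgroup.closure_le _).2 h.le

theorem conj' {w r : W} (hw : w ∈ K) (hr : r ∈ Ref) : w⁻¹ * r * w ∈ Ref := by
  simpa only [_root_.inv_inv] using h.conj w⁻¹ (inv_mem hw) r hr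

theorem conj_closure {w r : W} (hw : w ∈ K) (hr : r ∈ Subgroup.closure Ref) : w * r * w⁻¹ ∈ Subgroup.closure Ref := by
  induction hr using Subgroup.closure_induction with
  | mem x hx => exact Subgroup.subset_closure (h.conj w hw x hx)
  | one => simp
  | mul x y _ _ hx hy =>
    have e : w * (x * y) * w⁻¹ = w * x * w⁻¹ * (w * y * w⁻¹) := by group
    rw [e]
    exact mul_mem hx hy
  | inv x _ hx =>
    have e : w * x⁻¹ * w⁻¹ = (w * x * w⁻¹)⁻¹ := by group
    rw [e]
    exact inv_mem hx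

theorem cl_mul {u c : W} (hu : Cl cs Ref u) (hc : Cl cs Ref c) (hK : c ∈ K) : Cl cs Ref (u * c) := fun r hr => by
  rw [nn_mul, hc r hr, hu _ (h.conj c hK r hr), add_zero]

theorem cl_inv {c : W} (hc : Cl cs Ref c) (hK : c ∈ K) : Cl cs Ref c⁻¹ := fun r hr => by
  rw [← nn_inv', hc _ (h.conj' hK hr)]

/-- the complement -/
def CC : Subgroup W where
  carrier := {c | c ∈ K ∧ Cl cs Ref c}
  one_mem' := ⟨one_mem _, cl_one cs Ref⟩
  mul_mem' := fun ha hb => ⟨mul_mem ha.1 hb.1, h.cl_mul ha.2 hb.2 hb.1⟩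
  inv_mem' := fun ha => ⟨inv_mem ha.1, h.cl_inv ha.2 ha.1⟩

theorem nn_dl {a r : W} (ha : a ∈ Dl cs Ref) (hr : r ∈ Ref) : nn cs a r = ind r a := by
  obtain ⟨ha, u, i, e, hu⟩ := ha
  have e1 : cs.simple i * u * r * (cs.simple i * u)⁻¹ = u * (a * r * a⁻¹) * u⁻¹ := by
    rw [e]
    group
  have e2 : ind (u * r * u⁻¹) (cs.simple i) = ind r a := by
    apply ind_congr
    rw [e]
    constructor
    · intro h1
      rw [← h1]
      group
    · intro h1
      rw [h1]
      group
  calc nn cs a r = nn cs (u⁻¹ * (cs.simple i * u)) r := by rw [e, mul_assoc]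
    _ = ind r a := by
      rw [nn_mul, e1, nn_inv, hu _ (h.conj a (h.le a ha) r hr), nn_mul, hu r hr, nn_simple, e2, zero_add, add_zero]

theorem conj_dl {c a : W} (hc : c ∈ h.CC) (ha : a ∈ Dl cs Ref) : c * a * c⁻¹ ∈ Dl cs Ref := by
  obtain ⟨ha, u, i, e, hu⟩ := ha
  refine ⟨h.conj c hc.1 a ha, u * c⁻¹, i, ?_, h.cl_mul hu (h.cl_inv hc.2 hc.1) (inv_mem hc.1)⟩
  rw [e]
  group

omit h in
theorem exists_cl (w : W) : ∃ ρ ∈ Subgroup.closure (Dl cs Ref), Cl cs Ref (w * ρ) := by
  induction w using cs.simple_induction_left with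
  | one => exact ⟨1, one_mem _, by simpa using cl_one cs Ref⟩
  | mul_simple_left w i ih =>
    obtain ⟨ρ, hρ, hu⟩ := ih
    by_cases ha : (w * ρ)⁻¹ * cs.simple i * (w * ρ) ∈ Ref
    · refine ⟨ρ * ((w * ρ)⁻¹ * cs.simple i * (w * ρ)), mul_mem hρ (Subgroup.subset_closure ⟨ha, _, i, rfl, hu⟩), ?_⟩
      have e : cs.simple i * w * (ρ * ((w * ρ)⁻¹ * cs.simple i * (w * ρ))) = cs.simple i * cs.simple i * (w * ρ) := by
        group
      rwa [e, cs.simple_mul_simple_self, one_mul]
    · refine ⟨ρ, hρ, fun r hr => ?_⟩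
      rw [mul_assoc, nn_mul, hu r hr, nn_simple, zero_add]
      refine ind_of_ne fun e => ha ?_
      have e' : (w * ρ)⁻¹ * (w * ρ * r * (w * ρ)⁻¹) * (w * ρ) = r := by group
      rwa [← e, e']

theorem closure_dl : Subgroup.closure (Dl cs Ref) = Subgroup.closure Ref := by
  have h1 : Subgroup.closure (Dl cs Ref) ≤ Subgroup.closure Ref := Subgroup.closure_mono fun _ ha => ha.1
  refine le_antisymm h1 ((Subgroup.closure_le _).2 fun r hr => ?_)
  obtain ⟨w, i, e⟩ := h.refl r hr
  obtain ⟨ρ, hρ, hu⟩ := exists_cl (cs := cs) (Ref := Ref) w⁻¹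
  have h2 : ρ⁻¹ * r * ρ ∈ Dl cs Ref := by
    refine ⟨h.conj' (h.closure_le (h1 hρ)) hr, w⁻¹ * ρ, i, ?_, hu⟩
    rw [e]
    group
  have e2 : r = ρ * (ρ⁻¹ * r * ρ) * ρ⁻¹ := by group
  rw [e2]
  exact mul_mem (mul_mem hρ (Subgroup.subset_closure h2)) (inv_mem hρ)

theorem exists_dec {w : W} (hw : w ∈ K) : ∃ c ∈ h.CC, ∃ r ∈ Subgroup.closure Ref, w = c * r := by
  obtain ⟨ρ, hρ, hu⟩ := exists_cl (cs := cs) (Ref := Ref) w
  rw [h.closure_dl] at hρ
  exact ⟨w * ρ, ⟨mul_mem hw (h.closure_le hρ), hu⟩, ρ⁻¹, inv_mem hρ, by group⟩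

theorem sg_sq (a : Dl cs Ref) : sg cs Ref a * sg cs Ref a = 1 := Subtype.ext (h.refl a a.2.1).mul_self

theorem sg_gen (w : Subgroup.closure Ref) : ∃ ω : List (Dl cs Ref), wp (sg cs Ref) ω = w := by
  obtain ⟨w, hw⟩ := w
  have hw' : w ∈ Subgroup.closure (Dl cs Ref) := h.closure_dl.symm ▸ hw
  have key : ∃ ω : List (Dl cs Ref), ((wp (sg cs Ref) ω : Subgroup.closure Ref) : W) = w := by
    clear hw
    induction hw' using Subgroup.closure_induction_left with
    | one => exact ⟨[], rfl⟩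
    | mul_left x hx y _ ih =>
      obtain ⟨ω, e⟩ := ih
      exact ⟨⟨x, hx⟩ :: ω, by rw [wp_cons, Subgroup.coe_mul, e]; rfl⟩
    | inv_mul_cancel x hx y _ ih =>
      obtain ⟨ω, e⟩ := ih
      exact ⟨⟨x, hx⟩ :: ω, by rw [wp_cons, Subgroup.coe_mul, e, (h.refl x hx.1).inv]; rfl⟩
  obtain ⟨ω, e⟩ := key
  exact ⟨ω, Subtype.ext e⟩

theorem nn_left {a r : W} (ha : a ∈ Dl cs Ref) (hr : r ∈ Ref) (w : W) :
    nn cs (a * w)⁻¹ r = ind r a + nn cs w⁻¹ (a * r * a) := by
  rw [mul_inv_rev, (h.refl a ha.1).inv, nn_mul, h.nn_dl ha hr, (h.refl a ha.1).inv]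

theorem exch1 (ω : List (Dl cs Ref)) : ∀ r ∈ Ref, nn cs ((wp (sg cs Ref) ω : Subgroup.closure Ref) : W)⁻¹ r = 1 →
    ∃ (ω₁ : List (Dl cs Ref)) (b : Dl cs Ref) (ω₂ : List (Dl cs Ref)), ω = ω₁ ++ b :: ω₂ ∧
      r * (wp (sg cs Ref) ω₁ : Subgroup.closure Ref) = (wp (sg cs Ref) ω₁ : Subgroup.closure Ref) * (b : W) := by
  induction ω with
  | nil =>
    intro r _ h1
    rw [wp_nil, OneMemClass.coe_one, inv_one, nn_one] at h1
    exact absurd h1 (by decide)
  | cons a ω ih =>
    intro r hr h1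
    by_cases e : r = a
    · exact ⟨[], a, ω, rfl, by rw [wp_nil, OneMemClass.coe_one, one_mul, mul_one, e]⟩
    · rw [wp_cons, Subgroup.coe_mul] at h1
      have h2 := h.nn_left a.2 hr ((wp (sg cs Ref) ω : Subgroup.closure Ref) : W)
      rw [ind_of_ne e, zero_add] at h2
      have h3 : (a : W) * r * a ∈ Ref := by
        have := h.conj a (h.le a a.2.1) r hr
        rwa [(h.refl a a.2.1).inv] at this
      obtain ⟨ω₁, b, ω₂, e1, e2⟩ := ih _ h3 (h2.symm.trans h1)
      refine ⟨a :: ω₁, b, ω₂, by rw [e1]; rfl, ?_⟩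
      rw [wp_cons, Subgroup.coe_mul]
      show r * ((a : W) * _) = (a : W) * _ * _
      rw [mul_assoc, ← e2, ← mul_assoc, ← mul_assoc, ← mul_assoc, ← mul_assoc, (h.refl a a.2.1).mul_self, one_mul]

theorem shorter {a : Dl cs Ref} {ω : List (Dl cs Ref)}
    (h1 : nn cs ((wp (sg cs Ref) ω : Subgroup.closure Ref) : W)⁻¹ a = 1) :
    ∃ ω', wp (sg cs Ref) ω' = sg cs Ref a * wp (sg cs Ref) ω ∧ ω'.length + 1 = ω.length := by
  obtain ⟨ω₁, b, ω₂, e1, e2⟩ := h.exch1 ω a a.2.1 h1
  have e3 : sg cs Ref a * wp (sg cs Ref) ω₁ = wp (sg cs Ref) ω₁ * sg cs Ref b := Subtype.ext e2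
  refine ⟨ω₁ ++ ω₂, ?_, by simp [e1]; omega⟩
  rw [e1, wp_append, wp_append, wp_cons, ← mul_assoc, e3, mul_assoc, ← mul_assoc (sg cs Ref b), h.sg_sq, one_mul]

theorem red_cons {a : Dl cs Ref} {ω : List (Dl cs Ref)} (hω : IsRed (sg cs Ref) ω)
    (h0 : nn cs ((wp (sg cs Ref) ω : Subgroup.closure Ref) : W)⁻¹ a = 0) : IsRed (sg cs Ref) (a :: ω) := by
  intro ω' e
  have h1 : nn cs ((wp (sg cs Ref) ω' : Subgroup.closure Ref) : W)⁻¹ a = 1 := by
    rw [e, wp_cons, Subgroup.coe_mul]
    have h2 := h.nn_left a.2 a.2.1 ((wp (sg cs Ref) ω : Subgroup.closure Ref) : W)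
    rw [ind_of_eq rfl, (h.refl a a.2.1).mul_self, one_mul, h0, add_zero] at h2
    exact h2
  obtain ⟨ω'', e1, e2⟩ := h.shorter h1
  rw [e, wp_cons, ← mul_assoc, h.sg_sq, one_mul] at e1
  have := hω ω'' e1
  simp only [List.length_cons]
  omega

theorem nn_of_red {a : Dl cs Ref} {ω : List (Dl cs Ref)} (hω : IsRed (sg cs Ref) (a :: ω)) :
    nn cs ((wp (sg cs Ref) ω : Subgroup.closure Ref) : W)⁻¹ a = 0 := by
  refine (z2_cases _).resolve_right fun h1 => ?_
  obtain ⟨ω', e1, e2⟩ := h.shorter h1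
  have := hω ω' (by rw [e1, wp_cons])
  simp only [List.length_cons] at this
  omega

theorem exchange : Exchange (sg cs Ref) := by
  intro b ω hω hb
  have h1 := (z2_cases _).resolve_left fun h0 => hb (h.red_cons hω h0)
  obtain ⟨ω₁, a, ω₂, e1, e2⟩ := h.exch1 ω b b.2.1 h1
  exact ⟨ω₁, a, ω₂, e1, Subtype.ext e2⟩

theorem exists_red (w : Subgroup.closure Ref) : ∃ ω, IsRed (sg cs Ref) ω ∧ wp (sg cs Ref) ω = w := by
  classical
  have hex : ∃ n, ∃ ω : List (Dl cs Ref), wp (sg cs Ref) ω = w ∧ ω.length = n := by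
    obtain ⟨ω, e⟩ := h.sg_gen w
    exact ⟨_, ω, e, rfl⟩
  obtain ⟨ω, e, hl⟩ := Nat.find_spec hex
  exact ⟨ω, fun ω' e' => hl ▸ Nat.find_min' hex ⟨ω', e'.trans e, rfl⟩, e⟩

theorem eq_one_of_cl {w : W} (hw : w ∈ Subgroup.closure Ref) (hc : Cl cs Ref w) : w = 1 := by
  obtain ⟨ω, hω, e⟩ := h.exists_red ⟨w, hw⟩
  cases ω with
  | nil => exact (congrArg Subtype.val e).symm
  | cons a ω =>
    exfalso
    have h0 := h.nn_of_red hω
    have h2 := h.nn_left a.2 a.2.1 ((wp (sg cs Ref) ω : Subgroup.closure Ref) : W)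
    rw [ind_of_eq rfl, (h.refl a a.2.1).mul_self, one_mul, h0, add_zero] at h2
    have e' : (a : W) * (wp (sg cs Ref) ω : Subgroup.closure Ref) = w := by
      rw [wp_cons] at e
      exact congrArg Subtype.val e
    rw [e', h.cl_inv hc (h.closure_le hw) a a.2.1] at h2
    exact absurd h2 (by decide)

omit h in
theorem alt_prefix {B : Type} : ∀ (ω₁ : List B) (x y b : B) (ω₂ : List B) (k : ℕ), alt x y k = ω₁ ++ b :: ω₂ →
    ω₁ = alt x y ω₁.length ∧ ω₁ ++ [b] = alt x y (ω₁.length + 1) := by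
  intro ω₁
  induction ω₁ with
  | nil =>
    intro x y b ω₂ k e
    cases k with
    | zero => simp [alt_zero] at e
    | succ k =>
      rw [alt_succ] at e
      obtain ⟨e1, -⟩ := List.cons.inj e
      exact ⟨rfl, by rw [← e1]; rfl⟩
  | cons c ω₁ ih =>
    intro x y b ω₂ k e
    cases k with
    | zero => simp [alt_zero] at e
    | succ k =>
      rw [alt_succ, List.cons_append] at e
      obtain ⟨e1, e2⟩ := List.cons.inj e
      obtain ⟨h1, h2⟩ := ih y x b ω₂ k e2
      refine ⟨?_, ?_⟩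
      · rw [List.length_cons, alt_succ, ← h1, e1]
      · rw [List.length_cons, alt_succ, ← h2, e1, List.cons_append]

theorem alt_red (k : ℕ) : ∀ x y : Dl cs Ref, k ≤ orderOf (sg cs Ref x * sg cs Ref y) → IsRed (sg cs Ref) (alt x y k) := by
  induction k with
  | zero => exact fun _ _ _ => isRed_nil
  | succ k ih =>
    intro x y hk
    have ho : orderOf (sg cs Ref y * sg cs Ref x) = orderOf (sg cs Ref x * sg cs Ref y) := by
      rw [← orderOf_inv, mul_inv_rev, inv_eq_of_mul_eq_one_left (h.sg_sq x), inv_eq_of_mul_eq_one_left (h.sg_sq y)]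
    rw [alt_succ]
    refine h.red_cons (ih y x (by omega)) ((z2_cases _).resolve_right fun h1 => ?_)
    obtain ⟨ω₁, b, ω₂, e1, e2⟩ := h.exch1 _ x x.2.1 h1
    have e3 : sg cs Ref x * wp (sg cs Ref) ω₁ = wp (sg cs Ref) ω₁ * sg cs Ref b := Subtype.ext e2
    obtain ⟨p1, p2⟩ := alt_prefix ω₁ y x b ω₂ k e1
    have e4 : wp (sg cs Ref) (alt x y (ω₁.length + 1)) = wp (sg cs Ref) (alt y x (ω₁.length + 1)) := by
      rw [← p2, alt_succ, ← p1, wp_cons, wp_append, wp_cons, wp_nil, mul_one, e3]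
    have e5 := (pow_eq_one_iff h.sg_sq (x := x) (y := y) _).2 e4
    have h6 := orderOf_le_of_pow_eq_one (Nat.succ_pos _) e5
    have h7 := congrArg List.length e1
    rw [length_alt, List.length_append, List.length_cons] at h7
    omega

/-- the Coxeter system of the reflection subgroup -/
theorem exists_cs : ∃ (M' : CoxeterMatrix (Dl cs Ref)) (cs' : CoxeterSystem M' (Subgroup.closure Ref)),
    (∀ a b, M' a b = orderOf ((a : W) * b)) ∧ (∀ a, cs'.simple a = sg cs Ref a) ∧
    ∀ a ω, IsRed (sg cs Ref) ω → cs'.length (wp (sg cs Ref) ω) < cs'.length (cs'.simple a * wp (sg cs Ref) ω) →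
      IsRed (sg cs Ref) (a :: ω) := by
  obtain ⟨cs', e⟩ := exists_coxeterSystem h.sg_sq (sg_injective cs Ref) h.exchange h.sg_gen
  have hw : ∀ ω, cs'.wordProd ω = wp (sg cs Ref) ω := fun ω => by
    rw [CoxeterSystem.wordProd, wp, show cs'.simple = sg cs Ref from funext e]
  refine ⟨_, cs', fun a b => ?_, e, fun a ω hω hl ω' e' => ?_⟩
  · rw [coxMatrix_apply, ← Subgroup.orderOf_coe]
    rfl
  · obtain ⟨ω₀, h1, h2⟩ := cs'.exists_isReduced (wp (sg cs Ref) ω)
    have h3 := hω ω₀ (by rw [← hw, ← h2])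
    have h4 := cs'.length_wordProd_le ω'
    rw [hw, e', wp_cons, ← e] at h4
    have h5 := h1.eq
    rw [← h2] at h5
    simp only [List.length_cons]
    omega

theorem dec_uniq {c c' r r' : W} (hc : c ∈ h.CC) (hc' : c' ∈ h.CC) (hr : r ∈ Subgroup.closure Ref)
    (hr' : r' ∈ Subgroup.closure Ref) (e : c * r = c' * r') : c = c' := by
  have h1 : c'⁻¹ * c = r' * r⁻¹ := by
    rw [inv_mul_eq_iff_eq_mul, ← mul_assoc, ← e, mul_inv_cancel_right]
  have h2 := h.eq_one_of_cl (h1 ▸ mul_mem hr' (inv_mem hr)) (mul_mem (inv_mem hc') hc).2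
  exact (inv_mul_eq_one.1 h2).symm

/-- the projection onto the complement -/
theorem exists_proj : ∃ f : K →* h.CC, (∀ w : K, (w : W) ∈ Subgroup.closure Ref → f w = 1) ∧
    ∀ c : h.CC, f ⟨c, c.2.1⟩ = c := by
  choose c hc r hr e using fun w : K => h.exists_dec w.2
  refine ⟨MonoidHom.mk' (fun w => ⟨c w, hc w⟩) fun v w => Subtype.ext ?_, fun w hw => Subtype.ext ?_,
    fun d => Subtype.ext ?_⟩
  · refine h.dec_uniq (hc _) (mul_mem (hc v) (hc w)) (hr (v * w))
      (mul_mem (h.conj_closure (inv_mem (hc w).1) (hr v)) (hr w)) ?_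
    rw [← e, Subgroup.coe_mul]
    conv_lhs => rw [e v, e w]
    show _ = c v * c w * _
    group
  · exact h.dec_uniq (hc _) (one_mem _) (hr w) hw ((e w).symm.trans (one_mul _).symm)
  · exact h.dec_uniq (hc _) d.2 (hr ⟨d, d.2.1⟩) (one_mem _) ((e ⟨d, d.2.1⟩).symm.trans (mul_one _).symm)

end RS

end Cfsg.Agent.ODD.AH
end

-- part: ODD/AH/Line
section
/-!
# Weights and lines of an abstract Hecke datum (helper10)

`Ln w ν x`: `x` is a nonzero multiple of `t a * E ν` with `π a = w`.  `Ln.mul`: lines multiply unless a good reflection is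
inverted twice.
-/

set_option autoImplicit false

namespace Cfsg.Agent.ODD.AH.Dat

open Cfsg.Agent.Tits.Exchange

variable {I W : Type} [Group W] {M : CoxeterMatrix I} {cs : CoxeterSystem M W} {N : Type} [Group N] {𝒜 : Type} [Ring 𝒜]
  [Algebra ℂ 𝒜] (D : Dat cs N 𝒜)

theorem one_mul_t (a : N) : D.t 1 * D.t a = D.t a := by rw [← D.t_left 1 a (map_one _), one_mul]

theorem t_mul_one (a : N) : D.t a * D.t 1 = D.t a := by rw [← D.t_right a 1 (map_one _), mul_one]

theorem conj_ker (a : N) {h : N} (hh : D.π h = 1) : D.π (a⁻¹ * h * a) = 1 := by simp only [hh, _root_.map_mul, _root_.map_inv, _root_.mul_one, _root_.inv_mul_cancel]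

theorem act_apply (a : N) (ν : D.Wt) (h : D.π.ker) :
    D.act a ν h = ν ⟨a⁻¹ * h * a, D.conj_ker a h.2⟩ := by
  unfold act
  rw [MonoidHom.comp_apply]
  congr 1
  apply Subtype.ext
  simp only [_root_.map_inv, _root_.MulEquiv.toMonoidHom_eq_coe, _root_.MonoidHom.coe_coe, _root_.MulAut.inv_apply, _root_.MulAut.conjNormal_symm_apply]

theorem act_mul (a b : N) (ν : D.Wt) : D.act (a * b) ν = D.act a (D.act b ν) := by
  ext h
  simp only [act_apply]
  congr 3
  group

theorem act_ker {a : N} (ha : D.π a = 1) (ν : D.Wt) : D.act a ν = ν := by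
  ext h
  rw [act_apply]
  congr 2
  apply Subtype.ext
  show a⁻¹ * h * a = h
  rw [mul_assoc, D.comm h a h.2 ha, inv_mul_cancel_left]

theorem act_one (ν : D.Wt) : D.act 1 ν = ν := D.act_ker (map_one _) ν

theorem act_congr {a b : N} (h : D.π a = D.π b) (ν : D.Wt) : D.act a ν = D.act b ν := by
  have e : a = b * (b⁻¹ * a) := by group
  rw [e, act_mul, D.act_ker (a := b⁻¹ * a) (by simp only [h, _root_.map_mul, _root_.map_inv, _root_.inv_mul_cancel])]

theorem mem_Nl {ν : D.Wt} {a : N} : a ∈ D.Nl ν ↔ D.act a ν = ν := Iff.rfl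

theorem mem_Wl {ν : D.Wt} {a : N} : D.π a ∈ D.Wl ν ↔ a ∈ D.Nl ν :=
  ⟨fun ⟨b, hb, e⟩ => (D.act_congr e.symm ν).trans hb, fun h => ⟨a, h, rfl⟩⟩

theorem π_surj (w : W) : ∃ a, D.π a = w := by
  induction w using cs.simple_induction_left with
  | one => exact ⟨1, map_one _⟩
  | mul_simple_left w i ih =>
    obtain ⟨a, rfl⟩ := ih
    exact ⟨D.n i * a, by rw [map_mul, D.π_n]⟩

theorem n_sq (i : I) : D.π (D.n i * D.n i) = 1 := by rw [map_mul, D.π_n, cs.simple_mul_simple_self]

/-- a left inverse of `t (n i)` -/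
theorem exists_inv_n (i : I) : ∃ y, y * D.t (D.n i) = D.t 1 := by
  obtain ⟨k, hk, h⟩ := D.quad i
  have key : ∀ z ∈ Submodule.span ℂ (D.t '' {a | D.π a = cs.simple i}), ∃ y, z = y * D.t (D.n i) := by
    intro z hz
    induction hz using Submodule.span_induction with
    | mem x hx =>
      obtain ⟨a, ha, rfl⟩ := hx
      refine ⟨D.t (a * (D.n i)⁻¹), ?_⟩
      rw [← D.t_left _ _ (by rw [map_mul, map_inv, D.π_n, ha, mul_inv_cancel]), inv_mul_cancel_right]
    | zero => exact ⟨0, (zero_mul _).symm⟩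
    | add x y _ _ hx hy =>
      obtain ⟨a, rfl⟩ := hx
      obtain ⟨b, rfl⟩ := hy
      exact ⟨a + b, (add_mul _ _ _).symm⟩
    | smul c x _ hx =>
      obtain ⟨a, rfl⟩ := hx
      exact ⟨c • a, (smul_mul_assoc _ _ _).symm⟩
  obtain ⟨y, hy⟩ := key _ h
  have e : D.t (D.n i)⁻¹ = D.t (D.n i * D.n i)⁻¹ * D.t (D.n i) := by
    rw [← D.t_left _ _ (by rw [map_inv, D.n_sq, inv_one])]
    congr 1
    group
  refine ⟨k⁻¹ • (D.t (D.n i) * D.t (D.n i * D.n i)⁻¹ - y), ?_⟩
  rw [smul_mul_assoc, sub_mul, mul_assoc, ← e, ← hy, sub_sub_cancel, smul_smul, inv_mul_cancel₀ hk, one_smul]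

theorem exists_step {a : N} (ha : D.π a ≠ 1) : ∃ i b, a = D.n i * b ∧ cs.length (D.π b) < cs.length (D.π a) ∧
    D.π a = cs.simple i * D.π b := by
  obtain ⟨i, hi⟩ := cs.exists_leftDescent_of_ne_one ha
  have e : D.π ((D.n i)⁻¹ * a) = cs.simple i * D.π a := by rw [map_mul, map_inv, D.π_n, cs.inv_simple]
  refine ⟨i, (D.n i)⁻¹ * a, by group, by rw [e]; exact hi, ?_⟩
  rw [e, ← mul_assoc, cs.simple_mul_simple_self, one_mul]

theorem exists_inv (a : N) : ∃ y, y * D.t a = D.t 1 := by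
  induction hl : cs.length (D.π a) using Nat.strong_induction_on generalizing a with
  | _ l ih =>
    by_cases ha : D.π a = 1
    · exact ⟨D.t a⁻¹, by rw [← D.t_right _ _ ha, inv_mul_cancel]⟩
    · obtain ⟨i, b, e, h1, h2⟩ := D.exists_step ha
      obtain ⟨y, hy⟩ := ih _ (hl ▸ h1) b rfl
      obtain ⟨z, hz⟩ := D.exists_inv_n i
      refine ⟨y * z, ?_⟩
      rw [e, ← D.add i b (h2 ▸ h1), mul_assoc, ← mul_assoc z, hz, one_mul_t, hy]

variable [Finite N]

theorem E_def [Fintype D.π.ker] (ν : D.Wt) :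
    D.E ν = (Nat.card D.π.ker : ℂ)⁻¹ • ∑ h : D.π.ker, (((ν h)⁻¹ : ℂˣ) : ℂ) • D.t h := by
  unfold E
  congr!

theorem card_ne : (Nat.card D.π.ker : ℂ) ≠ 0 := by exact_mod_cast Nat.card_pos.ne'

theorem E_mul_eq {ν : D.Wt} {x : 𝒜} (hx : ∀ h : D.π.ker, D.t h * x = ((ν h : ℂˣ) : ℂ) • x) : D.E ν * x = x := by
  have := Fintype.ofFinite D.π.ker
  rw [E_def, smul_mul_assoc, Finset.sum_mul]
  simp only [smul_mul_assoc, hx, smul_smul, Units.inv_mul, one_smul, Finset.sum_const, Finset.card_univ]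
  rw [← Nat.cast_smul_eq_nsmul ℂ, smul_smul, ← Nat.card_eq_fintype_card, inv_mul_cancel₀ D.card_ne, one_smul]

theorem mul_E_eq {ν : D.Wt} {x : 𝒜} (hx : ∀ h : D.π.ker, x * D.t h = ((ν h : ℂˣ) : ℂ) • x) : x * D.E ν = x := by
  have := Fintype.ofFinite D.π.ker
  rw [E_def, mul_smul_comm, Finset.mul_sum]
  simp only [mul_smul_comm, hx, smul_smul, Units.inv_mul, one_smul, Finset.sum_const, Finset.card_univ]
  rw [← Nat.cast_smul_eq_nsmul ℂ, smul_smul, ← Nat.card_eq_fintype_card, inv_mul_cancel₀ D.card_ne, one_smul]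

theorem t_mul_E (ν : D.Wt) (h : D.π.ker) : D.t h * D.E ν = ((ν h : ℂˣ) : ℂ) • D.E ν := by
  have := Fintype.ofFinite D.π.ker
  rw [E_def, mul_smul_comm, smul_comm ((ν h : ℂˣ) : ℂ)]
  congr 1
  rw [Finset.mul_sum, Finset.smul_sum]
  refine Fintype.sum_equiv (Equiv.mulLeft h) _ _ fun g => ?_
  rw [mul_smul_comm, ← D.t_left _ _ h.2, smul_smul, Equiv.coe_mulLeft, map_mul, mul_inv_rev, Units.val_mul,
    mul_comm (((ν g)⁻¹ : ℂˣ) : ℂ), ← mul_assoc, Units.mul_inv, one_mul, Subgroup.coe_mul]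

theorem E_mul_t (ν : D.Wt) (h : D.π.ker) : D.E ν * D.t h = ((ν h : ℂˣ) : ℂ) • D.E ν := by
  have := Fintype.ofFinite D.π.ker
  rw [← t_mul_E, E_def, mul_smul_comm, smul_mul_assoc, Finset.mul_sum, Finset.sum_mul]
  congr 1
  refine Finset.sum_congr rfl fun g _ => ?_
  rw [mul_smul_comm, smul_mul_assoc, ← D.t_left _ _ h.2, ← D.t_left _ _ g.2, D.comm _ _ h.2 g.2]

theorem E_mul_E (ν : D.Wt) : D.E ν * D.E ν = D.E ν := D.E_mul_eq (D.t_mul_E ν)

theorem one_mul_E (ν : D.Wt) : D.t 1 * D.E ν = D.E ν := by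
  have h := D.t_mul_E ν 1
  rwa [map_one, Units.val_one, one_smul] at h

theorem E_mul_one (ν : D.Wt) : D.E ν * D.t 1 = D.E ν := by
  have h := D.E_mul_t ν 1
  rwa [map_one, Units.val_one, one_smul] at h

theorem E_mul_E_ne {ν μ : D.Wt} (h : ν ≠ μ) : D.E ν * D.E μ = 0 := by
  obtain ⟨g, hg⟩ : ∃ g, ν g ≠ μ g := by
    by_contra hc
    exact h (MonoidHom.ext fun g => not_not.1 fun e => hc ⟨g, e⟩)
  have h1 : ((ν g : ℂˣ) : ℂ) • (D.E ν * D.E μ) = ((μ g : ℂˣ) : ℂ) • (D.E ν * D.E μ) := by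
    rw [← smul_mul_assoc, ← E_mul_t, mul_assoc, t_mul_E, mul_smul_comm]
  rw [← sub_eq_zero, ← sub_smul] at h1
  exact (smul_eq_zero.1 h1).resolve_left fun e => hg (Units.ext (sub_eq_zero.1 e))

theorem t_ker_E (ν : D.Wt) (a : N) {h : N} (hh : D.π h = 1) :
    D.t (a * h) * D.E ν = ((ν ⟨h, hh⟩ : ℂˣ) : ℂ) • (D.t a * D.E ν) := by
  rw [D.t_right _ _ hh, mul_assoc, D.t_mul_E ν ⟨h, hh⟩, mul_smul_comm]

theorem t_E (a : N) (ν : D.Wt) : D.t a * D.E ν = D.E (D.act a ν) * D.t a := by
  have h1 : D.E (D.act a ν) * (D.t a * D.E ν) = D.t a * D.E ν := D.E_mul_eq fun h => by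
    rw [← mul_assoc, ← D.t_left _ _ h.2, act_apply, ← D.t_ker_E ν a (D.conj_ker a h.2)]
    congr 2
    group
  have h2 : D.E (D.act a ν) * D.t a * D.E ν = D.E (D.act a ν) * D.t a := D.mul_E_eq fun h => by
    have hk : D.π (a * h * a⁻¹) = 1 := by simpa only [_root_.map_mul, _root_.map_inv, _root_.conj_eq_one_iff, _root_.inv_inv] using D.conj_ker a⁻¹ h.2
    have e : a * h = a * h * a⁻¹ * a := by group
    rw [mul_assoc, ← D.t_right _ _ h.2, e, D.t_left _ _ hk, ← mul_assoc, D.E_mul_t _ ⟨_, hk⟩, smul_mul_assoc, act_apply]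
    congr 3
    apply Subtype.ext
    show a⁻¹ * (a * h * a⁻¹) * a = h
    group
  rw [← h1, ← mul_assoc, h2]

/-- the quadratic relation on a weight -/
theorem quad_E (i : I) : ∃ k : ℂ, k ≠ 0 ∧ ∀ ν : D.Wt, ∃ s : ℂ,
    D.t (D.n i) * D.t (D.n i)⁻¹ * D.E ν = k • D.E ν + s • (D.t (D.n i) * D.E ν) := by
  obtain ⟨k, hk, h⟩ := D.quad i
  refine ⟨k, hk, fun ν => ?_⟩
  have key : ∀ z ∈ Submodule.span ℂ (D.t '' {a | D.π a = cs.simple i}),
      ∃ s : ℂ, z * D.E ν = s • (D.t (D.n i) * D.E ν) := by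
    intro z hz
    induction hz using Submodule.span_induction with
    | mem x hx =>
      obtain ⟨a, ha, rfl⟩ := hx
      have hk : D.π ((D.n i)⁻¹ * a) = 1 := by rw [map_mul, map_inv, D.π_n, ha, inv_mul_cancel]
      exact ⟨_, by rw [← D.t_ker_E ν _ hk, mul_inv_cancel_left]⟩
    | zero => exact ⟨0, by rw [zero_mul, zero_smul]⟩
    | add x y _ _ hx hy =>
      obtain ⟨a, ha⟩ := hx
      obtain ⟨b, hb⟩ := hy
      exact ⟨a + b, by rw [add_mul, ha, hb, add_smul]⟩
    | smul c x _ hx =>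
      obtain ⟨a, ha⟩ := hx
      exact ⟨c * a, by rw [smul_mul_assoc, ha, smul_smul]⟩
  obtain ⟨s, hs⟩ := key _ h
  exact ⟨s, by rw [← hs, sub_mul, smul_mul_assoc, one_mul_E, add_sub_cancel]⟩

theorem t_inv_E (i : I) (ν : D.Wt) : ∃ c : ℂ, c ≠ 0 ∧ D.t (D.n i)⁻¹ * D.E ν = c • (D.t (D.n i) * D.E ν) := by
  have hk : D.π (D.n i * D.n i)⁻¹ = 1 := by rw [map_inv, D.n_sq, inv_one]
  refine ⟨_, (ν ⟨_, hk⟩).ne_zero, ?_⟩
  rw [← D.t_ker_E ν _ hk]
  congr 2
  group

/-- the lines -/
def Ln (w : W) (ν : D.Wt) (x : 𝒜) : Prop := ∃ c : ℂ, c ≠ 0 ∧ ∃ a, D.π a = w ∧ x = c • (D.t a * D.E ν)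

theorem ln_t (a : N) (ν : D.Wt) : D.Ln (D.π a) ν (D.t a * D.E ν) := ⟨1, one_ne_zero, a, rfl, (one_smul _ _).symm⟩

theorem exists_ln (w : W) (ν : D.Wt) : ∃ x, D.Ln w ν x := by
  obtain ⟨a, rfl⟩ := D.π_surj w
  exact ⟨_, D.ln_t a ν⟩

theorem ln_E (ν : D.Wt) : D.Ln 1 ν (D.E ν) := by
  have h := D.ln_t 1 ν
  rwa [map_one, one_mul_E] at h

variable {D}

theorem Ln.smul {w : W} {ν : D.Wt} {x : 𝒜} (h : D.Ln w ν x) {d : ℂ} (hd : d ≠ 0) : D.Ln w ν (d • x) := by
  obtain ⟨c, hc, a, e, rfl⟩ := h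
  exact ⟨d * c, mul_ne_zero hd hc, a, e, smul_smul _ _ _⟩

theorem Ln.eq {w : W} {ν : D.Wt} {x : 𝒜} (h : D.Ln w ν x) {b : N} (hb : D.π b = w) :
    ∃ c : ℂ, c ≠ 0 ∧ x = c • (D.t b * D.E ν) := by
  obtain ⟨c, hc, a, e, rfl⟩ := h
  have hk : D.π (b⁻¹ * a) = 1 := by rw [map_mul, map_inv, hb, e, inv_mul_cancel]
  refine ⟨c * _, mul_ne_zero hc (ν ⟨_, hk⟩).ne_zero, ?_⟩
  rw [← smul_smul, ← D.t_ker_E ν _ hk, mul_inv_cancel_left]

theorem Ln.ratio {w : W} {ν : D.Wt} {x y : 𝒜} (h : D.Ln w ν x) (h' : D.Ln w ν y) : ∃ c : ℂ, c ≠ 0 ∧ x = c • y := by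
  obtain ⟨d, hd, b, e, rfl⟩ := h'
  obtain ⟨c, hc, rfl⟩ := h.eq e
  exact ⟨c * d⁻¹, mul_ne_zero hc (inv_ne_zero hd), by rw [smul_smul, inv_mul_cancel_right₀ hd]⟩

theorem Ln.mul_E {w : W} {ν : D.Wt} {x : 𝒜} (h : D.Ln w ν x) : x * D.E ν = x := by
  obtain ⟨c, -, a, -, rfl⟩ := h
  rw [smul_mul_assoc, mul_assoc, E_mul_E]

theorem Ln.E_mul {a : N} {ν : D.Wt} {x : 𝒜} (h : D.Ln (D.π a) ν x) : D.E (D.act a ν) * x = x := by
  obtain ⟨c, -, rfl⟩ := h.eq rfl
  rw [mul_smul_comm, t_E, ← mul_assoc, E_mul_E]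

theorem Ln.E_mul' {w : W} {ν : D.Wt} {x : 𝒜} (h : D.Ln w ν x) (hw : w ∈ D.Wl ν) : D.E ν * x = x := by
  obtain ⟨a, ha, rfl⟩ := hw
  have h1 := h.E_mul
  rwa [D.mem_Nl.1 ha] at h1

theorem Ln.exists_inv {w : W} {ν : D.Wt} {x : 𝒜} (h : D.Ln w ν x) : ∃ y, y * x = D.E ν := by
  obtain ⟨c, hc, a, -, rfl⟩ := h
  obtain ⟨y, hy⟩ := D.exists_inv a
  exact ⟨c⁻¹ • y, by rw [smul_mul_smul_comm, inv_mul_cancel₀ hc, one_smul, ← mul_assoc, hy, one_mul_E]⟩

theorem Ln.cancel {w : W} {ν : D.Wt} {x u v : 𝒜} (h : D.Ln w ν x) (hu : D.E ν * u = u) (hv : D.E ν * v = v)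
    (e : x * u = x * v) : u = v := by
  obtain ⟨y, hy⟩ := h.exists_inv
  rw [← hu, ← hv, ← hy, mul_assoc, e, mul_assoc]

theorem Ln.ne_zero {w : W} {ν : D.Wt} {x : 𝒜} (h : D.Ln w ν x) (hE : D.E ν ≠ 0) : x ≠ 0 := by
  obtain ⟨y, hy⟩ := h.exists_inv
  rintro rfl
  exact hE (by rw [← hy, mul_zero])

theorem Ln.trace {w : W} {ν : D.Wt} {x : 𝒜} (h : D.Ln w ν x) (hw : w ≠ 1) :
    LinearMap.trace ℂ 𝒜 (LinearMap.mulLeft ℂ x) = 0 := by
  have := Fintype.ofFinite D.π.ker
  obtain ⟨c, -, a, e, rfl⟩ := h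
  have h1 : ∀ z : 𝒜, LinearMap.trace ℂ 𝒜 (LinearMap.mulLeft ℂ z) =
      (LinearMap.trace ℂ 𝒜 ∘ₗ LinearMap.mul ℂ 𝒜) z := fun _ => rfl
  rw [h1, E_def, mul_smul_comm, Finset.mul_sum, map_smul, map_smul, map_sum, Finset.sum_eq_zero, smul_zero, smul_zero]
  intro g _
  rw [mul_smul_comm, map_smul, ← D.t_right _ _ g.2, ← h1, D.tr0 _ (by rwa [map_mul, g.2, mul_one, e]), smul_zero]

theorem _root_.Cfsg.Agent.ODD.AH.trace_idem [FiniteDimensional ℂ 𝒜] {e : 𝒜} (he : e * e = e) :
    ∃ d : ℕ, LinearMap.trace ℂ 𝒜 (LinearMap.mulLeft ℂ e) = d ∧ (d = 0 → e = 0) := by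
  have h : IsIdempotentElem (LinearMap.mulLeft ℂ e) := by
    ext x
    simp [← mul_assoc, he]
  refine ⟨_, (LinearMap.isProj_range_iff_isIdempotentElem _ |>.2 h).trace, fun h0 => ?_⟩
  have h1 := Submodule.finrank_eq_zero.1 h0
  have h2 : LinearMap.mulLeft ℂ e 1 ∈ LinearMap.range (LinearMap.mulLeft ℂ e) := ⟨1, rfl⟩
  rw [h1] at h2
  simpa using h2

variable [FiniteDimensional ℂ 𝒜]

theorem Ln.indep {w : W} {ν : D.Wt} {x : 𝒜} (h : D.Ln w ν x) (hw : w ≠ 1) (hE : D.E ν ≠ 0) {s d : ℂ}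
    (e : s • x = d • D.E ν) : s = 0 ∧ d = 0 := by
  obtain ⟨m, hm, h0⟩ := trace_idem (D.E_mul_E ν)
  have h1 := congrArg (LinearMap.trace ℂ 𝒜 ∘ₗ LinearMap.mul ℂ 𝒜) e
  rw [map_smul, map_smul] at h1
  have h2 : (LinearMap.trace ℂ 𝒜 ∘ₗ LinearMap.mul ℂ 𝒜) x = 0 := h.trace hw
  have h3 : (LinearMap.trace ℂ 𝒜 ∘ₗ LinearMap.mul ℂ 𝒜) (D.E ν) = m := hm
  rw [h2, h3, smul_zero, smul_eq_mul] at h1
  have hd : d = 0 := (mul_eq_zero.1 h1.symm).resolve_right fun e => hE (h0 (by exact_mod_cast e))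
  rw [hd, zero_smul] at e
  exact ⟨(smul_eq_zero.1 e).resolve_right (h.ne_zero hE), hd⟩

omit [Finite N] [FiniteDimensional ℂ 𝒜] in
theorem _root_.Cfsg.Agent.ODD.AH.simple_ne_one (i : I) : cs.simple i ≠ 1 := fun e => by
  have := cs.length_simple i
  rw [e, cs.length_one] at this
  exact absurd this (by decide)

/-- multiplication by a simple generator -/
theorem Ln.step {a : N} {ν : D.Wt} {x : 𝒜} (h : D.Ln (D.π a) ν x) (i : I)
    (hc : cs.length (cs.simple i * D.π a) < cs.length (D.π a) → ¬ D.G0 (D.act a ν) i) :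
    D.Ln (cs.simple i * D.π a) ν (D.t (D.n i) * x) := by
  have e : cs.simple i * D.π a = D.π (D.n i * a) := by rw [map_mul, D.π_n]
  obtain ⟨c, hc0, rfl⟩ := h.eq rfl
  rw [mul_smul_comm]
  refine Ln.smul ?_ hc0
  rcases lt_or_gt_of_ne (cs.length_simple_mul_ne (D.π a) i) with hl | hl
  · -- the length goes down
    obtain ⟨d, hd⟩ := not_forall.1 (hc hl)
    have hd := not_not.1 hd
    have e2 : D.π (D.n i * a) = cs.simple i * D.π a := e.symm
    have h1 : D.t (D.n i) * D.t ((D.n i)⁻¹ * a) = D.t a := by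
      rw [D.add i _ (by
        rw [map_mul, map_inv, D.π_n, cs.inv_simple, ← mul_assoc, cs.simple_mul_simple_self, one_mul]
        exact hl), mul_inv_cancel_left]
    -- `t (n i) * t (n i)⁻¹` acts as a scalar on the weight of `n⁻¹ a` as well
    obtain ⟨k, hk, hq⟩ := D.quad_E i
    have hb : D.Ln (cs.simple i * D.π a) ν (D.t ((D.n i)⁻¹ * a) * D.E ν) := by
      have := D.ln_t ((D.n i)⁻¹ * a) ν
      rwa [map_mul, map_inv, D.π_n, cs.inv_simple] at this
    set μ := D.act ((D.n i)⁻¹ * a) ν with hμ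
    have hμ' : D.act a ν = D.act (D.n i) μ := by rw [hμ, ← act_mul, mul_inv_cancel_left]
    obtain ⟨c1, hc1, e1⟩ := D.t_inv_E i μ
    obtain ⟨s, hs⟩ := hq μ
    have h2 : ∃ k' : ℂ, k' ≠ 0 ∧ D.t (D.n i) * D.t (D.n i) * D.E μ = k' • D.E μ := by
      have h3 : D.t (D.n i) * D.t (D.n i) * D.E μ = c1⁻¹ • (k • D.E μ + s • (D.t (D.n i) * D.E μ)) := by
        rw [← hs, mul_assoc, mul_assoc, e1, mul_smul_comm, smul_smul, inv_mul_cancel₀ hc1, one_smul]
      suffices h4 : s • (D.t (D.n i) * D.E μ) = 0 from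
        ⟨c1⁻¹ * k, mul_ne_zero (inv_ne_zero hc1) hk, by rw [h3, h4, add_zero, smul_smul]⟩
      by_cases hfix : D.act (D.n i) μ = μ
      · rw [hμ', hfix, hs] at hd
        have h5 : s • (D.t (D.n i) * D.E μ) = (d - k) • D.E μ := by rw [sub_smul, ← hd, add_sub_cancel_left]
        by_cases hE : D.E μ = 0
        · rw [h5, hE, smul_zero]
        · rw [((D.ln_t _ μ).indep (by rw [D.π_n]; exact simple_ne_one i) hE h5).1, zero_smul]
      · have h5 : D.E μ * (D.t (D.n i) * D.E μ) = 0 := by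
          rw [t_E, ← mul_assoc, D.E_mul_E_ne (Ne.symm hfix), zero_mul]
        have h6 : D.E μ * (D.t (D.n i) * D.t (D.n i)⁻¹ * D.E μ) = D.t (D.n i) * D.t (D.n i)⁻¹ * D.E μ := by
          rw [mul_assoc (D.t (D.n i)), t_E, ← mul_assoc (D.t (D.n i)), t_E, ← act_mul, mul_inv_cancel, act_one,
            ← mul_assoc, ← mul_assoc, E_mul_E]
        rw [hs, mul_add, mul_smul_comm, mul_smul_comm, h5, E_mul_E, smul_zero] at h6
        exact (add_left_cancel h6).symm
    obtain ⟨k', hk', h2⟩ := h2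
    have h7 : D.t (D.n i) * (D.t a * D.E ν) = k' • (D.t ((D.n i)⁻¹ * a) * D.E ν) := by
      rw [← h1, mul_assoc, t_E, ← hμ, ← mul_assoc, ← mul_assoc, h2, smul_mul_assoc]
    rw [h7]
    exact hb.smul hk'
  · rw [← mul_assoc, D.add i a hl, e]
    exact D.ln_t _ ν

end Cfsg.Agent.ODD.AH.Dat
end

-- part: ODD/AH/Good
section
/-!
# Good reflections, the quadratic relation of the simple ones (helper10)
-/

set_option autoImplicit false

namespace Cfsg.Agent.ODD.AH

open Cfsg.Agent.Tits.Exchange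

section alg

variable {𝒜 : Type} [Ring 𝒜] [Algebra ℂ 𝒜]

/-- the ratio of the eigenvalues is rational -/
theorem exists_norm [FiniteDimensional ℂ 𝒜] {e T : 𝒜} (he : e * e = e) (h0 : e ≠ 0) (h1 : e * T = T) (h2 : T * e = T)
    {α β : ℂ} (hα : α ≠ 0) (hβ : β ≠ 0) (hq : T * T = α • e + β • T)
    (ht : LinearMap.trace ℂ 𝒜 (LinearMap.mulLeft ℂ T) = 0) :
    ∃ c : ℂ, c ≠ 0 ∧ ∃ p : ℚ, 1 < p ∧ (c • T) * (c • T) = (p : ℂ) • e + ((p : ℂ) - 1) • (c • T) := by
  let tr : 𝒜 →ₗ[ℂ] ℂ := LinearMap.trace ℂ 𝒜 ∘ₗ LinearMap.mul ℂ 𝒜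
  have htr : ∀ x, tr x = LinearMap.trace ℂ 𝒜 (LinearMap.mulLeft ℂ x) := fun _ => rfl
  have ht' : tr T = 0 := ht
  obtain ⟨z, hz⟩ := IsAlgClosed.exists_pow_nat_eq (β ^ 2 + 4 * α) two_pos
  obtain ⟨x, y, hs, hp⟩ : ∃ x y : ℂ, x + y = β ∧ x * y = -α :=
    ⟨(β + z) / 2, (β - z) / 2, by ring, by linear_combination (-1 / 4 : ℂ) * hz⟩
  have hx : x ≠ 0 := fun e => hα (by rw [e, zero_mul] at hp; exact neg_eq_zero.1 hp.symm)
  have hy : y ≠ 0 := fun e => hα (by rw [e, mul_zero] at hp; exact neg_eq_zero.1 hp.symm)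
  have hα' : α = -(x * y) := by rw [hp, neg_neg]
  obtain ⟨m, hm, hm0⟩ := trace_idem he
  have hm' : tr e = m := hm
  have hmne : (m : ℂ) ≠ 0 := fun h => h0 (hm0 (by exact_mod_cast h))
  have sq : ∀ u v : ℂ, u + v = β → u * v = -α → (T - v • e) * (T - v • e) = (u - v) • (T - v • e) := by
    intro u v h3 h4
    have h5 : α = -(u * v) := by rw [h4, neg_neg]
    simp only [sub_mul, mul_sub, smul_mul_assoc, mul_smul_comm, h1, h2, he, hq, ← h3, h5]
    module
  have hxy : x - y ≠ 0 := by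
    intro h
    have h3 := sq x y hs hp
    rw [h, zero_smul] at h3
    have h4 : IsNilpotent (LinearMap.mulLeft ℂ (T - y • e)) := ⟨2, by
      rw [pow_two, Module.End.mul_eq_comp, ← LinearMap.mulLeft_mul, h3, LinearMap.mulLeft_zero_eq_zero]⟩
    have h5 : tr (T - y • e) = 0 := (LinearMap.isNilpotent_trace_of_isNilpotent h4).eq_zero
    rw [map_sub, map_smul, ht', hm', zero_sub, neg_eq_zero, smul_eq_mul] at h5
    exact mul_ne_zero hy hmne h5
  have dim : ∀ u v : ℂ, u + v = β → u * v = -α → u - v ≠ 0 → ∃ d : ℕ, (u - v) * d = -(v * m) := by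
    intro u v h3 h4 h5
    have h6 : ((u - v)⁻¹ • (T - v • e)) * ((u - v)⁻¹ • (T - v • e)) = (u - v)⁻¹ • (T - v • e) := by
      rw [smul_mul_smul_comm, sq u v h3 h4, smul_smul, inv_mul_cancel_right₀ h5]
    obtain ⟨d, hd, -⟩ := trace_idem h6
    rw [← htr, map_smul, map_sub, map_smul, ht', hm', zero_sub, smul_eq_mul, smul_eq_mul] at hd
    exact ⟨d, by rw [← hd, mul_inv_cancel_left₀ h5]⟩
  have fin : ∀ (u v : ℂ) (d d' : ℕ), u + v = β → u * v = -α → v ≠ 0 → u * d + v * d' = 0 → 0 < d → d < d' →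
      ∃ c : ℂ, c ≠ 0 ∧ ∃ p : ℚ, 1 < p ∧ (c • T) * (c • T) = (p : ℂ) • e + ((p : ℂ) - 1) • (c • T) := by
    intro u v d d' h3 h4 hv h5 hd hdd
    have hd0 : (d : ℂ) ≠ 0 := by exact_mod_cast hd.ne'
    have hp' : (((d' : ℚ) / d : ℚ) : ℂ) = -u / v := by
      push_cast
      field_simp
      linear_combination h5
    refine ⟨-v⁻¹, neg_ne_zero.2 (inv_ne_zero hv), d' / d, ?_, ?_⟩
    · rw [one_lt_div (by exact_mod_cast hd)]
      exact_mod_cast hdd
    · have h6 : α = -(u * v) := by rw [h4, neg_neg]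
      rw [hp', smul_mul_smul_comm, hq, ← h3, h6, smul_add, smul_smul, smul_smul, smul_smul]
      congr 2 <;> field_simp
      ring
  obtain ⟨d, hd⟩ := dim x y hs hp hxy
  obtain ⟨d', hd'⟩ := dim y x (by rw [add_comm, hs]) (by rw [mul_comm, hp]) (by rwa [← neg_sub, neg_ne_zero])
  have hdp : 0 < d := Nat.pos_of_ne_zero fun h => by
    rw [h, Nat.cast_zero, mul_zero, eq_comm, neg_eq_zero] at hd
    exact mul_ne_zero hy hmne hd
  have hdp' : 0 < d' := Nat.pos_of_ne_zero fun h => by
    rw [h, Nat.cast_zero, mul_zero, eq_comm, neg_eq_zero] at hd'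
    exact mul_ne_zero hx hmne hd'
  have hsum : x * d + y * d' = 0 := mul_left_cancel₀ hxy (by linear_combination x * hd - y * hd')
  rcases lt_trichotomy d d' with h | h | h
  · exact fin x y d d' hs hp hy hsum hdp h
  · exfalso
    rw [← h, ← add_mul, hs] at hsum
    exact mul_ne_zero hβ (by exact_mod_cast hdp.ne') hsum
  · exact fin y x d' d (by rw [add_comm, hs]) (by rw [mul_comm, hp]) hx (by rw [add_comm, hsum]) hdp' h

/-- rigidity of the normalisation -/
theorem rigid {e T : 𝒜} (hi : ∀ s d : ℂ, s • T = d • e → s = 0 ∧ d = 0) {p p' : ℚ} (hp : 1 < p) (hp' : 1 < p')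
    {c : ℂ} (hc : c ≠ 0) (h : T * T = (p : ℂ) • e + ((p : ℂ) - 1) • T)
    (h' : (c • T) * (c • T) = (p' : ℂ) • e + ((p' : ℂ) - 1) • (c • T)) : c = 1 := by
  rw [smul_mul_smul_comm, h, smul_add, smul_smul, smul_smul, smul_smul] at h'
  have h1 : (c * c * ((p : ℂ) - 1) - ((p' : ℂ) - 1) * c) • T = ((p' : ℂ) - c * c * p) • e := by
    rw [sub_smul, sub_smul, sub_eq_sub_iff_add_eq_add, add_comm, h']
  obtain ⟨h2, h3⟩ := hi _ _ h1
  have h4 : c * ((p : ℂ) - 1) = (p' : ℂ) - 1 := mul_left_cancel₀ hc (by linear_combination h2)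
  have hp1 : (p : ℂ) - 1 ≠ 0 := by
    rw [sub_ne_zero]
    exact_mod_cast hp.ne'
  have h5 : c = (((p' - 1) / (p - 1) : ℚ) : ℂ) := by
    push_cast
    rw [eq_div_iff hp1, h4]
  have h6 : (c - 1) * (c * p + 1) = 0 := by linear_combination -h3 - h4
  rcases mul_eq_zero.1 h6 with h7 | h7
  · exact sub_eq_zero.1 h7
  · exfalso
    rw [h5] at h7
    have h8 : (p' - 1) / (p - 1) * p + 1 = 0 := by exact_mod_cast h7
    have h9 : 0 < (p' - 1) / (p - 1) := div_pos (by linarith only [hp']) (by linarith only [hp])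
    nlinarith only [hp, h8, h9]

end alg

namespace Dat

variable {I W : Type} [Group W] {M : CoxeterMatrix I} {cs : CoxeterSystem M W} {N : Type} [Group N] {𝒜 : Type} [Ring 𝒜]
  [Algebra ℂ 𝒜] {D : Dat cs N 𝒜} [Finite N] [FiniteDimensional ℂ 𝒜]

omit [Finite N] [FiniteDimensional ℂ 𝒜] in
theorem nn_up {v : W} {i : I} (h : cs.length v < cs.length (cs.simple i * v)) : nn cs v (v⁻¹ * cs.simple i * v) = 0 := by
  refine (z2_cases _).resolve_right fun h1 => ?_
  have h2 := (nn_eq_one_iff cs (by simpa using (cs.isReflection_simple i).conj v⁻¹)).1 h1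
  rw [← mul_assoc, mul_inv_cancel_left] at h2
  omega

omit [Finite N] [FiniteDimensional ℂ 𝒜] in
theorem nn_down {v : W} {i : I} (h : cs.length (cs.simple i * v) < cs.length v) :
    nn cs v (v⁻¹ * cs.simple i * v) = 1 :=
  (nn_eq_one_iff cs (by simpa using (cs.isReflection_simple i).conj v⁻¹)).2 (by rwa [← mul_assoc, mul_inv_cancel_left])

theorem Ln.mul {a : N} {ν : D.Wt} {y : 𝒜} (hy : D.Ln (D.π a) ν y) {v : W} {x : 𝒜} (hx : D.Ln v (D.act a ν) x)
    (hc : ∀ r, D.Good ν r → nn cs (D.π a) r = 1 → nn cs v (D.π a * r * (D.π a)⁻¹) = 1 → False) :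
    D.Ln (v * D.π a) ν (x * y) := by
  induction hl : cs.length v using Nat.strong_induction_on generalizing v x with
  | _ l ih =>
    by_cases hv : v = 1
    · subst hv
      obtain ⟨c, hc0, rfl⟩ := hx.ratio (D.ln_E _)
      rw [smul_mul_assoc, hy.E_mul, one_mul]
      exact hy.smul hc0
    · obtain ⟨c, hc0, b, rfl, rfl⟩ := hx
      obtain ⟨i, b', e, h1, h2⟩ := D.exists_step hv
      have h0 := nn_up (h2 ▸ h1)
      have h3 := ih _ (hl ▸ h1) (D.ln_t b' _) (fun r hr h4 h5 => hc r hr h4 (by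
        rw [h2, nn_mul, h5, nn_simple, ind_of_ne, add_zero]
        intro e2
        have e3 : D.π a * r * (D.π a)⁻¹ = (D.π b')⁻¹ * cs.simple i * D.π b' := by
          rw [← e2]
          group
        rw [e3, h0] at h5
        exact absurd h5 (by decide))) rfl
      rw [← map_mul] at h3
      have h4 := h3.step i fun h5 h6 => by
        have e3 : D.π a * ((D.π (b' * a))⁻¹ * cs.simple i * D.π (b' * a)) * (D.π a)⁻¹ =
            (D.π b')⁻¹ * cs.simple i * D.π b' := by
          rw [map_mul]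
          group
        refine hc _ ⟨b' * a, i, rfl, h6⟩ ?_ ?_
        · have h7 := nn_down h5
          nth_rewrite 1 [map_mul] at h7
          rwa [nn_mul, e3, h0, add_zero] at h7
        · have e4 : D.π b' * ((D.π b')⁻¹ * cs.simple i * D.π b') * (D.π b')⁻¹ = cs.simple i := by group
          rw [e3, h2, nn_mul, h0, e4, nn_simple_self, zero_add]
      rw [map_mul, ← mul_assoc, ← h2, ← mul_assoc, ← mul_assoc, D.add i b' (h2 ▸ h1), ← e] at h4
      rw [smul_mul_assoc]
      exact h4.smul hc0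

omit [FiniteDimensional ℂ 𝒜] in
theorem G0.fix {ν : D.Wt} {i : I} (h : D.G0 ν i) : D.n i ∈ D.Nl ν := by
  by_contra hfix
  obtain ⟨k, -, hq⟩ := D.quad_E i
  obtain ⟨s, hs⟩ := hq ν
  have h5 : D.E ν * (D.t (D.n i) * D.E ν) = 0 := by
    rw [t_E, ← mul_assoc, D.E_mul_E_ne (Ne.symm hfix), zero_mul]
  have h6 : D.E ν * (D.t (D.n i) * D.t (D.n i)⁻¹ * D.E ν) = D.t (D.n i) * D.t (D.n i)⁻¹ * D.E ν := by
    rw [mul_assoc (D.t (D.n i)), t_E, ← mul_assoc (D.t (D.n i)), t_E, ← act_mul, mul_inv_cancel, act_one,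
      ← mul_assoc, ← mul_assoc, E_mul_E]
  conv_lhs at h6 => rw [hs, mul_add, mul_smul_comm, mul_smul_comm, h5, E_mul_E, smul_zero, add_zero]
  exact h k h6.symm

/-- the criterion for `G0` -/
theorem g0_of {ν : D.Wt} {i : I} (hE : D.E ν ≠ 0) {k s : ℂ} (hs : s ≠ 0)
    (h : D.t (D.n i) * D.t (D.n i)⁻¹ * D.E ν = k • D.E ν + s • (D.t (D.n i) * D.E ν)) : D.G0 ν i := by
  intro c hc
  refine hs ((D.ln_t _ ν).indep (by rw [D.π_n]; exact simple_ne_one i) hE (d := c - k) ?_).1
  rw [sub_smul, ← hc, h, add_sub_cancel_left]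

omit [FiniteDimensional ℂ 𝒜] in
theorem G0.quad {ν : D.Wt} {i : I} (h : D.G0 ν i) {y : 𝒜} (hy : D.Ln (cs.simple i) ν y) :
    ∃ α β : ℂ, α ≠ 0 ∧ β ≠ 0 ∧ y * y = α • D.E ν + β • y := by
  obtain ⟨k, hk, hq⟩ := D.quad_E i
  obtain ⟨s, hs⟩ := hq ν
  have hs0 : s ≠ 0 := fun e => h k (by rw [hs, e, zero_smul, add_zero])
  obtain ⟨c, hc, e⟩ := D.t_inv_E i ν
  obtain ⟨d, hd, rfl⟩ := hy.eq (D.π_n i)
  have h1 : D.E ν * (D.t (D.n i) * D.E ν) = D.t (D.n i) * D.E ν := (D.ln_t _ ν).E_mul' (D.mem_Wl.2 h.fix)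
  refine ⟨d * d * c⁻¹ * k, d * c⁻¹ * s, by simp [hd, hc, hk], by simp [hd, hc, hs0], ?_⟩
  rw [mul_assoc, e, mul_smul_comm] at hs
  rw [smul_mul_smul_comm, mul_assoc (D.t (D.n i)), h1, ← inv_smul_smul₀ hc (D.t (D.n i) * _), hs]
  module

omit [FiniteDimensional ℂ 𝒜] in
theorem g0_of_sq {ν : D.Wt} {i : I} (hi : D.n i ∈ D.Nl ν) {y : 𝒜} (hy : D.Ln (cs.simple i) ν y)
    (h : ∀ c : ℂ, y * y ≠ c • D.E ν) : D.G0 ν i := by
  intro k hk
  obtain ⟨c, hc, e⟩ := D.t_inv_E i ν
  obtain ⟨d, hd, rfl⟩ := hy.eq (D.π_n i)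
  have h1 : D.E ν * (D.t (D.n i) * D.E ν) = D.t (D.n i) * D.E ν := (D.ln_t _ ν).E_mul' (D.mem_Wl.2 hi)
  rw [mul_assoc, e, mul_smul_comm] at hk
  refine h (d * d * c⁻¹ * k) ?_
  rw [smul_mul_smul_comm, mul_assoc (D.t (D.n i)), h1, ← inv_smul_smul₀ hc (D.t (D.n i) * _), hk]
  module

omit [FiniteDimensional ℂ 𝒜] in
theorem Good.refl {ν : D.Wt} {r : W} (h : D.Good ν r) : cs.IsReflection r := by
  obtain ⟨a, i, rfl, -⟩ := h
  simpa only [_root_.inv_inv] using (cs.isReflection_simple i).conj (D.π a)⁻¹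

omit [FiniteDimensional ℂ 𝒜] in
theorem Good.mem {ν : D.Wt} {r : W} (h : D.Good ν r) : r ∈ D.Wl ν := by
  obtain ⟨a, i, rfl, h⟩ := h
  rw [← D.π_n, ← map_inv, ← map_mul, ← map_mul, mem_Wl, mem_Nl, act_mul, act_mul, D.mem_Nl.1 h.fix, ← act_mul,
    inv_mul_cancel, act_one]

omit [FiniteDimensional ℂ 𝒜] in
theorem Good.act {ν : D.Wt} {r : W} (h : D.Good ν r) (b : N) : D.Good (D.act b ν) (D.π b * r * (D.π b)⁻¹) := by
  obtain ⟨a, i, rfl, h⟩ := h
  refine ⟨a * b⁻¹, i, ?_, by rwa [← act_mul, inv_mul_cancel_right]⟩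
  rw [map_mul, map_inv]
  group

omit [FiniteDimensional ℂ 𝒜] in
theorem rs (ν : D.Wt) : RS cs (D.Wl ν) {r | D.Good ν r} where
  refl := fun _ h => h.refl
  le := fun _ h => h.mem
  conj := by
    rintro _ ⟨b, hb, rfl⟩ r hr
    have h := Good.act hr b
    rwa [D.mem_Nl.1 hb] at h

omit [FiniteDimensional ℂ 𝒜] in
theorem Rl_le (ν : D.Wt) : D.Rl ν ≤ D.Wl ν := (rs ν).closure_le

omit [FiniteDimensional ℂ 𝒜] in
theorem E_act_ne {ν : D.Wt} (hE : D.E ν ≠ 0) (a : N) : D.E (D.act a ν) ≠ 0 := fun h =>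
  (D.ln_t a ν).ne_zero hE (by rw [t_E, h, zero_mul])

omit [FiniteDimensional ℂ 𝒜] in
/-- transfer of a quadratic relation along a line -/
theorem Ln.transfer {a : N} {ν : D.Wt} {x y T : 𝒜} (hx : D.Ln (D.π a) ν x) (hT : D.E ν * T = T) (e : x * T = y * x)
    {α β : ℂ} (h : y * y = α • D.E (D.act a ν) + β • y) : T * T = α • D.E ν + β • T := by
  refine hx.cancel (by rw [← mul_assoc, hT]) (by rw [mul_add, mul_smul_comm, mul_smul_comm, E_mul_E, hT]) ?_
  rw [← mul_assoc, e, mul_assoc, e, ← mul_assoc, h, add_mul, smul_mul_assoc, smul_mul_assoc, hx.E_mul, mul_add,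
    mul_smul_comm, mul_smul_comm, hx.mul_E, e]

theorem G0.conj {ν : D.Wt} {i j : I} (h : D.G0 ν i) {a : N} (e : D.π a * cs.simple i = cs.simple j * D.π a) :
    D.G0 (D.act a ν) j := by
  have hE : D.E ν ≠ 0 := fun h0 => h 0 (by rw [h0, mul_zero, smul_zero])
  wlog h0 : nn cs (D.π a) (cs.simple i) = 0 generalizing a
  · have h1 := this (a := a * D.n i) (by rw [map_mul, D.π_n, ← mul_assoc, ← e]) (by
      rw [map_mul, D.π_n, nn_mul, nn_simple_self, cs.simple_mul_simple_self, one_mul, cs.inv_simple,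
        (z2_cases _).resolve_left h0]
      decide)
    rwa [act_mul, D.mem_Nl.1 h.fix] at h1
  have hj : D.n j ∈ D.Nl (D.act a ν) := by
    rw [mem_Nl, ← act_mul, D.act_congr (a := D.n j * a) (b := a * D.n i) (by rw [map_mul, map_mul, D.π_n, D.π_n, e]),
      act_mul, D.mem_Nl.1 h.fix]
  have hx := D.ln_t a ν
  have hT := D.ln_t (D.n i) ν
  have hy := D.ln_t (D.n j) (D.act a ν)
  have h1 := hT.mul (v := D.π a) (by rw [D.mem_Nl.1 h.fix]; exact hx) fun r _ h2 h3 => by
    rw [D.π_n, nn_simple] at h2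
    have e2 : r = cs.simple i := by
      by_contra hne
      rw [ind_of_ne hne] at h2
      exact absurd h2 (by decide)
    rw [D.π_n, e2, cs.simple_mul_simple_self, one_mul, cs.inv_simple, h0] at h3
    exact absurd h3 (by decide)
  have h2 := hx.mul hy fun r _ h2 h3 => by
    rw [D.π_n, nn_simple] at h3
    have e2 : D.π a * r * (D.π a)⁻¹ = cs.simple j := by
      by_contra hne
      rw [ind_of_ne hne] at h3
      exact absurd h3 (by decide)
    have e3 : r = cs.simple i := by
      rw [mul_inv_eq_iff_eq_mul, ← e] at e2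
      exact mul_left_cancel e2
    rw [e3, h0] at h2
    exact absurd h2 (by decide)
  rw [D.π_n] at h1 h2 hT hy
  rw [e] at h1
  obtain ⟨c, hc, e1⟩ := h1.ratio h2
  refine g0_of_sq hj (hy.smul hc) fun d hd => ?_
  have h3 := hx.transfer (hT.E_mul' (D.π_n i ▸ D.mem_Wl.2 h.fix)) (y := c • (D.t (D.n j) * D.E (D.act a ν)))
    (by rw [e1, smul_mul_assoc]) (α := d) (β := 0) (by rw [hd, zero_smul, add_zero])
  obtain ⟨α, β, -, hβ, h4⟩ := h.quad hT
  rw [h4, zero_smul, add_zero] at h3
  exact hβ (hT.indep (simple_ne_one i) hE (d := d - α) (by rw [sub_smul, ← h3, add_sub_cancel_left])).1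

theorem Good.g0 {ν : D.Wt} {a : N} {i : I} (h : D.Good ν ((D.π a)⁻¹ * cs.simple i * D.π a)) : D.G0 (D.act a ν) i := by
  obtain ⟨b, j, e, h⟩ := h
  have h1 := h.conj (a := a * b⁻¹) (j := i) (by
    rw [map_mul, map_inv]
    calc D.π a * (D.π b)⁻¹ * cs.simple j = D.π a * ((D.π b)⁻¹ * cs.simple j * D.π b) * (D.π b)⁻¹ := by group
      _ = _ := by
        rw [← e]
        group)
  rwa [← act_mul, inv_mul_cancel_right] at h1

/-- products inside the stabiliser -/
theorem Ln.mul' {ν : D.Wt} {v w : W} {x y : 𝒜} (hx : D.Ln v ν x) (hy : D.Ln w ν y) (hw : w ∈ D.Wl ν)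
    (hc : ∀ r, D.Good ν r → nn cs w r = 1 → nn cs v (w * r * w⁻¹) = 1 → False) : D.Ln (v * w) ν (x * y) := by
  obtain ⟨a, ha, rfl⟩ := hw
  exact hy.mul (by rwa [D.mem_Nl.1 ha]) hc

theorem Ln.mul_cl {ν : D.Wt} {c w : W} {x y : 𝒜} (hx : D.Ln c ν x) (hy : D.Ln w ν y) (hw : w ∈ D.Wl ν)
    (hc : Cl cs {r | D.Good ν r} c) : D.Ln (c * w) ν (x * y) :=
  hx.mul' hy hw fun r hr _ h => by
    rw [hc _ ((rs ν).conj w hw r hr)] at h
    exact absurd h (by decide)

theorem Ln.cl_mul {ν : D.Wt} {a : N} {v : W} {x y : 𝒜} (hx : D.Ln v (D.act a ν) x) (hy : D.Ln (D.π a) ν y)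
    (hc : Cl cs {r | D.Good ν r} (D.π a)) : D.Ln (v * D.π a) ν (x * y) :=
  hy.mul hx fun r hr h _ => by
    rw [hc r hr] at h
    exact absurd h (by decide)

/-- the normalised generator of a simple good reflection -/
theorem exists_tau {ν : D.Wt} (hE : D.E ν ≠ 0) {a : W} (ha : a ∈ Dl cs {r | D.Good ν r}) :
    ∃ T, D.Ln a ν T ∧ ∃ p : ℚ, 1 < p ∧ T * T = (p : ℂ) • D.E ν + ((p : ℂ) - 1) • T := by
  obtain ⟨hg, u, i, e, hu⟩ := ha
  obtain ⟨b, rfl⟩ := D.π_surj u
  obtain ⟨T, hT⟩ := D.exists_ln a ν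
  have hx := D.ln_t b ν
  have hy := D.ln_t (D.n i) (D.act b ν)
  rw [D.π_n] at hy
  have h1 := hx.mul_cl hT (Good.mem hg) hu
  have h2 := hy.cl_mul hx hu
  rw [show D.π b * a = cs.simple i * D.π b by rw [e]; group] at h1
  obtain ⟨c, hc, e1⟩ := h1.ratio h2
  obtain ⟨α, β, hα, hβ, h3⟩ := (Good.g0 (e ▸ hg)).quad (hy.smul hc)
  have h4 := hx.transfer (hT.E_mul' (Good.mem hg)) (by rw [e1, smul_mul_assoc]) h3
  have hne : a ≠ 1 := fun h => by
    have := (Good.refl hg).odd_length
    rw [h, cs.length_one] at this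
    exact absurd this (by decide)
  obtain ⟨d, hd, p, hp, h5⟩ := exists_norm (D.E_mul_E ν) hE (hT.E_mul' (Good.mem hg)) hT.mul_E hα hβ h4 (hT.trace hne)
  exact ⟨d • T, hT.smul hd, p, hp, h5⟩

end Dat

end Cfsg.Agent.ODD.AH
end

-- part: ODD/AH/Tau
section
/-!
# The Iwahori-Hecke algebra of the good reflections and the crossed product (helper10)
-/

set_option autoImplicit false

namespace Cfsg.Agent.ODD.AH.Dat

open Cfsg.Agent.Tits.Exchange Cfsg.Agent.LieExceptional.CoxeterExchange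

variable {I W : Type} [Group W] {M : CoxeterMatrix I} {cs : CoxeterSystem M W} {N : Type} [Group N] {𝒜 : Type} [Ring 𝒜]
  [Algebra ℂ 𝒜] {D : Dat cs N 𝒜} [Finite N] [FiniteDimensional ℂ 𝒜] {ν : D.Wt}

/-- the simple good reflections -/
abbrev Sm (ν : D.Wt) : Set W := Dl cs {r | D.Good ν r}

/-- the simple good reflections as elements of `Rl ν` -/
abbrev sm (ν : D.Wt) : Sm ν → Subgroup.closure {r | D.Good ν r} := sg cs {r | D.Good ν r}

variable (hE : D.E ν ≠ 0)

/-- the normalised generators -/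
noncomputable def tau0 (a : Sm ν) : 𝒜 := (exists_tau hE a.2).choose

/-- the parameters -/
noncomputable def pp (a : Sm ν) : ℚ := (exists_tau hE a.2).choose_spec.2.choose

theorem tau0_ln (a : Sm ν) : D.Ln a ν (tau0 hE a) := (exists_tau hE a.2).choose_spec.1

theorem pp_gt (a : Sm ν) : 1 < pp hE a := (exists_tau hE a.2).choose_spec.2.choose_spec.1

theorem tau0_sq (a : Sm ν) : tau0 hE a * tau0 hE a = (pp hE a : ℂ) • D.E ν + ((pp hE a : ℂ) - 1) • tau0 hE a :=
  (exists_tau hE a.2).choose_spec.2.choose_spec.2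

theorem E_tau0 (a : Sm ν) : D.E ν * tau0 hE a = tau0 hE a := (tau0_ln hE a).E_mul' (Good.mem a.2.1)

theorem tau0_rigid {a : Sm ν} {c : ℂ} (hc : c ≠ 0) {p : ℚ} (hp : 1 < p)
    (h : (c • tau0 hE a) * (c • tau0 hE a) = (p : ℂ) • D.E ν + ((p : ℂ) - 1) • (c • tau0 hE a)) : c = 1 := by
  have hne : (a : W) ≠ 1 := fun h => by
    have := (Good.refl a.2.1).odd_length
    rw [h, cs.length_one] at this
    exact absurd this (by decide)
  exact rigid (fun _ _ e => (tau0_ln hE a).indep hne hE e) (pp_gt hE a) hp hc (tau0_sq hE a) h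

theorem inter {w v : W} (hw : w ∈ D.Wl ν) {x : 𝒜} (hx : D.Ln w ν x) {a a' : Sm ν} (h1 : D.Ln v ν (x * tau0 hE a))
    (h2 : D.Ln v ν (tau0 hE a' * x)) : x * tau0 hE a = tau0 hE a' * x := by
  obtain ⟨c, hc, e⟩ := h2.ratio h1
  obtain ⟨b, hb, rfl⟩ := hw
  have h3 := hx.transfer (T := c • tau0 hE a) (y := tau0 hE a') (by rw [mul_smul_comm, E_tau0])
    (by rw [mul_smul_comm, e]) (by rw [D.mem_Nl.1 hb]; exact tau0_sq hE a')
  rw [e, tau0_rigid hE hc (pp_gt hE a') h3, one_smul]

/-- the product along a word -/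
noncomputable def tauW (ω : List (Sm ν)) : 𝒜 := (ω.map (tau0 hE)).prod * D.E ν

theorem tauW_nil : tauW hE [] = D.E ν := by simp [tauW]

theorem tauW_cons (a : Sm ν) (ω : List (Sm ν)) : tauW hE (a :: ω) = tau0 hE a * tauW hE ω := by
  simp only [tauW, mul_assoc, _root_.List.map_cons, _root_.List.prod_cons]

theorem tauW_concat (ω : List (Sm ν)) (a : Sm ν) : tauW hE (ω ++ [a]) = tauW hE ω * tau0 hE a := by
  simp only [tauW, mul_assoc, E_tau0, (tau0_ln hE a).mul_E, _root_.List.map_append, _root_.List.map_cons, _root_.List.map_nil, _root_.List.prod_append, _root_.List.prod_cons, _root_.List.prod_nil, _root_.mul_one]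

theorem E_tauW (ω : List (Sm ν)) : D.E ν * tauW hE ω = tauW hE ω := by
  cases ω with
  | nil => rw [tauW_nil, E_mul_E]
  | cons a ω => rw [tauW_cons, ← mul_assoc, E_tau0]

theorem tauW_ln {ω : List (Sm ν)} (h : IsRed (sm ν) ω) : D.Ln (wp (sm ν) ω : _) ν (tauW hE ω) := by
  induction ω with
  | nil =>
    rw [tauW_nil]
    exact D.ln_E ν
  | cons a ω ih =>
    rw [tauW_cons, wp_cons, Subgroup.coe_mul]
    refine (tau0_ln hE a).mul' (ih h.tail) (Rl_le ν (wp (sm ν) ω).2) fun r hr h1 h2 => ?_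
    have h0 := (rs ν).nn_of_red h
    rw [(rs ν).nn_dl a.2 ((rs ν).conj _ (Rl_le ν (wp (sm ν) ω).2) r hr)] at h2
    have e : (wp (sm ν) ω).1 * r * (wp (sm ν) ω).1⁻¹ = a := by
      by_contra hne
      rw [ind_of_ne hne] at h2
      exact absurd h2 (by decide)
    rw [← e, nn_inv, h1] at h0
    exact absurd h0 (by decide)

omit [Finite N] [FiniteDimensional ℂ 𝒜] in
theorem alt_concat {B : Type} (k : ℕ) : ∀ x y : B, ∃ d, alt x y (k + 1) = alt x y k ++ [d] := by
  induction k with
  | zero => exact fun x _ => ⟨x, rfl⟩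
  | succ k ih =>
    intro x y
    obtain ⟨d, e⟩ := ih y x
    exact ⟨d, by rw [alt_succ, e, alt_succ, List.cons_append]⟩

theorem braid (x y : Sm ν) (hm : 0 < orderOf (sm ν x * sm ν y)) :
    ((alt x y (orderOf (sm ν x * sm ν y))).map (tau0 hE)).prod =
      ((alt y x (orderOf (sm ν x * sm ν y))).map (tau0 hE)).prod := by
  have ho : orderOf (sm ν y * sm ν x) = orderOf (sm ν x * sm ν y) := by
    rw [← orderOf_inv, mul_inv_rev, inv_eq_of_mul_eq_one_left ((rs ν).sg_sq x),
      inv_eq_of_mul_eq_one_left ((rs ν).sg_sq y)]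
  have hw := (pow_eq_one_iff (rs ν).sg_sq (x := x) (y := y) _).1 (pow_orderOf_eq_one _)
  have r1 := (rs ν).alt_red _ x y le_rfl
  have r2 := (rs ν).alt_red _ y x ho.ge
  obtain ⟨k, hk⟩ : ∃ k, orderOf (sm ν x * sm ν y) = k + 1 := ⟨_, (Nat.succ_pred_eq_of_pos hm).symm⟩
  rw [hk] at hw r1 r2 ⊢
  have r3 := (rs ν).alt_red k y x ((Nat.le_succ k).trans (hk.symm.trans ho.symm).le)
  have l1 := tauW_ln hE r1
  have l2 := tauW_ln hE r2
  obtain ⟨d, e⟩ := alt_concat k y x
  obtain ⟨d', e'⟩ := alt_concat k x y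
  have p1 : ∀ (ω : List (Sm ν)) (b : Sm ν), ((ω ++ [b]).map (tau0 hE)).prod = tauW hE (ω ++ [b]) := fun ω b => by
    simp only [tauW, mul_assoc, (tau0_ln hE b).mul_E, _root_.List.map_append, _root_.List.map_cons, _root_.List.map_nil, _root_.List.prod_append, _root_.List.prod_cons, _root_.List.prod_nil, _root_.mul_one]
  rw [hw] at l1
  rw [e, e', p1, p1, ← e', alt_succ, tauW_cons, tauW_concat]
  rw [alt_succ x y, tauW_cons] at l1
  nth_rewrite 2 [e] at l2
  rw [tauW_concat] at l2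
  exact (inter hE (Rl_le ν (wp (sm ν) _).2) (tauW_ln hE r3) l2 l1).symm

/-- the basis of the Iwahori-Hecke algebra -/
noncomputable def tau (w : Subgroup.closure {r | D.Good ν r}) : 𝒜 := tauW hE ((rs ν).exists_red w).choose

theorem tau_red {ω : List (Sm ν)} (h : IsRed (sm ν) ω) : tau hE (wp (sm ν) ω) = tauW hE ω := by
  obtain ⟨h1, h2⟩ := ((rs ν).exists_red (wp (sm ν) ω)).choose_spec
  unfold tau tauW
  rw [matsumoto (rs ν).sg_sq (sg_injective cs _) (rs ν).exchange (tau0 hE) (fun x y _ hm => braid hE x y hm) _ _ ω rfl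
    (le_antisymm (h _ h2) (h1 _ h2.symm)) h1 h2]

theorem tau_ln (w : Subgroup.closure {r | D.Good ν r}) : D.Ln w ν (tau hE w) := by
  obtain ⟨ω, h, rfl⟩ := (rs ν).exists_red w
  rw [tau_red hE h]
  exact tauW_ln hE h

theorem tau_one : tau hE 1 = D.E ν := (tau_red hE isRed_nil).trans (tauW_nil hE)

theorem E_tau (w : Subgroup.closure {r | D.Good ν r}) : D.E ν * tau hE w = tau hE w := E_tauW hE _

theorem tau_sm (a : Sm ν) : tau hE (sm ν a) = tau0 hE a := by
  have h : IsRed (sm ν) [a] := (rs ν).red_cons isRed_nil (by rw [wp_nil, OneMemClass.coe_one, inv_one, nn_one])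
  have h1 := tau_red hE h
  rwa [wp_cons, wp_nil, mul_one, tauW_cons, tauW_nil, (tau0_ln hE a).mul_E] at h1

/-- the span of the basis -/
noncomputable def BB : Submodule ℂ 𝒜 := Submodule.span ℂ (Set.range (tau hE))

theorem tau_mem (w : Subgroup.closure {r | D.Good ν r}) : tau hE w ∈ BB hE := Submodule.subset_span ⟨w, rfl⟩

theorem BB_induction {P : 𝒜 → Prop} (h : ∀ w, P (tau hE w)) (h0 : P 0) (ha : ∀ x y, P x → P y → P (x + y))
    (hs : ∀ (c : ℂ) x, P x → P (c • x)) {b : 𝒜} (hb : b ∈ BB hE) : P b := by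
  induction hb using Submodule.span_induction with
  | mem x hx =>
    obtain ⟨w, rfl⟩ := hx
    exact h w
  | zero => exact h0
  | add x y _ _ hx hy => exact ha x y hx hy
  | smul c x _ hx => exact hs c x hx

theorem tau0_mul_mem (a : Sm ν) {b : 𝒜} (hb : b ∈ BB hE) : tau0 hE a * b ∈ BB hE := by
  refine BB_induction hE (P := fun b => tau0 hE a * b ∈ BB hE) (fun w => ?_) (by simp)
    (fun x y hx hy => by rw [mul_add]; exact add_mem hx hy)
    (fun c x hx => by rw [mul_smul_comm]; exact Submodule.smul_mem _ c hx) hb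
  obtain ⟨ω, h, rfl⟩ := (rs ν).exists_red w
  rcases z2_cases (nn cs ((wp (sm ν) ω : _) : W)⁻¹ a) with h0 | h0
  · rw [tau_red hE h, ← tauW_cons, ← tau_red hE ((rs ν).red_cons h h0)]
    exact tau_mem hE _
  · obtain ⟨ω', e1, e2⟩ := (rs ν).shorter h0
    have e3 : wp (sm ν) (a :: ω') = wp (sm ν) ω := by rw [wp_cons, e1, ← mul_assoc, (rs ν).sg_sq, one_mul]
    have h1 : IsRed (sm ν) (a :: ω') := h.congr e3 e2
    have e4 : tau hE (wp (sm ν) ω) = tau0 hE a * tau hE (wp (sm ν) ω') := by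
      rw [← e3, tau_red hE h1, tau_red hE h1.tail, tauW_cons]
    rw [e4, ← mul_assoc, tau0_sq, add_mul, smul_mul_assoc, smul_mul_assoc, E_tau, ← e4]
    exact add_mem (Submodule.smul_mem _ _ (tau_mem hE _)) (Submodule.smul_mem _ _ (tau_mem hE _))

theorem E_BB {b : 𝒜} (hb : b ∈ BB hE) : D.E ν * b = b :=
  BB_induction hE (P := fun b => D.E ν * b = b) (E_tau hE) (mul_zero _) (fun x y hx hy => by rw [mul_add, hx, hy])
    (fun c x hx => by rw [mul_smul_comm, hx]) hb

theorem BB_E {b : 𝒜} (hb : b ∈ BB hE) : b * D.E ν = b :=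
  BB_induction hE (P := fun b => b * D.E ν = b) (fun w => (tau_ln hE w).mul_E) (zero_mul _)
    (fun x y hx hy => by rw [add_mul, hx, hy]) (fun c x hx => by rw [smul_mul_assoc, hx]) hb

theorem tauW_mul_mem (ω : List (Sm ν)) {b : 𝒜} (hb : b ∈ BB hE) : tauW hE ω * b ∈ BB hE := by
  induction ω with
  | nil => rwa [tauW_nil, E_BB hE hb]
  | cons a ω ih =>
    rw [tauW_cons, mul_assoc]
    exact tau0_mul_mem hE a ih

theorem BB_mul {x b : 𝒜} (hx : x ∈ BB hE) (hb : b ∈ BB hE) : x * b ∈ BB hE :=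
  BB_induction hE (P := fun x => x * b ∈ BB hE) (fun _ => tauW_mul_mem hE _ hb) (by simp)
    (fun x y hx hy => by rw [add_mul]; exact add_mem hx hy)
    (fun c x hx => by rw [smul_mul_assoc]; exact Submodule.smul_mem _ c hx) hx

theorem tauW_mem (ω : List (Sm ν)) : tauW hE ω ∈ BB hE := by
  have h := tauW_mul_mem hE ω (tau_mem hE 1)
  rwa [tau_one, tauW, mul_assoc, E_mul_E] at h

theorem tau0_norm {c : W} (hc : c ∈ (rs ν).CC) {x : 𝒜} (hx : D.Ln c ν x) (a : Sm ν) :
    ∃ a', tau0 hE a * x = x * tau0 hE a' := by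
  have h1 := (rs ν).conj_dl (inv_mem hc) a.2
  refine ⟨⟨_, h1⟩, (inter hE hc.1 hx (v := a * c) ?_ ?_).symm⟩
  · have h2 := hx.mul_cl (tau0_ln hE ⟨_, h1⟩) (Good.mem h1.1) hc.2
    rwa [show c * (c⁻¹ * a * c⁻¹⁻¹) = a * c by group] at h2
  · exact (tau0_ln hE a).mul' hx hc.1 fun r hr h _ => by
      rw [hc.2 r hr] at h
      exact absurd h (by decide)

theorem BB_norm {c : W} (hc : c ∈ (rs ν).CC) {x : 𝒜} (hx : D.Ln c ν x) {b : 𝒜} (hb : b ∈ BB hE) :
    ∃ b' ∈ BB hE, b * x = x * b' := by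
  have key : ∀ ω, ∃ ω', tauW hE ω * x = x * tauW hE ω' := fun ω => by
    induction ω with
    | nil => exact ⟨[], by rw [tauW_nil, hx.E_mul' hc.1, hx.mul_E]⟩
    | cons a ω ih =>
      obtain ⟨ω', e⟩ := ih
      obtain ⟨a', e'⟩ := tau0_norm hE hc hx a
      exact ⟨a' :: ω', by rw [tauW_cons, tauW_cons, mul_assoc, e, ← mul_assoc, e', mul_assoc]⟩
  refine BB_induction hE (P := fun b => ∃ b' ∈ BB hE, b * x = x * b') (fun w => ?_) ⟨0, zero_mem _, by simp⟩ ?_ ?_ hb
  · obtain ⟨ω', e⟩ := key ((rs ν).exists_red w).choose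
    exact ⟨_, tauW_mem hE ω', e⟩
  · rintro y z ⟨y', hy, e⟩ ⟨z', hz, e'⟩
    exact ⟨y' + z', add_mem hy hz, by rw [add_mul, mul_add, e, e']⟩
  · rintro d y ⟨y', hy, e⟩
    exact ⟨d • y', Submodule.smul_mem _ d hy, by rw [smul_mul_assoc, mul_smul_comm, e]⟩

variable {σ : ℂ ≃+* ℂ} {S : 𝒜 ≃+* 𝒜} (H : D.Hyp ν σ S)
include H

omit [FiniteDimensional ℂ 𝒜] in
theorem Hyp.ln {w : W} (hw : w ∈ D.Wl ν) {x : 𝒜} (hx : D.Ln w ν x) : ∃ c : ℂ, S x = c • x := by
  obtain ⟨d, hd, a, rfl, rfl⟩ := hx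
  obtain ⟨c, e⟩ := H.line a (D.mem_Wl.1 hw)
  exact ⟨σ d * c * d⁻¹, by rw [H.smul, e, smul_smul, smul_smul, inv_mul_cancel_right₀ hd]⟩

include hE

omit [FiniteDimensional ℂ 𝒜] in
theorem Hyp.map_E : S (D.E ν) = D.E ν := by
  obtain ⟨c, e⟩ := H.ln (one_mem _) (D.ln_E ν)
  have h1 := congrArg S (D.E_mul_E ν)
  rw [map_mul, e, smul_mul_smul_comm, E_mul_E] at h1
  have hc : c ≠ 0 := fun h => hE (by rwa [h, zero_smul, map_eq_zero_iff _ S.injective] at e)
  rw [e, mul_left_cancel₀ hc ((smul_left_injective ℂ hE h1).trans (mul_one c).symm), one_smul]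

theorem Hyp.map_tau0 (a : Sm ν) : S (tau0 hE a) = tau0 hE a := by
  obtain ⟨c, e⟩ := H.ln (Good.mem a.2.1) (tau0_ln hE a)
  have hc : c ≠ 0 := fun h => (tau0_ln hE a).ne_zero hE (by rwa [h, zero_smul, map_eq_zero_iff _ S.injective] at e)
  have h1 := congrArg S (tau0_sq hE a)
  rw [map_mul, map_add, H.smul, H.smul, H.map_E hE, e, map_sub, map_one, map_ratCast] at h1
  rw [e, tau0_rigid hE hc (pp_gt hE a) h1, one_smul]

theorem Hyp.map_tau (w : Subgroup.closure {r | D.Good ν r}) : S (tau hE w) = tau hE w := by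
  have key : ∀ ω, S (tauW hE ω) = tauW hE ω := fun ω => by
    induction ω with
    | nil => rw [tauW_nil, H.map_E hE]
    | cons a ω ih => rw [tauW_cons, map_mul, ih, H.map_tau0 hE]
  exact key _

theorem Hyp.exists_T : ∃ T : (rs ν).CC → 𝒜, (∀ c : (rs ν).CC, D.Ln c ν (T c)) ∧ (∀ c, S (T c) = T c) ∧
    Crs (D.E ν) (BB hE) T := by
  suffices h : ∃ T : (rs ν).CC → 𝒜, (∀ c : (rs ν).CC, D.Ln c ν (T c)) ∧ (∀ c, S (T c) = T c) ∧ T 1 = D.E ν ∧
      ∀ c c', T c * T c' = T (c * c') by
    obtain ⟨T, h1, h2, h3, h4⟩ := h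
    exact ⟨T, h1, h2, tau_one hE ▸ tau_mem hE 1, fun _ => E_BB hE, fun _ => BB_E hE, fun _ hx _ hb => BB_mul hE hx hb,
      h3, h4, fun c _ hb => BB_norm hE c.2 (h1 c) hb⟩
  rcases H.whit with h | ⟨x, hx, hEx, h, y, hy⟩
  · refine ⟨fun _ => D.E ν, fun c => ?_, fun _ => H.map_E hE, rfl, fun _ _ => D.E_mul_E ν⟩
    rw [(rs ν).eq_one_of_cl (h c.2.1) c.2.2]
    exact D.ln_E ν
  · have h1 : ∀ c : (rs ν).CC, ∃ z, D.Ln c ν z ∧ z * x = x := fun c => by
      obtain ⟨a, ha, e⟩ := c.2.1
      obtain ⟨β, hβ⟩ := h a ha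
      have hl := D.ln_t a ν
      have hβ0 : β ≠ 0 := fun h0 => by
        obtain ⟨u, hu⟩ := hl.exists_inv
        exact hx (by rw [← hEx, ← hu, mul_assoc, mul_assoc, hEx, hβ, h0, zero_smul, mul_zero])
      exact ⟨_, e ▸ hl.smul (inv_ne_zero hβ0), by rw [smul_mul_assoc, mul_assoc, hEx, hβ, inv_smul_smul₀ hβ0]⟩
    choose T hT hTx using h1
    have uniq : ∀ (c : (rs ν).CC) z, D.Ln c ν z → z * x = x → z = T c := fun c z hz e => by
      obtain ⟨d, -, rfl⟩ := hz.ratio (hT c)
      rw [smul_mul_assoc, hTx] at e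
      rw [smul_left_injective ℂ hx (e.trans (one_smul _ _).symm), one_smul]
    refine ⟨T, hT, fun c => ?_, (uniq 1 _ (D.ln_E ν) hEx).symm, fun c c' =>
      uniq (c * c') _ ((hT c).mul_cl (hT c') c'.2.1 c.2.2) (by rw [mul_assoc, hTx, hTx])⟩
    obtain ⟨d, e⟩ := H.ln c.2.1 (hT c)
    have h2 := congrArg S (hTx c)
    rw [map_mul, e, hy, smul_mul_assoc, ← mul_assoc, hTx, ← hy] at h2
    rw [e, smul_left_injective ℂ (by rwa [Ne, map_eq_zero_iff _ S.injective]) (h2.trans (one_smul _ _).symm), one_smul]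

omit H in
theorem mem_span {T : (rs ν).CC → 𝒜} (hT : ∀ c : (rs ν).CC, D.Ln c ν (T c)) (x : 𝒜) :
    D.E ν * x * D.E ν ∈ Submodule.span ℂ {x | ∃ c, ∃ b ∈ BB hE, x = T c * b} := by
  have key : ∀ z ∈ Submodule.span ℂ (Set.range D.t),
      D.E ν * z * D.E ν ∈ Submodule.span ℂ {x | ∃ c, ∃ b ∈ BB hE, x = T c * b} := by
    intro z hz
    induction hz using Submodule.span_induction with
    | mem z hz =>
      obtain ⟨a, rfl⟩ := hz
      by_cases ha : a ∈ D.Nl ν
      · obtain ⟨c, hc, r, hr, e⟩ := (rs ν).exists_dec (D.mem_Wl.2 ha)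
        have h1 := (hT ⟨c, hc⟩).mul_cl (tau_ln hE ⟨r, hr⟩) (Rl_le ν hr) hc.2
        have h2 := D.ln_t a ν
        rw [mul_assoc, h2.E_mul' (D.mem_Wl.2 ha)]
        rw [e] at h2
        obtain ⟨d, -, e2⟩ := h2.ratio h1
        rw [e2]
        exact Submodule.smul_mem _ _ (Submodule.subset_span ⟨_, _, tau_mem hE _, rfl⟩)
      · rw [mul_assoc, t_E, ← mul_assoc, D.E_mul_E_ne (Ne.symm ha), zero_mul]
        exact zero_mem _
    | zero => simp only [_root_.Subtype.exists, _root_.MulZeroClass.mul_zero, _root_.MulZeroClass.zero_mul, _root_.ZeroMemClass.zero_mem]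
    | add y z _ _ hy hz =>
      rw [mul_add, add_mul]
      exact add_mem hy hz
    | smul d y _ hy =>
      rw [mul_smul_comm, smul_mul_assoc]
      exact Submodule.smul_mem _ d hy
  have h := key _ (D.span x)
  rwa [← mul_assoc, ← mul_assoc, E_mul_one, mul_assoc, one_mul_E] at h

end Cfsg.Agent.ODD.AH.Dat
end

-- part: ODD/AH/Main
section
/-!
# Box AH: `main : HO → Main` (helper10)
-/

set_option autoImplicit false

namespace Cfsg.Agent.ODD.AH

open Module Cfsg.Agent.H684.OQ Cfsg.Agent.LieExceptional.CoxeterExchange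

section twist

variable {V : Type} [AddCommGroup V] [Module ℂ V] [FiniteDimensional ℂ V]

theorem exists_twist (σ : ℂ ≃+* ℂ) : ∃ ψ : End ℂ V ≃+* End ℂ V, (∀ (c : ℂ) f, ψ (c • f) = σ c • ψ f) ∧
    (∀ f, LinearMap.trace ℂ V (ψ f) = σ (LinearMap.trace ℂ V f)) ∧
    ∀ f, LinearMap.det (ψ f) = σ (LinearMap.det f) := by
  let b := Module.finBasis ℂ V
  let ψ : End ℂ V ≃+* End ℂ V :=
    ((LinearMap.toMatrixAlgEquiv b).toRingEquiv.trans σ.mapMatrix).trans (Matrix.toLinAlgEquiv b).toRingEquiv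
  have hψ : ∀ f, ψ f = Matrix.toLin b b ((LinearMap.toMatrix b b f).map σ) := fun _ => rfl
  refine ⟨ψ, fun c f => ?_, fun f => ?_, fun f => ?_⟩
  · rw [hψ, hψ, ← map_smul, map_smul]
    congr 1
    ext i j
    simp
  · rw [hψ, Matrix.trace_toLin_eq, LinearMap.trace_eq_matrix_trace ℂ b, AddMonoidHom.map_trace σ]
  · rw [hψ, LinearMap.det_toLin, ← LinearMap.det_toMatrix b, σ.map_det]
    rfl

theorem irr_of_all {U : Submodule ℂ V} (h : ∀ f : End ℂ V, ∀ v ∈ U, f v ∈ U) : U = ⊥ ∨ U = ⊤ := by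
  by_cases h0 : U = ⊥
  · exact Or.inl h0
  obtain ⟨v, hv, hv0⟩ := Submodule.exists_mem_ne_zero_of_ne_bot h0
  refine Or.inr (eq_top_iff.2 fun w _ => ?_)
  obtain ⟨φ, hφ⟩ := Module.Projective.exists_dual_eq_one ℂ hv0
  have h4 := h (φ.smulRight w) v hv
  rwa [LinearMap.smulRight_apply, hφ, one_smul] at h4

end twist

namespace Dat

variable {I W : Type} [Group W] [Finite W] {M : CoxeterMatrix I} {cs : CoxeterSystem M W} {N : Type} [Group N] {𝒜 : Type}
  [Ring 𝒜] [Algebra ℂ 𝒜] {D : Dat cs N 𝒜} [Finite N] [FiniteDimensional ℂ 𝒜] {ν : D.Wt} {σ : ℂ ≃+* ℂ} {S : 𝒜 ≃+* 𝒜}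
  {V : Type} [AddCommGroup V] [Module ℂ V] [FiniteDimensional ℂ V] {r : 𝒜 →ₗ[ℂ] End ℂ V}

theorem trace_tau (hO : HO) (h5 : ∀ r s, cs.IsReflection r → cs.IsReflection s → orderOf (r * s) ≠ 5)
    (hE : D.E ν ≠ 0) (hr : Crn (D.E ν) r) (hodd : Odd (finrank ℂ V)) (hs : ∀ f, ∃ b ∈ BB hE, r b = f) (σ : ℂ ≃+* ℂ)
    (w : Subgroup.closure {r | D.Good ν r}) :
    σ (LinearMap.trace ℂ V (r (tau hE w))) = LinearMap.trace ℂ V (r (tau hE w)) := by
  obtain ⟨M', cs', hM, hs', hl⟩ := (rs ν).exists_cs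
  refine hO _ _ V M' cs' (fun w => r (tau hE w)) (pp hE) (fun a b => ?_) (fun a => one_pos.trans (pp_gt hE a)) ?_
    (fun a w h => ?_) (fun a => ?_) (fun U hU => irr_of_all fun f v hv => ?_) hodd σ w
  · rw [hM]
    exact h5 _ _ (Good.refl a.2.1) (Good.refl b.2.1)
  · show r (tau hE 1) = 1
    rw [tau_one, hr.one]
  · obtain ⟨ω, hω, rfl⟩ := (rs ν).exists_red w
    show r (tau hE _) * r (tau hE _) = r (tau hE _)
    have h1 := tau_red hE (hl a ω hω h)
    rw [wp_cons, tauW_cons, ← tau_red hE hω] at h1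
    rw [hs', tau_sm, h1, hr.mul _ _ (E_tau hE _)]
  · show (r (tau hE _) - _) * (r (tau hE _) + 1) = 0
    have h1 := congrArg r (tau0_sq hE a)
    rw [hr.mul _ _ (E_tau0 hE a), map_add, map_smul, map_smul, hr.one] at h1
    rw [hs', tau_sm, sub_mul, mul_add, mul_add, h1, smul_mul_assoc, smul_mul_assoc, one_mul, mul_one, mul_one]
    module
  · obtain ⟨b, hb, rfl⟩ := hs f
    exact BB_induction hE (P := fun b => r b v ∈ U) (fun w => hU w v hv) (by simp)
      (fun x y hx hy => by rw [map_add]; exact add_mem hx hy)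
      (fun c x hx => by rw [map_smul]; exact U.smul_mem c hx) hb

/-- the abstract form -/
theorem Hyp.trace_map (hO : HO) (H : D.Hyp ν σ S) (hr : Crn (D.E ν) r) (hodd : Odd (finrank ℂ V))
    (hs : ∀ f, ∃ x, r (D.E ν * x * D.E ν) = f) (x : 𝒜) :
    LinearMap.trace ℂ V (r (S (D.E ν * x * D.E ν))) = σ (LinearMap.trace ℂ V (r (D.E ν * x * D.E ν))) := by
  have : Nontrivial V := Module.nontrivial_of_finrank_pos hodd.pos
  have hE : D.E ν ≠ 0 := fun h => one_ne_zero (by rw [← hr.one, h, map_zero])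
  obtain ⟨T, hT, hST, hC⟩ := H.exists_T hE
  obtain ⟨ψ, h1, h2, h3⟩ := exists_twist (V := V) σ.symm
  let s : 𝒜 →ₗ[ℂ] End ℂ V :=
    { toFun := fun x => ψ (r (S x))
      map_add' := fun x y => by rw [map_add, map_add, map_add]
      map_smul' := fun c x => by rw [H.smul, map_smul, h1, σ.symm_apply_apply, RingHom.id_apply] }
  have s_apply : ∀ x, s x = ψ (r (S x)) := fun _ => rfl
  have hs' : Crn (D.E ν) s := ⟨by rw [s_apply, H.map_E hE, hr.one, map_one], fun x y e => by
    rw [s_apply, s_apply, s_apply, map_mul, hr.mul _ _ (by rw [← H.map_E hE, ← map_mul, e]), map_mul]⟩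
  have two : IsPGroup 2 (rs ν).CC := fun c => by
    obtain ⟨k, hk⟩ := H.two c c.2.1
    exact ⟨k, Subtype.ext ((rs ν).eq_one_of_cl hk (c ^ 2 ^ k).2.2)⟩
  have hsgn : ∀ g : (rs ν).CC →* ℂˣ, ∀ c, g c * g c = 1 := fun g c => by
    obtain ⟨f, f1, f2⟩ := (rs ν).exists_proj
    have h4 := H.sgn (g.comp f) (fun w hw => by rw [MonoidHom.comp_apply, f1 w hw, map_one]) ⟨c, c.2.1⟩
    rwa [MonoidHom.comp_apply, f2] at h4
  have sr := hC.surj hr two hodd fun f => by
    obtain ⟨x, e⟩ := hs f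
    exact ⟨_, mem_span hE hT x, e⟩
  have ss : ∀ f, ∃ b ∈ BB hE, s b = f := fun f => by
    obtain ⟨b, hb, e⟩ := sr (ψ.symm f)
    obtain ⟨b', hb', rfl⟩ := BB_induction hE (P := fun b => ∃ b' ∈ BB hE, S b' = b)
      (fun w => ⟨_, tau_mem hE w, H.map_tau hE w⟩) ⟨0, zero_mem _, map_zero _⟩
      (fun _ _ ⟨x, hx, ex⟩ ⟨y, hy, ey⟩ => ⟨x + y, add_mem hx hy, by rw [map_add, ex, ey]⟩)
      (fun c _ ⟨x, hx, ex⟩ => ⟨σ.symm c • x, Submodule.smul_mem _ _ hx, by rw [H.smul, ex, σ.apply_symm_apply]⟩) hb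
    exact ⟨b', hb', by rw [s_apply, e, ψ.apply_symm_apply]⟩
  have htr : ∀ b ∈ BB hE, LinearMap.trace ℂ V (r b) = LinearMap.trace ℂ V (s b) := fun b hb =>
    BB_induction hE (P := fun b => LinearMap.trace ℂ V (r b) = LinearMap.trace ℂ V (s b))
      (fun w => by rw [s_apply, H.map_tau hE, h2, trace_tau hO H.five hE hr hodd sr]) (by simp)
      (fun x y hx hy => by simp only [map_add, hx, hy]) (fun c x hx => by simp only [map_smul, hx]) hb
  have hdet : ∀ c, LinearMap.det (r (T c)) = LinearMap.det (s (T c)) := fun c => by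
    have h4 := congrArg Units.val (hsgn (MonoidHom.toHomUnits (LinearMap.det.comp (hC.hom hr))) c)
    have h5 : LinearMap.det (r (T c)) * LinearMap.det (r (T c)) = 1 := h4
    rw [s_apply, hST, h3]
    rcases mul_self_eq_one_iff.1 h5 with h6 | h6 <;> simp only [h6, _root_.map_one, _root_.RingEquiv.map_neg_one]
  have key : ∀ z ∈ Submodule.span ℂ {x | ∃ c, ∃ b ∈ BB hE, x = T c * b},
      LinearMap.trace ℂ V (r z) = LinearMap.trace ℂ V (s z) := by
    intro z hz
    induction hz using Submodule.span_induction with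
    | mem z hz =>
      obtain ⟨c, b, hb, rfl⟩ := hz
      exact hC.compare hr hs' hodd sr ss htr hdet hsgn c hb
    | zero => simp only [_root_.map_zero]
    | add y z _ _ hy hz => simp only [map_add, hy, hz]
    | smul d y _ hy => simp only [map_smul, hy]
  rw [key _ (mem_span hE hT x), s_apply, h2, σ.apply_symm_apply]

end Dat

section group

variable {G : Type} [Group G]

theorem lin_character {V : Type} [AddCommGroup V] [Module ℂ V] [FiniteDimensional ℂ V] (ρ : Representation ℂ G V)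
    (x : Al G) : lin ρ.character x = LinearMap.trace ℂ V (ρ.asAlgebraHom x) := by
  induction x using al_induction with
  | hd g =>
    rw [lin_dl]
    simp [dl, Representation.character]
  | ha a b ha hb => simp only [map_add, ha, hb]
  | hs c a ha => simp only [map_smul, ha]

theorem lin_tw (σ : ℂ ≃+* ℂ) (δ : G ≃* G) (χ : G → ℂ) (x : Al G) :
    lin χ (tw σ δ x) = σ (lin (fun g => σ.symm (χ (δ g))) x) := by
  induction x using al_induction with
  | hd g => rw [tw_dl, lin_dl, lin_dl, σ.apply_symm_apply]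
  | ha a b ha hb => simp only [map_add, ha, hb]
  | hs c a ha => simp only [tw_smul, map_smul, ha, smul_eq_mul, map_mul]

theorem isIrr_comp {χ : G → ℂ} (h : IsIrrCharacter G χ) (δ : G ≃* G) : IsIrrCharacter G fun g => χ (δ g) := by
  obtain ⟨n, ρ, h, rfl⟩ := h
  refine ⟨n, ρ.comp δ.toMonoidHom, ?_, rfl⟩
  rw [CharDeep.LinearChar.isIrreducible_iff] at h ⊢
  exact ⟨h.1, fun U hU => h.2 U fun g v hv => by simpa only [_root_.MulEquiv.toMonoidHom_eq_coe, _root_.MonoidHom.coe_comp, _root_.MonoidHom.coe_coe, _root_.Function.comp_apply, _root_.MulEquiv.apply_symm_apply] using hU (δ.symm g) v hv⟩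

/-- an irreducible character is determined by its values on a corner on which it does not vanish -/
theorem eq_of_corner {χ χ' : G → ℂ} (h : IsIrrCharacter G χ) (h' : IsIrrCharacter G χ') {e : Al G} (he : e * e = e)
    (h0 : lin χ e ≠ 0) (hx : ∀ x, lin χ' (e * x * e) = lin χ (e * x * e)) : χ' = χ := by
  obtain ⟨n, ρ, h, rfl⟩ := h
  obtain ⟨n', ρ', h', rfl⟩ := h'
  by_contra hne
  let d : Bool → ℕ := fun
    | true => n
    | false => n'
  let R : ∀ i, Representation ℂ G (Fin (d i) → ℂ) := fun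
    | true => ρ
    | false => ρ'
  let T : ∀ i, End ℂ (Fin (d i) → ℂ) := fun
    | true => 1
    | false => 0
  obtain ⟨a, ha⟩ := Blocks.ModularTraces.exists_density R (fun
    | true => h
    | false => h') (fun
    | true, true, e => absurd rfl e
    | true, false, _ => ⟨fun φ => hne (Representation.char_iso φ).symm⟩
    | false, true, _ => ⟨fun φ => hne (Representation.char_iso φ)⟩
    | false, false, e => absurd rfl e) T
  have h1 : ρ.asAlgebraHom a = 1 := ha true
  have h2 : ρ'.asAlgebraHom a = 0 := ha false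
  have h3 := hx a
  rw [lin_character, lin_character, map_mul ρ'.asAlgebraHom, map_mul ρ'.asAlgebraHom, map_mul ρ.asAlgebraHom,
    map_mul ρ.asAlgebraHom, h1, h2, mul_one, mul_zero, zero_mul, map_zero, ← map_mul, he, ← lin_character] at h3
  exact h0 h3.symm

/-- the representation of the corner on the image of the idempotent -/
theorem exists_crn {n : ℕ} (ρ : Representation ℂ G (Fin n → ℂ)) (h : ρ.IsIrreducible) {e : Al G} (he : e * e = e) :
    ∃ (V : Submodule ℂ (Fin n → ℂ)) (r : Al G →ₗ[ℂ] End ℂ V), Crn e r ∧ (finrank ℂ V : ℂ) = lin ρ.character e ∧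
      (∀ x, LinearMap.trace ℂ V (r x) = lin ρ.character (x * e)) ∧ ∀ f, ∃ x, r (e * x * e) = f := by
  have hP : LinearMap.IsProj (LinearMap.range (ρ.asAlgebraHom e)) (ρ.asAlgebraHom e) :=
    (LinearMap.isProj_range_iff_isIdempotentElem _).2 (by rw [IsIdempotentElem, ← map_mul, he])
  let r : Al G →ₗ[ℂ] End ℂ (LinearMap.range (ρ.asAlgebraHom e)) :=
    { toFun := fun x => hP.codRestrict ∘ₗ ρ.asAlgebraHom x ∘ₗ Submodule.subtype _
      map_add' := fun x y => by rw [map_add, LinearMap.add_comp, LinearMap.comp_add]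
      map_smul' := fun c x => by rw [map_smul, LinearMap.smul_comp, LinearMap.comp_smul, RingHom.id_apply] }
  have hr : ∀ x v, (r x v : Fin n → ℂ) = ρ.asAlgebraHom e (ρ.asAlgebraHom x v) := fun _ _ => rfl
  refine ⟨_, r, ⟨?_, fun x y e1 => ?_⟩, ?_, fun x => ?_, fun f => ?_⟩
  · ext1 v
    apply Subtype.ext
    rw [hr, hP.map_id _ v.2, hP.map_id _ v.2]
    rfl
  · ext1 v
    apply Subtype.ext
    rw [End.mul_apply, hr, hr, hr, ← End.mul_apply _ (ρ.asAlgebraHom y), ← map_mul, e1, map_mul, End.mul_apply]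
  · rw [lin_character, hP.trace]
  · rw [lin_character, map_mul]
    show LinearMap.trace ℂ _ (hP.codRestrict ∘ₗ ρ.asAlgebraHom x ∘ₗ Submodule.subtype _) = _
    rw [LinearMap.trace_comp_comm', LinearMap.comp_assoc, hP.subtype_comp_codRestrict]
    rfl
  · obtain ⟨a, ha⟩ := Blocks.ModularTraces.exists_density (ι := Unit) (V := fun _ => Fin n → ℂ) (fun _ => ρ)
      (fun _ => h) (fun i j hij => absurd (Subsingleton.elim i j) hij)
      fun _ => Submodule.subtype _ ∘ₗ f ∘ₗ hP.codRestrict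
    refine ⟨a, ?_⟩
    ext1 v
    apply Subtype.ext
    rw [hr, map_mul, map_mul, ha (), End.mul_apply, End.mul_apply, hP.map_id _ v.2, LinearMap.comp_apply,
      LinearMap.comp_apply, hP.codRestrict_apply_cod, Submodule.subtype_apply, hP.map_id _ (f v).2, hP.map_id _ (f v).2]

end group

/-- **Box AH.** -/
theorem main (hO : HO) : Main := by
  intro I W _ _ _ M cs N G _ _ _ _ D ν σ δ H χ hχ ⟨m, hm, e⟩ g
  have hχ' := Characters.GaloisIrr.isIrr_map σ.symm (isIrr_comp hχ δ)
  have hm0 : lin χ (D.E ν) ≠ 0 := by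
    rw [e]
    exact_mod_cast hm.pos.ne'
  have key := eq_of_corner hχ hχ' (D.E_mul_E ν) hm0 fun x => by
    obtain ⟨n, ρ, h, rfl⟩ := hχ
    obtain ⟨V, r, h1, h2, h3, h4⟩ := exists_crn ρ h (D.E_mul_E ν)
    have hE : D.E ν ≠ 0 := fun h => hm0 (by rw [h, map_zero])
    have h5 := H.trace_map hO h1 (by rwa [show finrank ℂ V = m by exact_mod_cast h2.trans e]) h4 x
    rw [h3, h3, mul_assoc _ (D.E ν), D.E_mul_E] at h5
    nth_rewrite 3 [← H.map_E hE] at h5
    rw [← map_mul, mul_assoc _ (D.E ν), D.E_mul_E, lin_tw] at h5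
    exact σ.injective h5
  rw [← congrFun key g, σ.apply_symm_apply]

end Cfsg.Agent.ODD.AH
end

private theorem dce_2128ec4955d2 : _root_.True := by
  try have : _root_.True := by simp only [_root_.Cfsg.Agent.ODD.AH.Dat.Sm.congr_simp]
  try have : _root_.True := by simp only [_root_.Cfsg.Agent.ODD.AH.Dat.BB.congr_simp]
  try have : _root_.True := by simp only [_root_.Cfsg.Agent.ODD.AH.Dat.tauW.eq_1]
  try have : _root_.True := by simp only [_root_.Cfsg.Agent.ODD.AH.Dat.pp.congr_simp]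
  try have : _root_.True := by simp only [_root_.Cfsg.Agent.ODD.AH.Dat.E.congr_simp]
  try have : _root_.True := by simp only [_root_.Cfsg.Agent.ODD.AH.Dat.tau0.congr_simp]
  try have : _root_.True := by simp only [_root_.Cfsg.Agent.ODD.AH.RS.CC.congr_simp]
  try have : _root_.True := by simp only [_root_.Cfsg.Agent.ODD.AH.Dat.Good.congr_simp]
  exact _root_.True.intro
end

-- part: ODD/Lev/Defs
section
set_option linter.all false

/-!
# ODD, box LEV: the statement (helper97)

`Y` has a root group datum in odd characteristic, `θ` is an irreducible character over the weight `lam`, which extends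
to the linear character `μ` of the parabolic subgroup `P_J`; `D ≤ P_J` is a `2`-group.  `In` collects the conditions;
`LEV` says `θ g ≡ μ g * θ 1` modulo twice an algebraic integer for the `2`-elements `g` of `P_J` which centralise `D`,
`LEVQ` is the form used for `QA`.  `RatB B P`: the constituents of `1_B^P` are rational; it follows from `HOA` if `J`
is of type `A × ⋯ × A` (`RATA`).  The three statements are proved in `ODD/Lev/Main.lean`.
-/

set_option autoImplicit false

namespace Cfsg.Agent.ODD.Lev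

open Cfsg Module Cfsg.Agent.ChevalleyStructure.CoxeterGeom Cfsg.Agent.Nodes.Reps Cfsg.Agent.Nodes.BNOf
  Cfsg.Agent.Nodes.Bruhat Cfsg.Agent.Nodes.LeviDec Cfsg.Agent.H381.OQ Cfsg.Agent.H684.OQ

/-- `z` is twice an algebraic integer -/
def Ev (z : ℂ) : Prop := IsIntegral ℤ (z / 2)

/-- the diagram on `J` is a union of paths with simple bonds -/
def TypeA {I : Type*} (M : CoxeterMatrix I) (J : Set I) : Prop :=
  (∀ i ∈ J, ∀ j ∈ J, M i j ≤ 3) ∧
    ∀ i ∈ J, ∀ a ∈ J, ∀ b ∈ J, ∀ c ∈ J, M i a = 3 → M i b = 3 → M i c = 3 → a = b ∨ a = c ∨ b = c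

/-- The irreducible modules of the Iwahori-Hecke algebras of type `A × ⋯ × A` have rational characters
(`ODD.AH.HO` without the hypothesis on the dimension). -/
def HOA : Prop :=
  ∀ (I W V : Type) [Finite I] [Group W] [Finite W] (M : CoxeterMatrix I) (cs : CoxeterSystem M W)
    [AddCommGroup V] [Module ℂ V] [FiniteDimensional ℂ V] (τ : W → Module.End ℂ V) (p : I → ℚ),
    TypeA M Set.univ → (∀ i, 0 < p i) → τ 1 = 1 →
    (∀ i w, cs.length w < cs.length (cs.simple i * w) → τ (cs.simple i) * τ w = τ (cs.simple i * w)) →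
    (∀ i, (τ (cs.simple i) - (p i : ℂ) • (1 : Module.End ℂ V)) * (τ (cs.simple i) + 1) = 0) →
    (∀ U : Submodule ℂ V, (∀ w, ∀ v ∈ U, τ w v ∈ U) → U = ⊥ ∨ U = ⊤) →
    ∀ (σ : ℂ ≃+* ℂ) (w : W), σ (LinearMap.trace ℂ V (τ w)) = LinearMap.trace ℂ V (τ w)

/-- the constituents of `1_B^P` are rational -/
def RatB {Y : Type} [Group Y] (B P : Subgroup Y) : Prop :=
  ∀ (hBP : B ≤ P) (χ : P → ℂ), IsIrrCharacter P χ → ∑ᶠ b : B, χ ⟨b, hBP b.2⟩ ≠ 0 →
    ∀ (σ : ℂ ≃+* ℂ) (g : P), σ (χ g) = χ g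

section

variable {I W Y : Type} [Fintype I] [DecidableEq I] [Group W] [Group Y]
  {M : CoxeterMatrix I} {cs : CoxeterSystem M W} {A : I → I → ℤ} {h : IsCartan M A} {p : ℕ} {T : Subgroup Y}
  {n : I → Y} {X : (I → ℤ) → Subgroup Y}

/-- The conditions of LEV.  `Cj T ν lam k` means `ν t = lam (k⁻¹ * t * k)`. -/
structure In (R : RGD cs h p T n X) (J : Set I) (μ : ↥(PJ cs h T X J) →* ℂˣ) (lam : ↥T →* ℂˣ) (D : Subgroup Y) :
    Prop where
  /-- `μ` extends `lam` -/
  muT : ∀ t (ht : t ∈ T) (ht' : t ∈ PJ cs h T X J), μ ⟨t, ht'⟩ = lam ⟨t, ht⟩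
  /-- `μ` is trivial on `U` -/
  muU : ∀ u ∈ UU cs h X, ∀ hu : u ∈ PJ cs h T X J, μ ⟨u, hu⟩ = 1
  two : IsPGroup 2 D
  le : D ≤ PJ cs h T X J
  /-- (i) -/
  cV : ∀ v ∈ VJ cs h X J, (∀ d ∈ D, d * v = v * d) → v = 1
  /-- (ii), (iii), (iv): a conjugate of `lam` is `lam` or, up to `W_J`, its stabiliser in `W_J` lies in a subgroup
  `H ≥ B` which contains no `P_J`-conjugate of `D` -/
  wt : ∀ (ν : ↥T →* ℂˣ), ∀ k ∈ NN cs R.nsys, Cj T ν lam k → ν = lam ∨
    ∃ (ν' : ↥T →* ℂˣ) (a : Y) (H : Subgroup Y), a ∈ NN cs R.nsys ∧ a ∈ PJ cs h T X J ∧ Cj T ν' ν a ∧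
      RGD.B cs h T X ≤ H ∧ (∀ x ∈ PJ cs h T X J, ∃ d ∈ D, x⁻¹ * d * x ∉ H) ∧
      ∀ c ∈ NN cs R.nsys, c ∈ PJ cs h T X J → Cj T ν' ν' c → c ∈ H

end

/-- **LEV** -/
def LEV : Prop :=
  ∀ {I W Y : Type} [Fintype I] [DecidableEq I] [Group W] [Finite W] [Group Y] [Finite Y]
    {M : CoxeterMatrix I} {cs : CoxeterSystem M W} {A : I → I → ℤ} {h : IsCartan M A} {p : ℕ} {T : Subgroup Y}
    {n : I → Y} {X : (I → ℤ) → Subgroup Y} (R : RGD cs h p T n X) (J : Set I) (μ : ↥(PJ cs h T X J) →* ℂˣ)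
    (lam : ↥T →* ℂˣ) (D : Subgroup Y), p.Prime → p ≠ 2 → GG cs h T X = ⊤ → In R J μ lam D →
    RatB (RGD.B cs h T X) (PJ cs h T X J) → ∀ θ : Y → ℂ, IsIrrCharacter Y θ → mB R lam θ ≠ 0 →
    ∀ (g : Y) (hg : g ∈ PJ cs h T X J) (e : ℕ), g ^ 2 ^ e = 1 → (∀ d ∈ D, d * g = g * d) →
    Ev (θ g - μ ⟨g, hg⟩ * θ 1)

/-- **LEV**, the form for `QA` -/
def LEVQ : Prop :=
  ∀ {I W Y : Type} [Fintype I] [DecidableEq I] [Group W] [Finite W] [Group Y] [Finite Y]
    {M : CoxeterMatrix I} {cs : CoxeterSystem M W} {A : I → I → ℤ} {h : IsCartan M A} {p : ℕ} {T : Subgroup Y}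
    {n : I → Y} {X : (I → ℤ) → Subgroup Y} (R : RGD cs h p T n X) (J : Set I) (μ : ↥(PJ cs h T X J) →* ℂˣ)
    (lam : ↥T →* ℂˣ) (D : Subgroup Y), p.Prime → p ≠ 2 → GG cs h T X = ⊤ → In R J μ lam D →
    RatB (RGD.B cs h T X) (PJ cs h T X J) → ∀ θ : Y → ℂ, IsIrrCharacter Y θ → Odd (charDegree θ) → mB R lam θ ≠ 0 →
    ∀ (g : Y) (hg : g ∈ PJ cs h T X J) (e : ℕ), g ^ 2 ^ e = 1 → (∀ d ∈ D, d * g = g * d) → μ ⟨g, hg⟩ ^ 2 ≠ 1 →
    ∀ s : ℂ ≃+* ℂ, s Complex.I = -Complex.I → s (θ g) ≠ θ g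

/-- the constituents of `1_B^(P_J)` are rational if `J` is of type `A × ⋯ × A` -/
def RATA : Prop :=
  ∀ {I W Y : Type} [Fintype I] [DecidableEq I] [Group W] [Finite W] [Group Y] [Finite Y]
    {M : CoxeterMatrix I} {cs : CoxeterSystem M W} {A : I → I → ℤ} {h : IsCartan M A} {p : ℕ} {T : Subgroup Y}
    {n : I → Y} {X : (I → ℤ) → Subgroup Y} (_ : RGD cs h p T n X) (J : Set I), TypeA M J →
    RatB (RGD.B cs h T X) (PJ cs h T X J)

end Cfsg.Agent.ODD.Lev
end

-- part: ODD/Hk/Main
section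
prune_inst 0x144005004422000000000080012000000000002000000000042204000248000000800040010000054200000100000020000000004000000000000000040000000000000400000088400080000500000000009000000000000000000000000000000000000
set_option linter.all false
open scoped Cfsg.Agent.FastGrp

-- part: ODD/Hk/Prim
section
/-!
# Primitive central idempotents of the Hecke algebra (helper2)

`Prim cs t z` : `z` is a primitive idempotent of the centre; `PS cs t` their type, `card_PS`, `sum_PS`, `Prim.bound`;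
`N cs t u v` : the trace of `x ↦ u v x`.
-/

set_option autoImplicit false
set_option linter.unusedSectionVars false

namespace Cfsg.Agent.ODD.Hk

open CoxeterSystem Cfsg.Agent.Tits.Exchange Cfsg.Agent.Tits.Core Module Cfsg.Agent.H157.HK
open scoped ComplexConjugate

variable {I W : Type*} {M : CoxeterMatrix I} [Group W] (cs : CoxeterSystem M W) [Fintype W] [DecidableEq W]
  (t : Wt cs)

/-- the involution -/
noncomputable def st (v : W → ℂ) : W → ℂ := fun w => conj (v w⁻¹)

theorem st_st (v : W → ℂ) : st (st v) = v := by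
  funext w
  simp [st]

theorem st_add (u v : W → ℂ) : st (u + v) = st u + st v := by
  funext w
  simp [st]

theorem st_sub (u v : W → ℂ) : st (u - v) = st u - st v := by
  funext w
  simp [st]

theorem st_smul (c : ℂ) (v : W → ℂ) : st (c • v) = conj c • st v := by
  funext w
  simp [st]

theorem Lm_eq (u : W → ℂ) : Lm cs t u = ∑ w, u w • Lm cs t (e w) := by
  conv_lhs => unfold Lm
  exact Finset.sum_congr rfl fun w _ => by rw [LL_wd]

theorem ip_Lm (u a b : W → ℂ) : ip cs t (Lm cs t u a) b = ip cs t a (Lm cs t (st u) b) := by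
  rw [Lm_eq cs t u, Lm_eq cs t (st u), LinearMap.sum_apply, LinearMap.sum_apply, ip_sum_left, ip_sum_right,
    ← Equiv.sum_comp (Equiv.inv W) (fun w => ip cs t a ((st u w • Lm cs t (e w)) b))]
  refine Finset.sum_congr rfl fun w _ => ?_
  rw [LinearMap.smul_apply, LinearMap.smul_apply, ip_smul_left, ip_smul_right, ip_Lm_e]
  simp [st]

theorem ip_ext {x y : W → ℂ} (h : ∀ a, ip cs t a x = ip cs t a y) : x = y := by
  rw [← sub_eq_zero]
  apply eq_zero_of_ip cs t
  rw [ip_sub_right, h, sub_self]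

theorem mul_apply' (u v x : W → ℂ) : Lm cs t (Lm cs t u v) x = Lm cs t u (Lm cs t v x) := by
  rw [Lm_Lm, Module.End.mul_apply]

theorem Lm_one' (v : W → ℂ) : Lm cs t (e 1) v = v := by rw [Lm_one, Module.End.one_apply]

theorem st_Lm (u v : W → ℂ) : st (Lm cs t u v) = Lm cs t (st v) (st u) := by
  have h : ∀ b, Lm cs t (st (Lm cs t u v)) b = Lm cs t (st v) (Lm cs t (st u) b) := fun b =>
    ip_ext cs t fun a => by rw [← ip_Lm, mul_apply', ip_Lm, ip_Lm]
  have h1 := h (e 1)
  rwa [Lm_e_one, Lm_e_one] at h1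

theorem st_mem {z : W → ℂ} (hz : z ∈ Z cs t) : st z ∈ Z cs t := by
  apply mem_Z_of_comm
  intro i
  refine LinearMap.ext fun b => ip_ext cs t fun a => ?_
  rw [Module.End.mul_apply, Module.End.mul_apply, ← ip_Lm, ← ip_L, ← ip_L, ← ip_Lm, ← Module.End.mul_apply,
    ← Lm_L cs t hz, Module.End.mul_apply]

theorem sa_of_st {v : W → ℂ} (h : st v = v) : SA cs t (Lm cs t v) := fun a b => by rw [ip_Lm, h]

theorem eq_zero_of_st {x : W → ℂ} (h : Lm cs t (st x) x = 0) : x = 0 := by
  apply eq_zero_of_ip cs t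
  have h1 := ip_Lm cs t x (e 1) x
  rw [Lm_e_one, h] at h1
  rw [h1]
  simp [ip]

theorem Lm_sub' (u v x : W → ℂ) : Lm cs t (u - v) x = Lm cs t u x - Lm cs t v x := by
  rw [Lm_sub, LinearMap.sub_apply]

/-- central idempotents are self-adjoint -/
theorem st_of_idem {y : W → ℂ} (hy : y ∈ Z cs t) (h : Lm cs t y y = y) : st y = y := by
  have hs : Lm cs t (st y) (st y) = st y := by rw [← st_Lm, h]
  have hc : Lm cs t y (st y) = Lm cs t (st y) y := comm_e cs t hy _
  have h1 : y - Lm cs t (st y) y = 0 := by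
    apply eq_zero_of_st cs t
    rw [st_sub, st_Lm, st_st, Lm_sub', map_sub, map_sub, mul_apply', mul_apply', h, ← mul_apply' cs t (st y) (st y), hs,
      ← mul_apply' cs t y (st y) y, hc, mul_apply', h, ← mul_apply' cs t (st y) (st y), hs]
    abel
  rw [sub_eq_zero] at h1
  have h2 := congrArg st h1
  rw [st_Lm, st_st, ← h1] at h2
  exact h2

/-- primitive idempotents of the centre -/
structure Prim (z : W → ℂ) : Prop where
  mem : z ∈ Z cs t
  idem : Lm cs t z z = z
  ne : z ≠ 0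
  prim : ∀ v ∈ Z cs t, ∃ a : ℂ, Lm cs t z v = a • z

variable {cs t}

theorem Prim.dich {z y : W → ℂ} (hz : Prim cs t z) (hy : y ∈ Z cs t) (hi : Lm cs t y y = y) :
    Lm cs t z y = 0 ∨ Lm cs t z y = z := by
  obtain ⟨a, ha⟩ := hz.prim y hy
  have h1 : Lm cs t z (Lm cs t y y) = (a * a) • z := by
    rw [← mul_apply', ha, Lm_smul, LinearMap.smul_apply, ha, smul_smul]
  rw [hi, ha] at h1
  have h2 : a = a * a := smul_left_injective ℂ hz.ne h1
  by_cases h0 : a = 0
  · left; rw [ha, h0, zero_smul]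
  · right
    have : a = 1 := by
      apply mul_left_cancel₀ h0
      rw [← h2, mul_one]
    rw [ha, this, one_smul]

theorem Prim.orth {z y : W → ℂ} (hz : Prim cs t z) (hy : Prim cs t y) (h : z ≠ y) : Lm cs t z y = 0 := by
  rcases hz.dich hy.mem hy.idem with h1 | h1
  · exact h1
  rcases hy.dich hz.mem hz.idem with h2 | h2
  · rw [comm_e cs t hz.mem, h2]
  · exact absurd (by rw [← h1, comm_e cs t hz.mem, h2]) h

theorem exists_prim {x : W → ℂ} (hx : x ∈ Z cs t) (hi : Lm cs t x x = x) (h0 : x ≠ 0) :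
    ∃ y, Prim cs t y ∧ Lm cs t x y = y := by
  classical
  have hex : ∃ n, ∃ y ∈ Z cs t, Lm cs t y y = y ∧ y ≠ 0 ∧ Lm cs t x y = y ∧
      finrank ℂ (LinearMap.range (Lm cs t y)) = n := ⟨_, x, hx, hi, h0, hi, rfl⟩
  obtain ⟨y, hy, hyi, hy0, hxy, hn⟩ := Nat.find_spec hex
  refine ⟨y, ⟨hy, hyi, hy0, ?_⟩, hxy⟩
  have key : ∀ v ∈ Z cs t, st v = v → ∃ a : ℂ, Lm cs t y v = a • y := by
    intro v hv hsv
    have hu : Lm cs t y v ∈ Z cs t := Lm_mem cs t hy hv
    have hsa : SA cs t (Lm cs t (Lm cs t y v)) := by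
      apply sa_of_st
      rw [st_Lm, hsv, st_of_idem cs t hy hyi, comm_e cs t hy]
    by_cases hU : ∃ (μ : ℂ) (a : W → ℂ), μ ≠ 0 ∧ a ≠ 0 ∧ Lm cs t (Lm cs t y v) a = μ • a
    · obtain ⟨μ, a, hμ, ha, hμa⟩ := hU
      obtain ⟨Q, hQ1, hQ2, hQ3, hQ4⟩ := exists_proj hsa.iSup_eq ⟨a, ha, hμa⟩
      obtain ⟨q, hq, rfl⟩ := exists_Lm cs t (a := Q) (fun i => hQ4 _ (Lm_R cs t _ i)) fun i => hQ4 _ (Lm_L cs t hu i)
      have hqi : Lm cs t q q = q := by
        have := LinearMap.congr_fun hQ1 (e 1)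
        rwa [Module.End.mul_apply, Lm_e_one] at this
      have hq0 : q ≠ 0 := fun h => hQ2 (by rw [h, Lm_zero])
      have h3 : Lm cs t y (Lm cs t v q) = μ • q := by
        have := LinearMap.congr_fun hQ3 (e 1)
        rwa [Module.End.mul_apply, LinearMap.smul_apply, Lm_e_one, mul_apply'] at this
      have hyq : Lm cs t y q = q := by
        have h4 := congrArg (Lm cs t y) h3
        rw [← mul_apply', hyi, h3, map_smul] at h4
        exact (smul_right_injective _ hμ h4).symm
      have hle : LinearMap.range (Lm cs t q) ≤ LinearMap.range (Lm cs t y) := by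
        rintro _ ⟨b, rfl⟩
        exact ⟨Lm cs t q b, by rw [← mul_apply', hyq]⟩
      have hmin := Nat.find_min' hex ⟨q, hq, hqi, hq0, by rw [← hyq, ← mul_apply', hxy], rfl⟩
      rw [← hn] at hmin
      have heq := Submodule.eq_of_le_of_finrank_le hle hmin
      have h5 : y ∈ LinearMap.range (Lm cs t q) := by
        rw [heq]
        exact ⟨y, hyi⟩
      obtain ⟨b, hb⟩ := h5
      have h6 : Lm cs t q y = y := by rw [← hb, ← mul_apply', hqi]
      have h7 : q = y := by rw [← hyq, comm_e cs t hy, h6]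
      rw [h7, ← comm_e cs t hy v, ← mul_apply', hyi] at h3
      exact ⟨μ, h3⟩
    · refine ⟨0, ?_⟩
      have h1 : Lm cs t (Lm cs t y v) = 0 := by
        refine ext_eigen hsa.iSup_eq fun μ a ha => ?_
        by_cases h2 : μ = 0
        · rw [ha, h2, zero_smul, LinearMap.zero_apply]
        by_cases h3 : a = 0
        · rw [h3, map_zero, map_zero]
        exact absurd ⟨μ, a, h2, h3, ha⟩ hU
      rw [zero_smul, ← Lm_e_one cs t (Lm cs t y v), h1, LinearMap.zero_apply]
  intro v hv
  obtain ⟨a, ha⟩ := key (v + st v) (Submodule.add_mem _ hv (st_mem cs t hv)) (by rw [st_add, st_st, add_comm])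
  obtain ⟨b, hb⟩ := key (Complex.I • (v - st v)) (Submodule.smul_mem _ _ (Submodule.sub_mem _ hv (st_mem cs t hv)))
    (by rw [st_smul, st_sub, st_st, Complex.conj_I, neg_smul, ← smul_neg, neg_sub])
  refine ⟨(a - Complex.I * b) / 2, ?_⟩
  have h1 : v = (1 / 2 : ℂ) • ((v + st v) - Complex.I • (Complex.I • (v - st v))) := by
    rw [smul_smul, Complex.I_mul_I]
    funext w
    simp only [Pi.smul_apply, Pi.sub_apply, Pi.add_apply, smul_eq_mul]
    ring
  rw [h1, map_smul, map_sub, map_smul, ha, hb, smul_smul, ← sub_smul, smul_smul]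
  congr 1
  ring

variable (cs t)

/-- the type of the primitive central idempotents -/
abbrev PS : Type _ := {z : W → ℂ // Prim cs t z}

theorem li_PS : LinearIndependent ℂ (fun z : PS cs t => z.1) := by
  rw [linearIndependent_iff']
  intro s g h z hz
  have h1 := congrArg (Lm cs t z.1) h
  rw [map_sum, map_zero, Finset.sum_eq_single z, map_smul, z.2.idem] at h1
  · exact (smul_eq_zero.1 h1).resolve_right z.2.ne
  · intro y _ hy
    rw [map_smul, z.2.orth y.2 fun e => hy (Subtype.ext e.symm), smul_zero]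
  · intro h2
    exact absurd hz h2

theorem finite_PS : Finite (PS cs t) := (li_PS cs t).finite

theorem e_one_mem : (e 1 : W → ℂ) ∈ Z cs t :=
  mem_Z_of_comm cs t fun i => by rw [Lm_one, one_mul, mul_one]

theorem Lm_sum_PS [Fintype (PS cs t)] (z : PS cs t) : Lm cs t z.1 (∑ y : PS cs t, y.1) = z.1 := by
  rw [map_sum, Finset.sum_eq_single z, z.2.idem]
  · intro y _ hy
    exact z.2.orth y.2 fun e => hy (Subtype.ext e.symm)
  · intro h
    exact absurd (Finset.mem_univ _) h

theorem sum_PS [Fintype (PS cs t)] : ∑ y : PS cs t, y.1 = e 1 := by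
  by_contra hne
  have hS : (∑ y : PS cs t, y.1) ∈ Z cs t := Submodule.sum_mem _ fun y _ => y.2.mem
  have hSS : Lm cs t (∑ y : PS cs t, y.1) (∑ y : PS cs t, y.1) = ∑ y : PS cs t, y.1 := by
    conv_lhs => rw [Lm_sum, LinearMap.sum_apply]
    exact Finset.sum_congr rfl fun z _ => Lm_sum_PS cs t z
  obtain ⟨y, hy, h⟩ := exists_prim (x := e 1 - ∑ y : PS cs t, y.1) (Submodule.sub_mem _ (e_one_mem cs t) hS)
    (by rw [Lm_sub', Lm_one', map_sub, Lm_e_one, hSS, sub_self, sub_zero]) (sub_ne_zero.2 (Ne.symm hne))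
  rw [Lm_sub', Lm_one', comm_e cs t hS, Lm_sum_PS cs t ⟨y, hy⟩, sub_self] at h
  exact hy.ne h.symm

theorem card_PS [Finite I] : Nat.card (PS cs t) = Nat.card (ConjClasses W) := by
  have := finite_PS cs t
  let _ : Fintype (PS cs t) := Fintype.ofFinite _
  rw [← finrank_Z cs t, Nat.card_eq_fintype_card, ← finrank_span_eq_card (li_PS cs t)]
  suffices h : Submodule.span ℂ (Set.range fun z : PS cs t => z.1) = Z cs t by rw [h]
  apply le_antisymm
  · rw [Submodule.span_le]
    rintro _ ⟨z, rfl⟩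
    exact z.2.mem
  · intro v hv
    rw [← Lm_one' cs t v, ← sum_PS cs t, Lm_sum, LinearMap.sum_apply]
    refine Submodule.sum_mem _ fun z _ => ?_
    obtain ⟨a, ha⟩ := z.2.prim v hv
    rw [ha]
    exact Submodule.smul_mem _ _ (Submodule.subset_span ⟨z, rfl⟩)

/-- the bound for the coefficients of a central idempotent -/
theorem bound_of_idem {z : W → ℂ} (hz : z ∈ Z cs t) (hi : Lm cs t z z = z) (w : W) :
    t.f w * Complex.normSq (z w) ≤ 1 := by
  have h1 := ip_Lm cs t z (e 1) z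
  rw [Lm_e_one, st_of_idem cs t hz hi, hi, ip_self, ← ip_conj, H116.HeckeU.ip_e, t.f_one, Complex.ofReal_one,
    one_mul] at h1
  have h2 : ∀ x, t.f x * Complex.normSq (z x) ≤ nm cs t z := fun x =>
    Finset.single_le_sum (f := fun x => t.f x * Complex.normSq (z x))
      (fun y _ => mul_nonneg (t.f_pos _).le (Complex.normSq_nonneg _)) (Finset.mem_univ x)
  have h3 := h2 1
  rw [t.f_one, one_mul, ← Complex.normSq_conj, ← h1, Complex.normSq_ofReal] at h3
  have h4 := nm_nonneg cs t z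
  have h5 : nm cs t z ≤ 1 := by nlinarith only [h3]
  exact (h2 w).trans h5

/-- the trace of `x ↦ u v x` -/
noncomputable def N (u v : W → ℂ) : ℂ := LinearMap.trace ℂ (W → ℂ) (Lm cs t u * Lm cs t v)

theorem trace_pi (a : Module.End ℂ (W → ℂ)) : LinearMap.trace ℂ (W → ℂ) a = ∑ w, a (e w) w := by
  rw [LinearMap.trace_eq_matrix_trace ℂ (Pi.basisFun ℂ W), Matrix.trace]
  refine Finset.sum_congr rfl fun w _ => ?_
  rw [Matrix.diag_apply, LinearMap.toMatrix_apply, Pi.basisFun_apply, Pi.basisFun_repr]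
  rfl

theorem N_eq (u v : W → ℂ) : N cs t u v = ∑ w, Lm cs t u (Lm cs t v (e w)) w := trace_pi _

theorem N_eq_rank {z y : W → ℂ} (hz : z ∈ Z cs t) (hi : Lm cs t z z = z) (hy : Lm cs t y y = y) :
    N cs t z y = (finrank ℂ (LinearMap.range (Lm cs t z * Lm cs t y)) : ℂ) := by
  apply trace_idem
  rw [mul_assoc, ← mul_assoc (Lm cs t y), ← Lm_comm cs t hz, mul_assoc, ← Lm_Lm, hy, ← mul_assoc, ← Lm_Lm, hi]

theorem N_ne_zero {z : W → ℂ} (hz : z ∈ Z cs t) (hi : Lm cs t z z = z) (h0 : z ≠ 0) : N cs t z z ≠ 0 := by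
  rw [N_eq_rank cs t hz hi hi, ← Lm_Lm, hi, Nat.cast_ne_zero]
  intro h
  rw [Submodule.finrank_eq_zero, LinearMap.range_eq_bot] at h
  apply h0
  rw [← Lm_e_one cs t z, h, LinearMap.zero_apply]

end Cfsg.Agent.ODD.Hk
end

-- part: ODD/Hk/Def
section
/-!
# Tits' deformation theorem with full branching (helper2)

`Dict cs t` : bijections of the primitive central idempotents of `H` and of all `H_J` with the irreducible characters of
`W` and of the `W_J`, compatible with degrees and with restriction; `dict : Dict cs t`.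
-/

set_option autoImplicit false
set_option linter.unusedSectionVars false

namespace Cfsg.Agent.ODD.Hk

open CoxeterSystem Cfsg.Agent.Tits.Exchange Cfsg.Agent.Tits.Core Module Cfsg.Agent.H157.HK Filter Topology
  Cfsg.Agent.Characters.Core
open scoped ComplexConjugate

variable {I W : Type*} {M : CoxeterMatrix I} [Group W] (cs : CoxeterSystem M W) [Fintype W] [DecidableEq W]
  [Finite I]

/-! ### Limits -/

section Lim

variable (τ : Wt cs)

theorem tendsto_Lm {s₀ : ℝ} {l : Filter ℝ} (hl : l ≤ 𝓝 s₀) {x y : ℝ → W → ℂ} {x₀ y₀ : W → ℂ}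
    (hx : Tendsto x l (𝓝 x₀)) (hy : Tendsto y l (𝓝 y₀)) :
    Tendsto (fun s => Lm cs (τ.smul s) (x s) (y s)) l (𝓝 (Lm cs (τ.smul s₀) x₀ y₀)) := by
  have h0 : ∀ (t : Wt cs) (a b : W → ℂ), Lm cs t a b = ∑ w, a w • LL cs t (wd cs w) b := fun t a b => by
    unfold Lm
    rw [LinearMap.sum_apply]
    rfl
  simp only [h0]
  refine tendsto_finsetSum _ fun w _ => Tendsto.smul (tendsto_pi_nhds.1 hx w) ?_
  have h1 : Tendsto (fun s => (s, y s)) l (𝓝 (s₀, y₀)) := (tendsto_id'.2 hl).prodMk_nhds hy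
  exact Tendsto.comp (g := fun p : ℝ × (W → ℂ) => LL cs (τ.smul p.1) (wd cs w) p.2) (f := fun s => (s, y s))
    ((continuous_LL cs τ (wd cs w)).tendsto (s₀, y₀)) h1

theorem tendsto_N {s₀ : ℝ} {l : Filter ℝ} (hl : l ≤ 𝓝 s₀) {x y : ℝ → W → ℂ} {x₀ y₀ : W → ℂ}
    (hx : Tendsto x l (𝓝 x₀)) (hy : Tendsto y l (𝓝 y₀)) :
    Tendsto (fun s => N cs (τ.smul s) (x s) (y s)) l (𝓝 (N cs (τ.smul s₀) x₀ y₀)) := by
  simp only [N_eq]
  exact tendsto_finsetSum _ fun w _ =>
    tendsto_pi_nhds.1 (tendsto_Lm cs τ hl hx (tendsto_Lm cs τ hl hy tendsto_const_nhds)) w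

theorem eventually_eq_of_nat {l : Filter ℝ} {f : ℝ → ℂ} {c : ℂ} (h : Tendsto f l (𝓝 c)) (hf : ∀ s, ∃ n : ℕ, f s = n)
    (hc : ∃ n : ℕ, c = n) : ∀ᶠ s in l, f s = c := by
  filter_upwards [Metric.tendsto_nhds.1 h 1 one_pos] with s hs
  obtain ⟨n, hn⟩ := hf s
  obtain ⟨m, hm⟩ := hc
  rw [hn, hm, Complex.dist_eq] at hs
  rw [hn, hm]
  have h1 : ((n : ℂ) - m) = (((n : ℤ) - m : ℤ) : ℂ) := by push_cast; rfl
  rw [h1, Complex.norm_intCast, ← Int.cast_abs, ← Int.cast_one, Int.cast_lt, Int.abs_lt_one_iff] at hs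
  have h2 : n = m := by omega
  rw [h2]

theorem exists_lim {s₀ : ℝ} (𝒰 : Ultrafilter ℝ) (hl : (𝒰 : Filter ℝ) ≤ 𝓝 s₀) {x : ℝ → W → ℂ}
    (hx : ∀ s w, (τ.smul s).f w * Complex.normSq (x s w) ≤ 1) : ∃ x₀, Tendsto x 𝒰 (𝓝 x₀) := by
  have h : ∀ w, ∃ c, Tendsto (fun s => x s w) 𝒰 (𝓝 c) := by
    intro w
    have h1 : Tendsto (fun s => (τ.smul s).f w) (𝓝 s₀) (𝓝 ((τ.smul s₀).f w)) := by
      have := Complex.continuous_re.comp (continuous_f cs τ w)
      exact this.tendsto s₀
    have h0 := (τ.smul s₀).f_pos w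
    have h2 : ∀ᶠ s in (𝒰 : Filter ℝ), (τ.smul s₀).f w / 2 < (τ.smul s).f w :=
      hl (h1.eventually (lt_mem_nhds (by linarith)))
    have h3 : ∀ᶠ s in (𝒰 : Filter ℝ), x s w ∈ Metric.closedBall (0 : ℂ) (1 + 2 / (τ.smul s₀).f w) := by
      filter_upwards [h2] with s hs
      rw [mem_closedBall_zero_iff]
      have h4 := hx s w
      rw [Complex.normSq_eq_norm_sq] at h4
      have h5 : ‖x s w‖ ^ 2 ≤ 2 / (τ.smul s₀).f w := by
        rw [le_div_iff₀ h0]
        nlinarith [sq_nonneg ‖x s w‖]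
      linarith only [h5, sq_nonneg (‖x s w‖ - 1), _root_.sq_nonneg (‖x s w‖ - 1 : ℝ), _root_.sq_nonneg (‖x s w‖ : ℝ)]
    obtain ⟨c, -, hc⟩ := (isCompact_closedBall (0 : ℂ) (1 + 2 / (τ.smul s₀).f w)).ultrafilter_le_nhds
      (𝒰.map fun s => x s w) (by rw [Ultrafilter.coe_map, le_principal_iff, mem_map]; exact h3)
    exact ⟨c, hc⟩
  choose c hc using h
  exact ⟨c, tendsto_pi_nhds.2 hc⟩

theorem exists_bij {s₀ : ℝ} (𝒰 : Ultrafilter ℝ) (hl : (𝒰 : Filter ℝ) ≤ 𝓝 s₀) :
    ∃ b : ∀ s, PS cs (τ.smul s₀) ≃ PS cs (τ.smul s), ∀ z, Tendsto (fun s => (b s z).1) 𝒰 (𝓝 z.1) := by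
  have hfin := fun s => finite_PS cs (τ.smul s)
  have E : ∀ s, ConjClasses W ≃ PS cs (τ.smul s) := fun s => (Finite.card_eq.1 (card_PS cs (τ.smul s)).symm).some
  have hex : ∀ i, ∃ x₀, Tendsto (fun s => (E s i).1) 𝒰 (𝓝 x₀) := fun i =>
    exists_lim cs τ 𝒰 hl fun s w => bound_of_idem cs _ (E s i).2.mem (E s i).2.idem w
  choose z hz using hex
  have hmem : ∀ i, z i ∈ Z cs (τ.smul s₀) := by
    intro i
    rw [mem_Z]
    intro j
    have h0 : Tendsto (fun s => (s, (E s i).1)) 𝒰 (𝓝 (s₀, z i)) := (tendsto_id'.2 hl).prodMk_nhds (hz i)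
    have h1 : Tendsto (fun s => L cs (τ.smul s) j (E s i).1) 𝒰 (𝓝 (L cs (τ.smul s₀) j (z i))) :=
      Tendsto.comp (g := fun p : ℝ × (W → ℂ) => L cs (τ.smul p.1) j p.2) (f := fun s => (s, (E s i).1))
        ((continuous_L cs τ j).tendsto (s₀, z i)) h0
    have h2 : Tendsto (fun s => R cs (τ.smul s) j (E s i).1) 𝒰 (𝓝 (R cs (τ.smul s₀) j (z i))) :=
      Tendsto.comp (g := fun p : ℝ × (W → ℂ) => R cs (τ.smul p.1) j p.2) (f := fun s => (s, (E s i).1))
        ((continuous_R cs τ j).tendsto (s₀, z i)) h0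
    refine tendsto_nhds_unique h1 (h2.congr fun s => ?_)
    exact ((mem_Z cs).1 (E s i).2.mem j).symm
  have hidem : ∀ i, Lm cs (τ.smul s₀) (z i) (z i) = z i := fun i =>
    tendsto_nhds_unique (tendsto_Lm cs τ hl (hz i) (hz i)) ((hz i).congr fun s => (E s i).2.idem.symm)
  have horth : ∀ i j, i ≠ j → Lm cs (τ.smul s₀) (z i) (z j) = 0 := fun i j hij =>
    tendsto_nhds_unique (tendsto_Lm cs τ hl (hz i) (hz j)) (tendsto_const_nhds.congr fun s =>
      ((E s i).2.orth (E s j).2 fun h => hij ((E s).injective (Subtype.ext h))).symm)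
  have hne : ∀ i, z i ≠ 0 := by
    intro i h
    have h1 := eventually_eq_of_nat (tendsto_N cs τ hl (hz i) (hz i))
      (fun s => ⟨_, N_eq_rank cs _ (E s i).2.mem (E s i).2.idem (E s i).2.idem⟩)
      ⟨_, N_eq_rank cs _ (hmem i) (hidem i) (hidem i)⟩
    obtain ⟨s, hs⟩ := h1.exists
    apply N_ne_zero cs _ (E s i).2.mem (E s i).2.idem (E s i).2.ne
    rw [hs, h]
    unfold N
    rw [Lm_zero, zero_mul, map_zero]
  have hsys : Sys cs (τ.smul s₀) z := ⟨hmem, hidem, horth, hne, (finrank_Z cs _).symm⟩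
  let F : ConjClasses W → PS cs (τ.smul s₀) := fun i =>
    ⟨z i, hmem i, hidem i, hne i, fun v hv => hsys.apply_mem hv i⟩
  have hF : Function.Injective F := by
    intro i j h
    by_contra hij
    have h1 : z i = z j := congrArg Subtype.val h
    have h2 := horth i j hij
    rw [← h1, hidem] at h2
    exact hne i h2
  have hB : Function.Bijective F := hF.bijective_of_nat_card_le (card_PS cs _).le
  refine ⟨fun s => (Equiv.ofBijective F hB).symm.trans (E s), fun y => ?_⟩
  obtain ⟨i, rfl⟩ := hB.2 y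
  have h1 : (Equiv.ofBijective F hB).symm (F i) = i := (Equiv.ofBijective F hB).symm_apply_apply i
  simp only [Equiv.trans_apply, h1]
  exact hz i

end Lim

/-! ### The parabolic subalgebras -/

section Emb

variable (t : Wt cs) (J : Set I)

/-- the restriction of a weight -/
def tJ : Wt (csJ cs J) where
  m := fun w => t.m w
  one := t.one
  mul := fun i w h => by
    rw [csJ_length, csJ_length, Subgroup.coe_mul, csJ_simple] at h
    rw [Subgroup.coe_mul, csJ_simple]
    exact t.mul i w h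

theorem tJ_p (j : J) : (tJ cs t J).p j = t.p j := by
  unfold Wt.p
  show Real.exp (t.m _) = _
  rw [csJ_simple]

theorem L_ext (j : J) (y : WJ cs J → ℂ) :
    L cs t j (extendByZero (WJ cs J) y) = extendByZero (WJ cs J) (L (csJ cs J) (tJ cs t J) j y) := by
  funext x
  rw [H157.HK.L_apply]
  by_cases hx : x ∈ WJ cs J
  · have h1 : cs.simple j * x ∈ WJ cs J := mul_mem (simple_mem_WJ cs j.2) hx
    have h2 : (⟨cs.simple j * x, h1⟩ : WJ cs J) = (csJ cs J).simple j * ⟨x, hx⟩ :=
      Subtype.ext (by rw [Subgroup.coe_mul, csJ_simple])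
    rw [extendByZero_of_mem _ _ hx, extendByZero_of_mem _ _ hx, extendByZero_of_mem _ _ h1, H157.HK.L_apply, h2, csJ_length,
      csJ_length, Subgroup.coe_mul, csJ_simple, tJ_p]
  · have h1 : cs.simple j * x ∉ WJ cs J := fun h => hx (by
      simpa using mul_mem (simple_mem_WJ cs j.2) h)
    rw [extendByZero_of_notMem _ _ hx, extendByZero_of_notMem _ _ hx, extendByZero_of_notMem _ _ h1]
    simp

theorem LL_ext (ω : List J) (y : WJ cs J → ℂ) : LL cs t (ω.map Subtype.val) (extendByZero (WJ cs J) y) =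
    extendByZero (WJ cs J) (LL (csJ cs J) (tJ cs t J) ω y) := by
  induction ω with
  | nil => rfl
  | cons j ω ih => rw [List.map_cons, LL_cons, LL_cons, Module.End.mul_apply, Module.End.mul_apply, ih, L_ext]

theorem sum_ext {G : Type*} [Group G] [Fintype G] (H : Subgroup G) [Fintype H] {V : Type*} [AddCommMonoid V]
    [Module ℂ V] (u : H → ℂ) (F : G → V) : ∑ w, extendByZero H u w • F w = ∑ w : H, u w • F w := by
  classical
  rw [← Finset.sum_subset (Finset.subset_univ (Finset.univ.filter fun w => w ∈ H))]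
  · rw [Finset.sum_subtype (Finset.univ.filter fun w => w ∈ H) (p := fun w => w ∈ H) (by simp)]
    exact Finset.sum_congr rfl fun w _ => by rw [extendByZero_of_mem _ _ w.2]
  · intro w _ hw
    rw [extendByZero_of_notMem _ _ (by simpa using hw), zero_smul]

theorem Lm_ext [Fintype (WJ cs J)] [DecidableEq (WJ cs J)] (u y : WJ cs J → ℂ) :
    Lm cs t (extendByZero (WJ cs J) u) (extendByZero (WJ cs J) y) =
      extendByZero (WJ cs J) (Lm (csJ cs J) (tJ cs t J) u y) := by
  have h1 : ∀ w : WJ cs J, LL cs t (wd cs (w : W)) = LL cs t ((wd (csJ cs J) w).map Subtype.val) := by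
    intro w
    have h2 : cs.wordProd ((wd (csJ cs J) w).map Subtype.val) = w := by rw [← csJ_wordProd, wd_prod]
    have h3 : cs.IsReduced ((wd (csJ cs J) w).map Subtype.val) := by
      show cs.length _ = _
      rw [h2, List.length_map, ← csJ_length, ← (wd_reduced (csJ cs J) w).eq, wd_prod]
    rw [LL_eq cs t h3, h2, LL_wd]
  unfold Lm
  rw [sum_ext, LinearMap.sum_apply, LinearMap.sum_apply]
  funext x
  simp only [h1, LinearMap.smul_apply, LL_ext, Finset.sum_apply, Pi.smul_apply]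
  by_cases hx : x ∈ WJ cs J
  · simp only [extendByZero_of_mem _ _ hx, Finset.sum_apply, Pi.smul_apply]
  · simp only [extendByZero_of_notMem _ _ hx, smul_zero, Finset.sum_const_zero]

theorem tendsto_ext {G : Type*} [Group G] (H : Subgroup G) {l : Filter ℝ} {y : ℝ → H → ℂ} {y₀ : H → ℂ}
    (hy : Tendsto y l (𝓝 y₀)) : Tendsto (fun s => extendByZero H (y s)) l (𝓝 (extendByZero H y₀)) := by
  rw [tendsto_pi_nhds]
  intro x
  by_cases hx : x ∈ H
  · simp only [extendByZero_of_mem _ _ hx]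
    exact tendsto_pi_nhds.1 hy _
  · simp only [extendByZero_of_notMem _ _ hx]
    exact tendsto_const_nhds

end Emb

/-! ### The group algebra -/

section Zero

variable {cs} {t : Wt cs} (ht : ∀ w, t.m w = 0)

include ht

theorem LL_zero (ω : List I) (v : W → ℂ) (x : W) : LL cs t ω v x = v ((cs.wordProd ω)⁻¹ * x) := by
  induction ω generalizing x with
  | nil => simp [LL_nil]
  | cons i ω ih =>
    rw [LL_cons, Module.End.mul_apply, H157.HK.L_apply, p_zero cs ht, ih, cs.wordProd_cons, mul_inv_rev, cs.inv_simple,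
      mul_assoc]
    simp

theorem Lm_zero_apply (u v : W → ℂ) (x : W) : Lm cs t u v x = ∑ w, u w * v (w⁻¹ * x) := by
  unfold Lm
  rw [LinearMap.sum_apply, Finset.sum_apply]
  exact Finset.sum_congr rfl fun w _ => by rw [LinearMap.smul_apply, Pi.smul_apply, LL_zero ht, wd_prod, smul_eq_mul]

theorem N_zero (u v : W → ℂ) : N cs t u v = Nat.card W * ∑ w, u w * v w⁻¹ := by
  unfold N
  rw [← Lm_Lm, trace_pi]
  have h1 : ∀ w, Lm cs t (Lm cs t u v) (e w) w = ∑ x, u x * v x⁻¹ := by
    intro w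
    rw [Lm_zero_apply ht, Finset.sum_eq_single 1, Lm_zero_apply ht]
    · simp [e]
    · intro x _ hx
      have : x⁻¹ * w ≠ w := fun h => hx (by simpa using h)
      simp [e, Pi.single_eq_of_ne this]
    · intro h
      exact absurd (Finset.mem_univ _) h
  simp only [h1, Finset.sum_const, Finset.card_univ, nsmul_eq_mul, Nat.card_eq_fintype_card]

omit ht in
/-- the idempotent of a character -/
noncomputable def zc (φ : W → ℂ) : W → ℂ := fun w => φ 1 / Nat.card W * φ w

theorem Lm_zc {φ : W → ℂ} (hφ : IsIrrCharacter W φ) {v : W → ℂ} (hv : v ∈ Z cs t) :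
    Lm cs t (zc φ) v = ((∑ w, v w⁻¹ * φ w) / φ 1) • zc φ := by
  rw [mem_Z_one cs ht] at hv
  obtain ⟨n, ρ, hρ, rfl⟩ := hφ
  have hc : IsClassFunction W fun w => v w⁻¹ := fun g h => by
    show v (h * g * h⁻¹)⁻¹ = v g⁻¹
    rw [← hv h g⁻¹]
    congr 1
    group
  have h1 := Characters.Central.sum_classFun_smul ρ hρ hc
  funext x
  have h2 := congrArg (fun a => LinearMap.trace ℂ _ (a * ρ x)) h1
  simp only [Finset.sum_mul, map_sum, smul_mul_assoc, map_smul, smul_eq_mul, one_mul, ← map_mul] at h2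
  rw [Lm_zero_apply ht, Pi.smul_apply, smul_eq_mul]
  unfold zc
  have h3 : ∑ w, ρ.character 1 / Nat.card W * ρ.character w * v (w⁻¹ * x) =
      ρ.character 1 / Nat.card W * ∑ w, v w⁻¹ * LinearMap.trace ℂ _ (ρ (w * x)) := by
    rw [Finset.mul_sum]
    symm
    refine Fintype.sum_equiv (Equiv.mulRight x) _ _ fun w => ?_
    rw [Equiv.coe_mulRight, mul_assoc (_ / _), mul_comm (v _)]
    congr 2
    rw [← hv x⁻¹]
    congr 1
    group
  rw [h3, h2]
  show _ * (_ * ρ.character x) = _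
  ring

theorem zc_mem {φ : W → ℂ} (hφ : IsIrrCharacter W φ) : zc φ ∈ Z cs t := by
  rw [mem_Z_one cs ht]
  intro g x
  unfold zc
  rw [isIrr_isClassFunction hφ]

omit ht in
theorem sum_zc {φ ψ : W → ℂ} (hψ : IsCharacter W ψ) :
    Nat.card W * ∑ w, zc φ w * zc ψ w⁻¹ = φ 1 * ψ 1 * classInner φ ψ := by
  unfold zc
  rw [classInner_def, Finset.mul_sum, Finset.mul_sum, Finset.mul_sum]
  refine Finset.sum_congr rfl fun w _ => ?_
  rw [isCharacter_apply_inv hψ]
  have := card_ne_zero_complex (G := W)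
  field_simp

theorem prim_zc {φ : W → ℂ} (hφ : IsIrrCharacter W φ) : Prim cs t (zc φ) := by
  have h0 := isIrr_apply_one_ne_zero hφ
  have hW := card_ne_zero_complex (G := W)
  refine ⟨zc_mem ht hφ, ?_, fun h => ?_, fun v hv => ⟨_, Lm_zc ht hφ hv⟩⟩
  · rw [Lm_zc ht hφ (zc_mem ht hφ)]
    have h1 := classInner_irr_self hφ
    rw [classInner_def] at h1
    have h2 : ∑ w, zc φ w⁻¹ * φ w = φ 1 * ((Nat.card W : ℂ)⁻¹ * ∑ g, φ g * conj (φ g)) := by
      rw [Finset.mul_sum, Finset.mul_sum]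
      refine Finset.sum_congr rfl fun w _ => ?_
      unfold zc
      rw [isCharacter_apply_inv (isIrr_isCharacter hφ)]
      field_simp
    rw [h2, h1, mul_one, div_self h0, one_smul]
  · have h1 := congrFun h 1
    unfold zc at h1
    exact mul_ne_zero (div_ne_zero h0 hW) h0 h1

theorem exists_equiv_zero : ∃ β : PS cs t ≃ IrrCharacter W, ∀ z, z.1 = zc (β z : W → ℂ) := by
  have := finite_PS cs t
  have := finite_irr (G := W)
  let F : IrrCharacter W → PS cs t := fun φ => ⟨zc φ.1, prim_zc ht φ.2⟩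
  have hF : Function.Injective F := by
    intro φ ψ h
    have h1 : zc φ.1 = zc ψ.1 := congrArg Subtype.val h
    by_contra hne
    have h2 := sum_zc (φ := φ.1) (isIrr_isCharacter φ.2)
    have h3 := sum_zc (φ := ψ.1) (isIrr_isCharacter φ.2)
    rw [← h1, h2, classInner_irr_self φ.2, classInner_irr_ne ψ.2 φ.2 fun e => hne (Subtype.ext e.symm), mul_zero,
      mul_one] at h3
    exact mul_ne_zero (isIrr_apply_one_ne_zero φ.2) (isIrr_apply_one_ne_zero φ.2) h3
  have hB : Function.Bijective F := hF.bijective_of_nat_card_le (by rw [card_PS, card_irr])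
  refine ⟨(Equiv.ofBijective F hB).symm, fun z => ?_⟩
  obtain ⟨φ, rfl⟩ := hB.2 z
  have h1 : (Equiv.ofBijective F hB).symm (F φ) = φ := (Equiv.ofBijective F hB).symm_apply_apply φ
  rw [h1]

end Zero

/-! ### The dictionary -/

open Classical in
/-- the dictionary -/
def Dict (t : Wt cs) : Prop :=
  ∃ (β : PS cs t ≃ IrrCharacter W) (γ : ∀ J : Set I, PS (csJ cs J) (tJ cs t J) ≃ IrrCharacter (WJ cs J)),
    (∀ z, N cs t z.1 z.1 = (β z).1 1 * (β z).1 1) ∧
    (∀ J y, N (csJ cs J) (tJ cs t J) y.1 y.1 = (γ J y).1 1 * (γ J y).1 1) ∧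
    ∀ J z y, N cs t z.1 (extendByZero (WJ cs J) y.1) =
      (β z).1 1 * (γ J y).1 1 * classInner (fun w : WJ cs J => (β z).1 w) (γ J y).1

theorem dict_zero {t : Wt cs} (ht : ∀ w, t.m w = 0) : Dict cs t := by
  classical
  obtain ⟨β, hβ⟩ := exists_equiv_zero ht
  choose γ hγ using fun J : Set I => exists_equiv_zero (cs := csJ cs J) (t := tJ cs t J) fun w => ht w
  refine ⟨β, γ, fun z => ?_, fun J y => ?_, fun J z y => ?_⟩
  · rw [N_zero ht, hβ z, sum_zc (isIrr_isCharacter (β z).2), classInner_irr_self (β z).2, mul_one]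
  · rw [N_zero (cs := csJ cs J) fun w => ht w, hγ J y, sum_zc (isIrr_isCharacter (γ J y).2),
      classInner_irr_self (γ J y).2, mul_one]
  · rw [N_zero ht, ← Equiv.sum_comp (Equiv.inv W)]
    simp only [Equiv.inv_apply, inv_inv, mul_comm (z.1 _), ← smul_eq_mul (extendByZero _ _ _)]
    rw [sum_ext, ← Equiv.sum_comp (Equiv.inv (WJ cs J)), hβ z, hγ J y, classInner_def, Finset.mul_sum, Finset.mul_sum,
      Finset.mul_sum]
    refine Finset.sum_congr rfl fun w _ => ?_
    unfold zc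
    rw [Equiv.inv_apply, isCharacter_apply_inv (isIrr_isCharacter (γ J y).2), Subgroup.coe_inv, inv_inv, smul_eq_mul]
    have := card_ne_zero_complex (G := W)
    have := card_ne_zero_complex (G := WJ cs J)
    field_simp

theorem dict_eventually (τ : Wt cs) (s₀ : ℝ) : ∀ᶠ s in 𝓝 s₀, (Dict cs (τ.smul s) ↔ Dict cs (τ.smul s₀)) := by
  classical
  by_contra hne
  rw [not_eventually] at hne
  obtain ⟨𝒰, h𝒰⟩ := Filter.exists_ultrafilter_le (h := (frequently_iff_neBot.1 hne))
  have hl : (𝒰 : Filter ℝ) ≤ 𝓝 s₀ := h𝒰.trans inf_le_left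
  have hP : ∀ᶠ s in (𝒰 : Filter ℝ), ¬ (Dict cs (τ.smul s) ↔ Dict cs (τ.smul s₀)) :=
    le_principal_iff.1 (h𝒰.trans inf_le_right)
  obtain ⟨b, hb⟩ := exists_bij cs τ 𝒰 hl
  choose c hc using fun J : Set I => exists_bij (csJ cs J) (tJ cs τ J) 𝒰 hl
  have := finite_PS cs (τ.smul s₀)
  have := fun J : Set I => finite_PS (csJ cs J) ((tJ cs τ J).smul s₀)
  have e1 : ∀ᶠ s in (𝒰 : Filter ℝ), ∀ z, N cs (τ.smul s) (b s z).1 (b s z).1 = N cs (τ.smul s₀) z.1 z.1 :=
    eventually_all.2 fun z => eventually_eq_of_nat (tendsto_N cs τ hl (hb z) (hb z))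
      (fun s => ⟨_, N_eq_rank cs _ (b s z).2.mem (b s z).2.idem (b s z).2.idem⟩)
      ⟨_, N_eq_rank cs _ z.2.mem z.2.idem z.2.idem⟩
  have e2 : ∀ᶠ s in (𝒰 : Filter ℝ), ∀ J y, N (csJ cs J) ((tJ cs τ J).smul s) (c J s y).1 (c J s y).1 =
      N (csJ cs J) ((tJ cs τ J).smul s₀) y.1 y.1 :=
    eventually_all.2 fun J => eventually_all.2 fun y => eventually_eq_of_nat (tendsto_N _ _ hl (hc J y) (hc J y))
      (fun s => ⟨_, N_eq_rank _ _ (c J s y).2.mem (c J s y).2.idem (c J s y).2.idem⟩)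
      ⟨_, N_eq_rank _ _ y.2.mem y.2.idem y.2.idem⟩
  have e3 : ∀ᶠ s in (𝒰 : Filter ℝ), ∀ J z y, N cs (τ.smul s) (b s z).1 (extendByZero (WJ cs J) (c J s y).1) =
      N cs (τ.smul s₀) z.1 (extendByZero (WJ cs J) y.1) :=
    eventually_all.2 fun J => eventually_all.2 fun z => eventually_all.2 fun y =>
      eventually_eq_of_nat (tendsto_N _ _ hl (hb z) (tendsto_ext _ (hc J y)))
      (fun s => ⟨_, N_eq_rank _ _ (b s z).2.mem (b s z).2.idem
        ((Lm_ext cs _ J _ _).trans (congrArg _ (c J s y).2.idem))⟩)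
      ⟨_, N_eq_rank _ _ z.2.mem z.2.idem ((Lm_ext cs _ J _ _).trans (congrArg _ y.2.idem))⟩
  obtain ⟨s, hs, h1, h2, h3⟩ := (hP.and (e1.and (e2.and e3))).exists
  apply hs
  constructor
  · rintro ⟨β, γ, k1, k2, k3⟩
    exact ⟨(b s).trans β, fun J => (c J s).trans (γ J), fun z => (h1 z).symm.trans (k1 _),
      fun J y => (h2 J y).symm.trans (k2 J _), fun J z y => (h3 J z y).symm.trans (k3 J _ _)⟩
  · rintro ⟨β, γ, k1, k2, k3⟩
    refine ⟨(b s).symm.trans β, fun J => (c J s).symm.trans (γ J), fun z => ?_, fun J y => ?_, fun J z y => ?_⟩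
    · obtain ⟨z, rfl⟩ := (b s).surjective z
      rw [Equiv.trans_apply, Equiv.symm_apply_apply]
      exact (h1 z).trans (k1 z)
    · obtain ⟨y, rfl⟩ := (c J s).surjective y
      have h4 : ((c J s).symm.trans (γ J)) (c J s y) = γ J y := congrArg (γ J) ((c J s).symm_apply_apply y)
      refine (h2 J y).trans ((k2 J y).trans ?_)
      rw [← h4]
      rfl
    · obtain ⟨z, rfl⟩ := (b s).surjective z
      obtain ⟨y, rfl⟩ := (c J s).surjective y
      have h4 : ((c J s).symm.trans (γ J)) (c J s y) = γ J y := congrArg (γ J) ((c J s).symm_apply_apply y)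
      rw [Equiv.trans_apply, Equiv.symm_apply_apply]
      refine (h3 J z y).trans ((k3 J z y).trans ?_)
      rw [← h4]
      rfl

/-- **Tits' deformation theorem with full branching.** -/
theorem dict (t : Wt cs) : Dict cs t := by
  classical
  have h := const_of_eventually (f := fun s => if Dict cs (t.smul s) then 1 else 0) (fun s₀ => by
    filter_upwards [dict_eventually cs t s₀] with s hs
    simp only [hs]) 1 0
  rw [if_pos (dict_zero cs fun w => smul_zero_m cs t w), H157.HK.smul_one] at h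
  by_contra hne
  rw [if_neg hne] at h
  exact zero_ne_one h

end Cfsg.Agent.ODD.Hk
end

-- part: ODD/Hk/Rig
section
/-!
# Rigid Coxeter groups (helper2)

`NC cs w` : `w` is conjugate into a proper standard parabolic subgroup. `Rigid cs` : two irreducible characters that agree
on these elements are equal. `rel` : Burnside's relation; `rigid_of` : a criterion; `nc_of_fix` : an element with a
non-zero fixed vector in the root lattice is `NC`.
-/

set_option autoImplicit false
set_option linter.unusedSectionVars false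

namespace Cfsg.Agent.ODD.Hk

open CoxeterSystem Cfsg.Agent.Tits.Exchange Cfsg.Agent.Tits.Core Cfsg.Agent.Characters.Core Cfsg.Agent.ChevalleyStructure.CoxeterGeom
  Cfsg.Agent.Tits.Roots

variable {I W : Type*} {M : CoxeterMatrix I} [Group W] (cs : CoxeterSystem M W)

/-- `w` is conjugate into a proper standard parabolic subgroup -/
def NC (w : W) : Prop := ∃ J : Set I, J ≠ Set.univ ∧ ∃ g : W, g * w * g⁻¹ ∈ WJ cs J

/-- irreducible characters are determined by their values on the proper parabolic subgroups -/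
def Rigid : Prop := ∀ φ φ' : W → ℂ, IsIrrCharacter W φ → IsIrrCharacter W φ' → (∀ w, NC cs w → φ w = φ' w) → φ = φ'

variable {cs}

theorem nc_of_mem {J : Set I} (hJ : J ≠ Set.univ) {w : W} (hw : w ∈ WJ cs J) : NC cs w :=
  ⟨J, hJ, 1, by simpa using hw⟩

theorem NC.conj {w : W} (hw : NC cs w) (g : W) : NC cs (g * w * g⁻¹) := by
  obtain ⟨J, hJ, a, ha⟩ := hw
  refine ⟨J, hJ, a * g⁻¹, ?_⟩
  have : a * g⁻¹ * (g * w * g⁻¹) * (a * g⁻¹)⁻¹ = a * w * a⁻¹ := by group
  rwa [this]

theorem NC.of_conj {w g : W} (hw : NC cs (g * w * g⁻¹)) : NC cs w := by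
  have h := hw.conj g⁻¹
  have : g⁻¹ * (g * w * g⁻¹) * g⁻¹⁻¹ = w := by group
  rwa [this] at h

theorem NC.isConj {v w : W} (hv : NC cs v) (h : IsConj v w) : NC cs w := by
  obtain ⟨g, rfl⟩ := isConj_iff.1 h
  exact hv.conj g

theorem nc_one [Nonempty I] : NC cs 1 :=
  nc_of_mem (J := ∅) (Set.empty_ne_univ) (one_mem _)

theorem nc_simple [Nontrivial I] (i : I) : NC cs (cs.simple i) := by
  refine nc_of_mem (J := {i}) (fun h => ?_) (simple_mem_WJ cs rfl)
  obtain ⟨j, hj⟩ := exists_ne i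
  exact hj (h ▸ Set.mem_univ j : j ∈ ({i} : Set I))

/-- a word that omits a letter -/
theorem nc_wordProd {ω : List I} {k : I} (hk : k ∉ ω) : NC cs (cs.wordProd ω) := by
  refine nc_of_mem (J := {k}ᶜ) (fun h => ?_) ?_
  · exact (h ▸ Set.mem_univ k : k ∈ ({k}ᶜ : Set I)) rfl
  · induction ω with
    | nil => rw [wordProd_nil]; exact one_mem _
    | cons i ω ih =>
      rw [wordProd_cons]
      refine mul_mem (simple_mem_WJ cs fun h => hk ?_) (ih fun h => hk (List.mem_cons_of_mem _ h))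
      rw [show i = k from h]
      exact List.mem_cons_self

/-- to agree on the `NC` elements it suffices to agree on the proper parabolic subgroups -/
theorem eq_on_nc {φ φ' : W → ℂ} (hφ : IsClassFunction W φ) (hφ' : IsClassFunction W φ')
    (h : ∀ J : Set I, J ≠ Set.univ → ∀ w ∈ WJ cs J, φ w = φ' w) (w : W) (hw : NC cs w) : φ w = φ' w := by
  obtain ⟨J, hJ, g, hg⟩ := hw
  rw [← hφ w g, ← hφ' w g]
  exact h J hJ _ hg

/-- **Burnside's relation.** -/
theorem rel {G : Type*} [Group G] [Fintype G] {φ φ' : G → ℂ} (hφ : IsIrrCharacter G φ) (hφ' : IsIrrCharacter G φ')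
    (h1 : φ 1 = φ' 1) {u x : G} (hu : φ u = φ' u) (hx : φ x = φ' x) :
    ∑ g, (φ (g * u * g⁻¹ * x) - φ' (g * u * g⁻¹ * x)) = 0 := by
  rw [Finset.sum_sub_distrib, Characters.Central.sum_char_conj_mul hφ, Characters.Central.sum_char_conj_mul hφ', h1, hu,
    hx, sub_self]

/-- **A criterion for rigidity.** -/
theorem rigid_of [Finite W] [Nonempty I] (h : ∀ w, ¬ NC cs w → ∃ u x, NC cs u ∧ NC cs x ∧ IsConj (u * x) w ∧
    ∀ g, NC cs (g * u * g⁻¹ * x) ∨ IsConj (g * u * g⁻¹ * x) w) : Rigid cs := by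
  classical
  have := Fintype.ofFinite W
  intro φ φ' hφ hφ' hf
  funext w
  by_cases hw : NC cs w
  · exact hf w hw
  obtain ⟨u, x, hu, hx, h1, h2⟩ := h w hw
  have h3 := rel hφ hφ' (hf 1 nc_one) (hf u hu) (hf x hx)
  have h4 : ∀ g, φ (g * u * g⁻¹ * x) - φ' (g * u * g⁻¹ * x) =
      if IsConj (g * u * g⁻¹ * x) w then φ w - φ' w else 0 := by
    intro g
    split_ifs with h5
    · rw [classFunction_apply_eq (isIrr_isClassFunction hφ) h5, classFunction_apply_eq (isIrr_isClassFunction hφ') h5]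
    · rw [hf _ ((h2 g).resolve_right h5), sub_self]
  simp only [h4] at h3
  rw [← Finset.sum_filter, Finset.sum_const, nsmul_eq_mul, mul_eq_zero, Nat.cast_eq_zero, Finset.card_eq_zero] at h3
  refine sub_eq_zero.1 (h3.resolve_left fun h5 => ?_)
  have h6 : (1 : W) ∈ Finset.univ.filter fun g => IsConj (g * u * g⁻¹ * x) w := by simpa only [_root_.isConj_iff, _root_.Finset.mem_filter, _root_.Finset.mem_univ, _root_.one_mul, _root_.inv_one, _root_.mul_one, _root_.true_and] using h1
  rw [h5] at h6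
  exact absurd h6 (Finset.notMem_empty _)

section Geom

variable [Fintype I] [DecidableEq I] [Finite W] {A : I → I → ℤ} (h : IsCartan M A)

theorem eq_zero_of_pairing {x : I → ℤ} (cs : CoxeterSystem M W) (h : IsCartan M A) (hx : ∀ i, pairing A i x = 0) :
    x = 0 := by
  have := Fintype.ofFinite W
  by_contra h0
  have h1 := form_pos cs h h0
  rw [form_eq_sum, Finset.sum_eq_zero] at h1
  · exact lt_irrefl _ h1
  · intro k _
    have h2 := (form_sr_nonneg_iff cs h k x).2 (hx k).ge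
    have h3 : ¬ 0 < form cs h x (sr k) := fun h3 => (hx k).not_gt ((form_sr_pos_iff cs h k x).1 h3)
    rw [show form cs h x (sr k) = 0 by omega, mul_zero]

/-- **An element with a non-zero fixed vector is conjugate into a proper parabolic subgroup.** -/
theorem nc_of_fix {w : W} {x : I → ℤ} (h0 : x ≠ 0) (hx : rep cs h w x = x) : NC cs w := by
  obtain ⟨g, hg⟩ := Nodes.Comb.exists_dom_rep cs h x
  refine ⟨Nodes.StabComb.orth cs h (rep cs h g x), fun hJ => h0 ?_, g, Nodes.StabComb.mem_WJ_of_rep hg ?_⟩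
  · have h1 : rep cs h g x = 0 := eq_zero_of_pairing cs h fun i =>
      Nodes.StabComb.mem_orth.1 (hJ ▸ Set.mem_univ i : i ∈ Nodes.StabComb.orth cs h (rep cs h g x))
    rw [← rep_inv_apply cs h g x, h1, map_zero]
  · rw [rep_mul_apply, rep_mul_apply, rep_inv_apply, hx]

end Geom

end Cfsg.Agent.ODD.Hk
end

-- part: ODD/Hk/Gal
section
/-!
# The Galois action on the primitive central idempotents of the Hecke algebra (helper2)

`FixAll`, `FixOdd`; `step` : the pair of characters of `W` attached to `z` and `σ z`; `fixAll_rank_le_one`.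
-/

set_option autoImplicit false
set_option linter.unusedSectionVars false

namespace Cfsg.Agent.ODD.Hk

open CoxeterSystem Cfsg.Agent.Tits.Exchange Cfsg.Agent.Tits.Core Module Cfsg.Agent.H157.HK Cfsg.Agent.Characters.Core

variable {I W : Type*} {M : CoxeterMatrix I} [Group W] (cs : CoxeterSystem M W) [Fintype W] [DecidableEq W]
  (t : Wt cs) (σ : ℂ ≃+* ℂ)

/-- `σ` fixes the parameters -/
def Sg : Prop := ∀ i, σ (t.p i : ℂ) = t.p i

/-- the action on the coefficients -/
def act {X : Type*} (σ : ℂ ≃+* ℂ) (v : X → ℂ) : X → ℂ := fun w => σ (v w)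

/-- all primitive central idempotents are fixed -/
def FixAll : Prop := ∀ z, Prim cs t z → act σ z = z

/-- the primitive central idempotents of odd degree are fixed -/
def FixOdd : Prop := ∀ z, Prim cs t z → ∀ d : ℕ, Odd d → N cs t z z = d * d → act σ z = z

open Classical in
/-- the restrictions to `W_J` have the same constituents of odd degree -/
def OddAg (J : Set I) (φ φ' : W → ℂ) : Prop := ∀ ψ : WJ cs J → ℂ, IsIrrCharacter (WJ cs J) ψ → ∀ d : ℕ, Odd d →
  ψ 1 = d → classInner (fun w : WJ cs J => φ w) ψ = classInner (fun w : WJ cs J => φ' w) ψ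

variable {cs t σ}

theorem FixAll.odd (h : FixAll cs t σ) : FixOdd cs t σ := fun z hz _ _ _ => h z hz

theorem Sg.symm (h : Sg cs t σ) : Sg cs t σ.symm := fun i => by
  rw [RingEquiv.symm_apply_eq, h i]

theorem act_symm {X : Type*} (v : X → ℂ) : act σ (act σ.symm v) = v := by
  funext w
  simp [act]

theorem act_smul {X : Type*} (c : ℂ) (v : X → ℂ) : act σ (c • v) = σ c • act σ v := by
  funext w
  simp [act]

theorem act_sum {X ι : Type*} (s : Finset ι) (f : ι → X → ℂ) : act σ (∑ a ∈ s, f a) = ∑ a ∈ s, act σ (f a) := by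
  funext w
  simp [act]

theorem act_e (w : W) : act σ (e w : W → ℂ) = e w := by
  funext x
  simp [act, e, Pi.single_apply, apply_ite σ]

theorem act_ext {G : Type*} [Group G] (H : Subgroup G) (y : H → ℂ) :
    act σ (extendByZero H y) = extendByZero H (act σ y) := by
  funext x
  unfold act
  by_cases hx : x ∈ H
  · rw [extendByZero_of_mem _ _ hx, extendByZero_of_mem _ _ hx]
  · rw [extendByZero_of_notMem _ _ hx, extendByZero_of_notMem _ _ hx, map_zero]

theorem act_L (h : Sg cs t σ) (i : I) (v : W → ℂ) : act σ (L cs t i v) = L cs t i (act σ v) := by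
  funext x
  unfold act
  rw [H157.HK.L_apply, H157.HK.L_apply]
  split_ifs <;> simp [h i]

theorem act_R (h : Sg cs t σ) (i : I) (v : W → ℂ) : act σ (R cs t i v) = R cs t i (act σ v) := by
  funext x
  unfold act
  rw [H157.HK.R_apply, H157.HK.R_apply]
  split_ifs <;> simp [h i]

theorem act_LL (h : Sg cs t σ) (ω : List I) (v : W → ℂ) : act σ (LL cs t ω v) = LL cs t ω (act σ v) := by
  induction ω with
  | nil => rfl
  | cons i ω ih => rw [LL_cons, Module.End.mul_apply, Module.End.mul_apply, act_L h, ih]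

theorem act_Lm (h : Sg cs t σ) (u v : W → ℂ) : act σ (Lm cs t u v) = Lm cs t (act σ u) (act σ v) := by
  unfold Lm
  rw [LinearMap.sum_apply, LinearMap.sum_apply, act_sum]
  refine Finset.sum_congr rfl fun w _ => ?_
  rw [LinearMap.smul_apply, LinearMap.smul_apply, act_smul, act_LL h]
  rfl

theorem act_mem (h : Sg cs t σ) {z : W → ℂ} (hz : z ∈ Z cs t) : act σ z ∈ Z cs t := by
  rw [mem_Z] at hz ⊢
  intro i
  rw [← act_L h, ← act_R h, hz]

theorem Prim.act (h : Sg cs t σ) {z : W → ℂ} (hz : Prim cs t z) : Prim cs t (act σ z) := by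
  refine ⟨act_mem h hz.mem, by rw [← act_Lm h, hz.idem], fun h0 => hz.ne ?_, fun v hv => ?_⟩
  · funext w
    exact σ.injective ((congrFun h0 w).trans (map_zero σ).symm)
  · obtain ⟨a, ha⟩ := hz.prim _ (act_mem h.symm hv)
    exact ⟨σ a, by rw [← act_smul, ← ha, act_Lm h, act_symm]⟩

theorem N_act (h : Sg cs t σ) (u v : W → ℂ) : N cs t (act σ u) (act σ v) = σ (N cs t u v) := by
  rw [N_eq, N_eq, map_sum]
  refine Finset.sum_congr rfl fun w _ => ?_
  conv_lhs => rw [← act_e (σ := σ) w, ← act_Lm h, ← act_Lm h]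
  rfl

theorem Sg.tJ [Finite I] (h : Sg cs t σ) (J : Set I) : Sg (csJ cs J) (tJ cs t J) σ := fun j => by
  rw [tJ_p]
  exact h j

open Classical in
/-- **The characters attached to `z` and `σ z`.** -/
theorem step [Finite I] (h : Sg cs t σ) {z : W → ℂ} (hz : Prim cs t z) :
    ∃ φ φ' : W → ℂ, IsIrrCharacter W φ ∧ IsIrrCharacter W φ' ∧ (φ = φ' → act σ z = z) ∧ N cs t z z = φ 1 * φ 1 ∧
      φ 1 = φ' 1 ∧ (∀ J : Set I, FixAll (csJ cs J) (tJ cs t J) σ → ∀ w ∈ WJ cs J, φ w = φ' w) ∧
      ∀ J : Set I, FixOdd (csJ cs J) (tJ cs t J) σ → OddAg cs J φ φ' := by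
  obtain ⟨β, γ, k1, k2, k3⟩ := dict cs t
  set a : PS cs t := ⟨z, hz⟩ with ha
  set b : PS cs t := ⟨act σ z, hz.act h⟩ with hb
  have h1 : (β a).1 1 = (β b).1 1 := by
    have h2 := N_act h z z
    rw [show N cs t (act σ z) (act σ z) = _ from k1 b, show N cs t z z = _ from k1 a] at h2
    obtain ⟨m, hm0, hm⟩ := isIrr_apply_one (β a).2
    obtain ⟨n, hn0, hn⟩ := isIrr_apply_one (β b).2
    rw [hm, hn, map_mul, map_natCast] at h2
    have h3 : n * n = m * m := by exact_mod_cast h2
    rw [hm, hn, Nat.mul_self_inj.1 h3]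
  have key : ∀ (J : Set I) (y : PS (csJ cs J) (tJ cs t J)), act σ y.1 = y.1 →
      classInner (fun w : WJ cs J => (β a).1 w) (γ J y).1 = classInner (fun w : WJ cs J => (β b).1 w) (γ J y).1 := by
    intro J y hy
    have h2 := N_act h z (extendByZero (WJ cs J) y.1)
    rw [act_ext, hy, N_eq_rank cs t hz.mem hz.idem ((Lm_ext cs _ J _ _).trans (congrArg _ y.2.idem)), map_natCast,
      ← N_eq_rank cs t hz.mem hz.idem ((Lm_ext cs _ J _ _).trans (congrArg _ y.2.idem)),
      show N cs t (act σ z) _ = _ from k3 J b y, show N cs t z _ = _ from k3 J a y, ← h1] at h2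
    exact (mul_left_cancel₀ (mul_ne_zero (isIrr_apply_one_ne_zero (β a).2) (isIrr_apply_one_ne_zero (γ J y).2)) h2).symm
  refine ⟨β a, β b, (β a).2, (β b).2, fun h2 => ?_, k1 a, h1, fun J hJ w hw => ?_, fun J hJ ψ hψ d hd h2 => ?_⟩
  · exact (congrArg Subtype.val (β.injective (Subtype.ext h2))).symm
  · have h2 : (fun w : WJ cs J => (β a).1 w) = fun w : WJ cs J => (β b).1 w := by
      refine classFunction_ext (fun g x => isIrr_isClassFunction (β a).2 _ _) (fun g x => isIrr_isClassFunction (β b).2 _ _)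
        fun ψ hψ => ?_
      obtain ⟨y, hy⟩ := (γ J).surjective ⟨ψ, hψ⟩
      have h3 := key J y (hJ y.1 y.2)
      rwa [hy] at h3
    exact congrFun h2 ⟨w, hw⟩
  · obtain ⟨y, hy⟩ := (γ J).surjective ⟨ψ, hψ⟩
    have h3 := key J y (hJ y.1 y.2 d hd (by rw [k2 J y, hy]; show ψ 1 * ψ 1 = _; rw [h2]))
    rwa [hy] at h3

/-! ### Rank at most one -/

theorem fixAll_empty [IsEmpty I] (h : Sg cs t σ) : FixAll cs t σ := by
  intro z hz
  obtain ⟨φ, φ', -, -, h1, -, h2, -⟩ := step h hz
  apply h1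
  funext w
  obtain ⟨ω, rfl⟩ := cs.wordProd_surjective w
  cases ω with
  | nil => exact h2
  | cons i _ => exact isEmptyElim i

theorem fixAll_unique [Unique I] (h : Sg cs t σ) : FixAll cs t σ := by
  intro z hz
  set s := cs.simple default with hs
  have hs1 : s ≠ 1 := fun h1 => by
    have := cs.length_simple default
    rw [← hs, h1, cs.length_one] at this
    exact zero_ne_one this
  have hW : ∀ w : W, w = 1 ∨ w = s := by
    intro w
    obtain ⟨ω, rfl⟩ := cs.wordProd_surjective w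
    induction ω with
    | nil => exact Or.inl cs.wordProd_nil
    | cons i ω ih =>
      rw [cs.wordProd_cons, Unique.eq_default i, ← hs]
      rcases ih with h1 | h1
      · rw [h1, mul_one]; exact Or.inr rfl
      · rw [h1, hs, cs.simple_mul_simple_self]; exact Or.inl rfl
  have hU : (Finset.univ : Finset W) = {1, s} := by
    ext w
    simpa using hW w
  have h1 : z = z 1 • z + z s • L cs t default z := by
    conv_lhs => rw [← hz.idem, Lm_eq, hU, Finset.sum_pair hs1.symm, LinearMap.add_apply, LinearMap.smul_apply,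
      LinearMap.smul_apply, Lm_one', hs, ← L_eq]
  have hss : s * s = 1 := cs.simple_mul_simple_self default
  have h2 := congrFun h1 1
  have h3 := congrFun h1 s
  simp only [Pi.add_apply, Pi.smul_apply, smul_eq_mul, H157.HK.L_apply, mul_one, ← hs, hss, cs.length_one] at h2 h3
  rw [if_neg (by omega)] at h2
  rw [if_pos (by rw [hs, cs.length_simple]; omega)] at h3
  have hp : σ (t.p default : ℂ) = t.p default := h default
  have hp0 : (t.p default : ℂ) + 1 ≠ 0 := by
    have := t.p_pos default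
    exact_mod_cast (by linarith : t.p default + 1 ≠ 0)
  set p : ℂ := (t.p default : ℂ)
  set a := z 1
  set b := z s
  have key : σ a = a ∧ σ b = b := by
    by_cases hb : b = 0
    · refine ⟨?_, by rw [hb, map_zero]⟩
      rw [hb, zero_mul, add_zero] at h2
      by_cases ha : a = 0
      · rw [ha, map_zero]
      · rw [show a = 1 from mul_left_cancel₀ ha (by rw [← h2, mul_one]), map_one]
    · have h4 : 2 * a + (p - 1) * b = 1 := mul_left_cancel₀ hb (by linear_combination -h3)
      have h5 : (b * (p + 1)) * (b * (p + 1)) = 1 := by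
        have : a = (1 - (p - 1) * b) / 2 := by linear_combination h4 / 2
        rw [this] at h2
        linear_combination -4 * h2
      have h6 : σ (b * (p + 1)) = b * (p + 1) := by
        rcases mul_self_eq_one_iff.1 h5 with h6 | h6 <;> rw [h6] <;> simp only [_root_.map_one, _root_.RingEquiv.map_neg_one]
      rw [map_mul, map_add, hp, map_one] at h6
      have h7 : σ b = b := mul_right_cancel₀ hp0 h6
      refine ⟨?_, h7⟩
      have h8 := congrArg σ h4
      rw [map_add, map_mul, map_mul, map_sub, hp, map_one, h7, map_ofNat] at h8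
      linear_combination (h8 - h4) / 2
  funext w
  rcases hW w with rfl | rfl
  · exact key.1
  · exact key.2

end Cfsg.Agent.ODD.Hk
end

-- part: ODD/Hk/Sol
section
/-!
# Solomon's formula and characters of odd degree of a finite Coxeter group (helper2)

`sg` the sign character; `solomon`; `odd_step`, `odd_norm`; reducible groups : `rigid_red`, `odd_red`.
-/

set_option autoImplicit false
set_option linter.unusedSectionVars false

namespace Cfsg.Agent.ODD.Hk

open CoxeterSystem Cfsg.Agent.Tits.Exchange Cfsg.Agent.Tits.Core Module Cfsg.Agent.Characters.Core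
open scoped ComplexConjugate

variable {I W : Type*} {M : CoxeterMatrix I} [Group W] (cs : CoxeterSystem M W)

theorem sg_liftable : M.IsLiftable fun _ => (-1 : ℂˣ) := fun i j => by simp

/-- the sign character -/
noncomputable def sgH : W →* ℂˣ := cs.lift ⟨fun _ => -1, sg_liftable⟩

/-- the sign character -/
noncomputable def sg (w : W) : ℂ := sgH cs w

theorem sg_simple (i : I) : sg cs (cs.simple i) = -1 := by
  unfold sg sgH
  rw [cs.lift_apply_simple]
  simp

theorem sg_one : sg cs 1 = 1 := by simp [sg]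

theorem sg_mul (v w : W) : sg cs (v * w) = sg cs v * sg cs w := by simp [sg]

theorem sg_wordProd (ω : List I) : sg cs (cs.wordProd ω) = (-1) ^ ω.length := by
  induction ω with
  | nil => simp [sg_one]
  | cons i ω ih => rw [cs.wordProd_cons, sg_mul, sg_simple, ih, List.length_cons, pow_succ']

theorem sg_sq (w : W) : sg cs w * sg cs w = 1 := by
  obtain ⟨ω, rfl⟩ := cs.wordProd_surjective w
  rw [sg_wordProd, ← mul_pow]
  simp

theorem sg_inv (w : W) : sg cs w⁻¹ = sg cs w := by
  have h := sg_mul cs w⁻¹ w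
  rw [inv_mul_cancel, sg_one] at h
  rw [← mul_one (sg cs w⁻¹), ← sg_sq cs w, ← mul_assoc, ← h, one_mul]

theorem conj_sg (w : W) : conj (sg cs w) = sg cs w := by
  obtain ⟨ω, rfl⟩ := cs.wordProd_surjective w
  rw [sg_wordProd]
  simp only [_root_.map_pow, _root_.map_neg, _root_.map_one]

theorem isIrr_sg {φ : W → ℂ} (hφ : IsIrrCharacter W φ) : IsIrrCharacter W fun w => φ w * sg cs w :=
  CharactersDeep.ExtUnique.isIrr_mul_hom hφ (sgH cs)

theorem sg_csJ [Finite W] [Finite I] (J : Set I) (w : WJ cs J) : sg (csJ cs J) w = sg cs w := by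
  obtain ⟨ω, rfl⟩ := (csJ cs J).wordProd_surjective w
  rw [csJ_wordProd, sg_wordProd, sg_wordProd, List.length_map]

/-- the thin building -/
def thin : Bldg cs W where
  δ x y := x⁻¹ * y
  eq_one x y := inv_mul_eq_one
  symm x y := by group
  step x y z i h := by
    left
    rw [inv_mul_eq_iff_eq_mul] at h
    rw [h, mul_assoc]
  step_lt x y z i h _ := by
    rw [inv_mul_eq_iff_eq_mul] at h
    rw [h, mul_assoc]
  exists_step x y i := ⟨y * cs.simple i, by group, by group⟩

theorem thin_iso (g x y : W) : (thin cs).δ (g • x) (g • y) = (thin cs).δ x y := by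
  show (g * x)⁻¹ * (g * y) = x⁻¹ * y
  group

variable [Fintype W] [Fintype I] [DecidableEq I]

theorem harm_thin {f : W → ℂ} (hf : f ∈ H167.SteinbergMod.Harm (thin cs)) (w : W) : f w = sg cs w * f 1 := by
  classical
  have h1 : ∀ x i, f (x * cs.simple i) = - f x := by
    intro x i
    have h2 := (H167.SteinbergMod.mem_Harm (thin cs)).1 hf i x
    have h3 : x ≠ x * cs.simple i := fun h => by
      have := cs.length_mul_simple x i
      rw [← h] at this
      omega
    rw [← Finset.sum_filter, show (Finset.univ.filter fun y => y ∈ (thin cs).Pan i x) = {x, x * cs.simple i} from ?_,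
      Finset.sum_pair h3] at h2
    · linear_combination h2
    · ext y
      simp only [Finset.mem_filter, Finset.mem_univ, true_and, Finset.mem_insert, Finset.mem_singleton]
      exact or_congr Iff.rfl inv_mul_eq_iff_eq_mul
  obtain ⟨ω, rfl⟩ := cs.wordProd_surjective w
  induction ω using List.reverseRecOn with
  | nil => simp [sg_one]
  | append_singleton ω i ih => rw [cs.wordProd_append, cs.wordProd_singleton, h1, ih, sg_mul, sg_simple]; ring

/-- **Solomon's formula.** -/
theorem solomon_pt (g : W) : ∑ K : Finset I, (-1 : ℂ) ^ K.card *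
    (Nat.card (MulAction.fixedBy (W ⧸ WJ cs (K : Set I)) g) : ℂ) = sg cs g := by
  have key : ∀ g : W, (H167.SteinbergMod.stRep (thin cs) (thin_iso cs)).character g = ∑ K : Finset I, (-1 : ℂ) ^ K.card *
      (Nat.card (MulAction.fixedBy (W ⧸ WJ cs (K : Set I)) g) : ℂ) := by
    intro g
    rw [H167.AltBldg.character_alt (thin cs) (thin_iso cs) 1 g, Finset.powerset_univ]
    refine Finset.sum_congr rfl fun K _ => ?_
    rw [H167.AltBldg.card_fixed (thin cs) (thin_iso cs) 1 (fun x y => ⟨y * x⁻¹, by simp⟩) K (WJ cs K)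
      (fun g => by show _ ↔ 1⁻¹ * (g * 1) ∈ _; rw [inv_one, one_mul, mul_one]) g]
  have h1 : ∀ g : W, H167.SteinbergMod.stRep (thin cs) (thin_iso cs) g = sg cs g • 1 := by
    intro g
    refine LinearMap.ext fun f => Subtype.ext (funext fun x => ?_)
    show f.1 (g⁻¹ * x) = sg cs g * f.1 x
    rw [harm_thin cs f.2, harm_thin cs f.2 x, sg_mul, sg_inv, mul_assoc]
  have h2 := H167.SteinbergMod.character_eq (thin cs) (thin_iso cs) (1 : W) (fun y hy => ⟨id, fun _ _ => rfl, rfl, by
    have h3 : (1 : W)⁻¹ * y = w0 cs := hy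
    rw [inv_one, one_mul] at h3
    exact h3.symm⟩) (g := (1 : W)) (one_smul _ _)
  have h3 : Nat.card {y : W // (thin cs).Opp 1 y ∧ (1 : W) • y = y} = 1 := by
    rw [Nat.card_eq_one_iff_exists]
    refine ⟨⟨w0 cs, by show (1 : W)⁻¹ * _ = _; simp, one_smul _ _⟩, fun y => Subtype.ext ?_⟩
    have h4 : (1 : W)⁻¹ * y.1 = w0 cs := y.2.1
    simpa using h4
  rw [h3, Nat.cast_one] at h2
  rw [← key]
  unfold Representation.character at h2 ⊢
  rw [map_one] at h2
  rw [h1, map_smul, h2, smul_eq_mul, mul_one]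

/-- elements that are not conjugate into a proper parabolic subgroup have the parity of the rank -/
theorem sg_of_not_nc {w : W} (hw : ¬ NC cs w) : sg cs w = (-1) ^ Fintype.card I := by
  rw [← solomon_pt, Finset.sum_eq_single Finset.univ]
  · have : Subsingleton (W ⧸ WJ cs ((Finset.univ : Finset I) : Set I)) := by
      rw [Finset.coe_univ, WJ_univ]
      exact QuotientGroup.subsingleton_quotient_top
    have h1 : Nat.card (MulAction.fixedBy (W ⧸ WJ cs ((Finset.univ : Finset I) : Set I)) w) = 1 :=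
      Nat.card_eq_one_iff_unique.2 ⟨inferInstance, ⟨⟨(1 : W), Subsingleton.elim _ _⟩⟩⟩
    rw [h1, Finset.card_univ, Nat.cast_one, mul_one]
  · intro K _ hK
    have : IsEmpty (MulAction.fixedBy (W ⧸ WJ cs (K : Set I)) w) := ⟨fun q => by
      obtain ⟨q, hq⟩ := q
      obtain ⟨g, rfl⟩ := QuotientGroup.mk_surjective q
      have h1 : (QuotientGroup.mk (w * g) : W ⧸ WJ cs (K : Set I)) = QuotientGroup.mk g := hq
      rw [eq_comm, QuotientGroup.eq] at h1
      refine hw ⟨K, fun h => hK (Finset.coe_injective (by rw [h, Finset.coe_univ])), g⁻¹, ?_⟩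
      rwa [inv_inv, mul_assoc]⟩
    rw [Nat.card_of_isEmpty, Nat.cast_zero, mul_zero]
  · intro h
    exact absurd (Finset.mem_univ _) h

open Classical in
theorem solomon {f : W → ℂ} (hf : IsClassFunction W f) : classInner f (fun w => f w * sg cs w) =
    ∑ K : Finset I, (-1 : ℂ) ^ K.card *
      classInner (fun w : WJ cs (K : Set I) => f w) (fun w : WJ cs (K : Set I) => f w) := by
  have hc : IsClassFunction W fun w => f w * conj (f w) := fun g h => by simp only [hf g h]
  rw [classInner_def]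
  have h1 : ∀ w, f w * conj (f w * sg cs w) = ∑ K : Finset I, (-1 : ℂ) ^ K.card *
      (f w * conj (f w) * (Nat.card (MulAction.fixedBy (W ⧸ WJ cs (K : Set I)) w) : ℂ)) := by
    intro w
    rw [map_mul, conj_sg, ← solomon_pt, ← mul_assoc, Finset.mul_sum]
    exact Finset.sum_congr rfl fun K _ => by ring
  simp only [h1]
  rw [Finset.sum_comm, Finset.mul_sum]
  refine Finset.sum_congr rfl fun K _ => ?_
  rw [← Finset.mul_sum, H969.TT.TopAbs.frob (WJ cs K) hc, classInner_def, ← (WJ cs (K : Set I)).index_mul_card]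
  have h2 : ((WJ cs (K : Set I)).index : ℂ) ≠ 0 := by exact_mod_cast Subgroup.index_ne_zero_of_finite
  have h3 := card_ne_zero_complex (G := WJ cs (K : Set I))
  push_cast
  field_simp

/-! ### Odd degree -/

section Gen

variable {G : Type*} [Group G]

theorem inv_ne_zero' {φ : G → ℂ} (hφ : IsCharacter G φ) {d : ℕ} (hd : Odd d) (h1 : φ 1 = d) {u : G} (hu : u * u = 1) :
    φ u ≠ 0 := by
  obtain ⟨n, ρ, rfl⟩ := hφ
  intro h
  have h2 : ((1 / 2 : ℂ) • (ρ 1 + ρ u)) * ((1 / 2 : ℂ) • (ρ 1 + ρ u)) = (1 / 2 : ℂ) • (ρ 1 + ρ u) := by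
    rw [smul_mul_smul_comm, add_mul, mul_add, mul_add, ← map_mul, ← map_mul, ← map_mul, ← map_mul, hu, one_mul, one_mul,
      mul_one]
    module
  have h3 := H157.HK.trace_idem h2
  rw [map_smul, map_add] at h3
  have h4 : (1 / 2 : ℂ) • (ρ.character 1 + ρ.character u) = _ := h3
  rw [h, h1, add_zero, smul_eq_mul] at h4
  have h5 : (d : ℂ) = 2 * (finrank ℂ (LinearMap.range ((1 / 2 : ℂ) • (ρ 1 + ρ u))) : ℂ) := by linear_combination 2 * h4
  have h6 : d = 2 * finrank ℂ (LinearMap.range ((1 / 2 : ℂ) • (ρ 1 + ρ u))) := by exact_mod_cast h5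
  exact (Nat.not_even_iff_odd.2 hd) ⟨_, by rw [h6, two_mul]⟩

theorem central_mul [Fintype G] {φ : G → ℂ} (hφ : IsIrrCharacter G φ) {z : G} (hz : ∀ g, g * z = z * g) (y : G) :
    φ (z * y) * φ 1 = φ z * φ y := by
  have h := Characters.Central.sum_char_conj_mul hφ z y
  simp only [hz, mul_inv_cancel_right, Finset.sum_const, Finset.card_univ, nsmul_eq_mul, ← Nat.card_eq_fintype_card] at h
  have h1 := isIrr_apply_one_ne_zero hφ
  have h2 := card_ne_zero_complex (G := G)
  field_simp at h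
  exact h

theorem central_ne_zero [Fintype G] {φ : G → ℂ} (hφ : IsIrrCharacter G φ) {z : G} (hz : ∀ g, g * z = z * g) : φ z ≠ 0 := by
  intro h
  have h1 := central_mul hφ hz z⁻¹
  rw [mul_inv_cancel, h, zero_mul] at h1
  exact mul_ne_zero (isIrr_apply_one_ne_zero hφ) (isIrr_apply_one_ne_zero hφ) h1

theorem norm_sub_irr [Fintype G] {φ φ' : G → ℂ} (hφ : IsIrrCharacter G φ) (hφ' : IsIrrCharacter G φ') (h : φ ≠ φ') :
    classInner (φ - φ') (φ - φ') = 2 := by
  rw [classInner_sub_left, classInner_sub_right, classInner_sub_right, classInner_irr_self hφ, classInner_irr_self hφ',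
    classInner_irr_ne hφ hφ' h, classInner_irr_ne hφ' hφ h.symm]
  norm_num

end Gen

theorem inner_sg_zero {φ φ' : W → ℂ} (hφ : IsIrrCharacter W φ) (hφ' : IsIrrCharacter W φ') {d : ℕ} (hd : Odd d)
    (h1 : φ 1 = d) {i : I} (hi : φ (cs.simple i) = φ' (cs.simple i)) :
    classInner (φ - φ') (fun w => (φ - φ') w * sg cs w) = 0 := by
  have h0 := inv_ne_zero' (isIrr_isCharacter hφ) hd h1 (cs.simple_mul_simple_self i)
  have key : ∀ a b : W → ℂ, IsIrrCharacter W a → IsIrrCharacter W b → a (cs.simple i) = φ (cs.simple i) →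
      b (cs.simple i) = φ (cs.simple i) → classInner a (fun w => b w * sg cs w) = 0 := by
    intro a b ha hb h2 h3
    refine classInner_irr_ne ha (isIrr_sg cs hb) fun h => h0 ?_
    have h4 := congrFun h (cs.simple i)
    rw [h2, h3, sg_simple] at h4
    linear_combination h4 / 2
  have h2 : (fun w => (φ - φ') w * sg cs w) = (fun w => φ w * sg cs w) - fun w => φ' w * sg cs w := by
    funext w
    simp only [Pi.sub_apply]
    ring
  rw [h2, classInner_sub_left, classInner_sub_right, classInner_sub_right, key φ φ hφ hφ rfl rfl,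
    key φ φ' hφ hφ' rfl hi.symm, key φ' φ hφ' hφ hi.symm rfl, key φ' φ' hφ' hφ' hi.symm hi.symm]
  ring

/-- **Characters of odd degree are determined by their values on the proper parabolic subgroups.** -/
theorem odd_step [Nontrivial I] {φ φ' : W → ℂ} (hφ : IsIrrCharacter W φ) (hφ' : IsIrrCharacter W φ') {d : ℕ} (hd : Odd d)
    (h1 : φ 1 = d) (h : ∀ w, NC cs w → φ w = φ' w) : φ = φ' := by
  obtain ⟨i⟩ : Nonempty I := inferInstance
  have h2 := inner_sg_zero cs hφ hφ' hd h1 (h _ (nc_simple i))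
  have h3 : (fun w => (φ - φ') w * sg cs w) = ((-1 : ℂ) ^ Fintype.card I) • (φ - φ') := by
    funext w
    by_cases hw : NC cs w
    · simp only [h w hw, _root_.Pi.sub_apply, _root_.sub_self, _root_.MulZeroClass.zero_mul, _root_.Pi.smul_apply, _root_.smul_eq_mul, _root_.MulZeroClass.mul_zero]
    · rw [sg_of_not_nc cs hw, Pi.smul_apply, smul_eq_mul, mul_comm]
  rw [h3, classInner_smul_right, mul_eq_zero] at h2
  exact sub_eq_zero.1 (classInner_self_eq_zero (h2.resolve_left (by simp only [_root_.map_pow, _root_.map_neg, _root_.map_one, _root_.ne_eq, _root_.Fintype.card_ne_zero, _root_.not_false_eq_true, _root_.pow_eq_zero_iff, _root_.neg_eq_zero, _root_.one_ne_zero])))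

open Classical in
theorem odd_norm {φ φ' : W → ℂ} (hφ : IsIrrCharacter W φ) (hφ' : IsIrrCharacter W φ') {d : ℕ} (hd : Odd d)
    (h1 : φ 1 = d) {J : Finset I} (hJ : J.card + 1 = Fintype.card I) {i : I} (hi : ({i} : Set I) ≠ J)
    (hi' : ({i} : Set I) ≠ Set.univ) (h : ∀ K : Set I, K ≠ J → K ≠ Set.univ → ∀ w ∈ WJ cs K, φ w = φ' w) (hne : φ ≠ φ') :
    classInner (fun w : WJ cs (J : Set I) => (φ - φ') w) (fun w : WJ cs (J : Set I) => (φ - φ') w) = 2 := by
  have h2 := inner_sg_zero cs hφ hφ' hd h1 (h _ hi hi' _ (simple_mem_WJ cs rfl))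
  have hc : IsClassFunction W (φ - φ') := fun g x => by
    simp only [Pi.sub_apply, isIrr_isClassFunction hφ g x, isIrr_isClassFunction hφ' g x]
  have hJu : J ≠ Finset.univ := fun e => by
    rw [e, Finset.card_univ] at hJ
    omega
  rw [solomon cs hc, Finset.sum_eq_add_of_mem J Finset.univ (Finset.mem_univ _) (Finset.mem_univ _) hJu] at h2
  · have h3 : classInner (fun w : WJ cs ((Finset.univ : Finset I) : Set I) => (φ - φ') w)
        (fun w : WJ cs ((Finset.univ : Finset I) : Set I) => (φ - φ') w) = 2 := by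
      have h4 : ∀ w, w ∈ WJ cs ((Finset.univ : Finset I) : Set I) := fun w => by
        rw [Finset.coe_univ]
        exact mem_WJ_univ cs w
      let e : WJ cs ((Finset.univ : Finset I) : Set I) ≃ W := Equiv.subtypeUnivEquiv h4
      rw [← norm_sub_irr hφ hφ' hne, classInner_def, classInner_def, Nat.card_congr e]
      congr 1
      exact Fintype.sum_equiv e _ _ fun _ => rfl
    rw [h3, Finset.card_univ, ← hJ, pow_succ] at h2
    have h4 : (-1 : ℂ) ^ J.card ≠ 0 := by simp only [_root_.ne_eq, _root_.pow_eq_zero_iff', _root_.neg_eq_zero, _root_.one_ne_zero, _root_.Finset.card_eq_zero, _root_.false_and, _root_.not_false_eq_true]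
    apply mul_left_cancel₀ h4
    linear_combination h2
  · intro K _ hK
    have h3 : (fun w : WJ cs (K : Set I) => (φ - φ') w) = 0 := by
      funext w
      exact sub_eq_zero.2 (h K (fun e => hK.1 (Finset.coe_injective e))
        (fun e => hK.2 (Finset.coe_injective (by rw [e, Finset.coe_univ]))) w w.2)
    rw [h3, classInner_zero_left, mul_zero]

end Cfsg.Agent.ODD.Hk
end

-- part: ODD/Hk/Red
section
/-!
# Reducible Coxeter groups, and the central involution of a maximal parabolic subgroup (helper2)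

`rigid_red`, `odd_red`, `odd_cent`.
-/

set_option autoImplicit false
set_option linter.unusedSectionVars false

namespace Cfsg.Agent.ODD.Hk

open CoxeterSystem Cfsg.Agent.Tits.Exchange Cfsg.Agent.Tits.Core Module Cfsg.Agent.Characters.Core
open scoped ComplexConjugate

variable {I W : Type*} {M : CoxeterMatrix I} [Group W] (cs : CoxeterSystem M W)

section Red

variable {J : Set I} (hJ : ∀ a ∈ J, ∀ b ∈ Jᶜ, M a b = 2)

include hJ

theorem red_comm {x y : W} (hx : x ∈ WJ cs J) (hy : y ∈ WJ cs Jᶜ) : x * y = y * x := by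
  have h1 : WJ cs J ≤ Subgroup.centralizer (WJ cs Jᶜ : Set W) := by
    refine (Subgroup.closure_le _).2 ?_
    rintro _ ⟨a, ha, rfl⟩
    have h2 : WJ cs Jᶜ ≤ Subgroup.centralizer {cs.simple a} := by
      refine (Subgroup.closure_le _).2 ?_
      rintro _ ⟨b, hb, rfl⟩ _ rfl
      have h := cs.simple_mul_simple_pow a b
      rw [hJ a ha b hb, pow_two] at h
      have h1 := eq_inv_of_mul_eq_one_left h
      rwa [mul_inv_rev, cs.inv_simple, cs.inv_simple] at h1
    exact fun y hy => (h2 hy _ rfl).symm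
  exact (h1 hx y hy).symm

theorem red_dec (w : W) : ∃ x ∈ WJ cs J, ∃ y ∈ WJ cs Jᶜ, w = x * y := by
  obtain ⟨ω, rfl⟩ := cs.wordProd_surjective w
  induction ω with
  | nil => exact ⟨1, one_mem _, 1, one_mem _, by simp⟩
  | cons i ω ih =>
    obtain ⟨x, hx, y, hy, h⟩ := ih
    rw [cs.wordProd_cons, h]
    by_cases hi : i ∈ J
    · exact ⟨_, mul_mem (simple_mem_WJ cs hi) hx, y, hy, (mul_assoc _ _ _).symm⟩
    · refine ⟨x, hx, _, mul_mem (simple_mem_WJ cs hi) hy, ?_⟩
      rw [← mul_assoc, ← mul_assoc, red_comm cs hJ hx (simple_mem_WJ cs hi)]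

theorem red_conj (g : W) : ∃ a ∈ WJ cs J, (∀ x ∈ WJ cs J, g * x * g⁻¹ = a * x * a⁻¹) ∧
    ∀ y ∈ WJ cs Jᶜ, a * y = y * a := by
  obtain ⟨a, ha, b, hb, rfl⟩ := red_dec cs hJ g
  refine ⟨a, ha, fun x hx => ?_, fun y hy => red_comm cs hJ ha hy⟩
  rw [mul_assoc a b x, ← red_comm cs hJ hx hb]
  group

theorem red_isConj (g : W) {x y : W} (hx : x ∈ WJ cs J) (hy : y ∈ WJ cs Jᶜ) : IsConj (g * x * g⁻¹ * y) (x * y) := by
  obtain ⟨a, -, h1, h2⟩ := red_conj cs hJ g
  rw [h1 x hx]
  refine isConj_iff.2 ⟨a⁻¹, ?_⟩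
  calc a⁻¹ * (a * x * a⁻¹ * y) * a⁻¹⁻¹ = x * a⁻¹ * (y * a) := by group
    _ = x * y := by rw [← h2 y hy]; group

theorem rigid_red [Finite W] (h1 : J.Nonempty) (h2 : Jᶜ.Nonempty) : Rigid cs := by
  have : Nonempty I := ⟨h1.some⟩
  refine rigid_of fun w _ => ?_
  obtain ⟨x, hx, y, hy, rfl⟩ := red_dec cs hJ w
  exact ⟨x, y, nc_of_mem (Set.nonempty_compl.1 h2) hx, nc_of_mem (Set.compl_ne_univ.2 h1) hy, IsConj.refl _,
    fun g => Or.inr (red_isConj cs hJ g hx hy)⟩

variable [Fintype W] [DecidableEq W]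

theorem red_agree {φ φ' : W → ℂ} (hφ : IsIrrCharacter W φ) (hφ' : IsIrrCharacter W φ') {d : ℕ} (hd : Odd d)
    (h1 : φ 1 = d) (h : OddAg cs J φ φ') {x : W} (hx : x ∈ WJ cs J) : φ x = φ' x := by
  classical
  have hN : (WJ cs J).Normal := ⟨fun n hn g => by
    obtain ⟨a, ha, h2, -⟩ := red_conj cs hJ g
    rw [h2 n hn]
    exact mul_mem (mul_mem ha hn) (inv_mem ha)⟩
  obtain ⟨ψ, hψ, h2⟩ : ∃ ψ, IsIrrCharacter (WJ cs J) ψ ∧ classInner (fun w : WJ cs J => φ w) ψ ≠ 0 := by
    by_contra h2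
    push Not at h2
    exact isIrr_apply_one_ne_zero hφ
      (congrFun (classFunction_eq_zero (f := fun w : WJ cs J => φ w) (fun g x => isIrr_isClassFunction hφ _ _) h2) 1)
  have hinv : ∀ g : W, ψ ∘ (MulAut.conjNormal g : MulAut (WJ cs J)) = ψ := by
    intro g
    obtain ⟨a, ha, h3, -⟩ := red_conj cs hJ g
    funext n
    rw [← isIrr_isClassFunction hψ n ⟨a, ha⟩]
    exact congrArg ψ (Subtype.ext (h3 n n.2))
  obtain ⟨m, hm⟩ := CharDeep.PowerDegrees.degree_dvd (WJ cs J) hφ hψ h2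
  obtain ⟨e, -, he⟩ := isIrr_apply_one hψ
  rw [h1, he] at hm
  have h3 : d = m * e := by exact_mod_cast hm
  have h4 := h ψ hψ e (Nat.Odd.of_mul_right (h3 ▸ hd)) he
  have h5 := CharDeep.CliffordCorr.restrict_eq_smul_of_invariant (WJ cs J) hφ hψ hinv h2
  have h6 := CharDeep.CliffordCorr.restrict_eq_smul_of_invariant (WJ cs J) hφ' hψ hinv (h4 ▸ h2)
  rw [h4, ← h6] at h5
  exact congrFun h5 ⟨x, hx⟩

theorem red_mul {φ : W → ℂ} (hφ : IsIrrCharacter W φ) {x y : W} (hx : x ∈ WJ cs J) (hy : y ∈ WJ cs Jᶜ) :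
    φ (x * y) = φ x * φ y / φ 1 := by
  have h := Characters.Central.sum_char_conj_mul hφ x y
  simp only [fun g => classFunction_apply_eq (isIrr_isClassFunction hφ) (red_isConj cs hJ g hx hy), Finset.sum_const,
    Finset.card_univ, nsmul_eq_mul, ← Nat.card_eq_fintype_card] at h
  apply mul_left_cancel₀ (card_ne_zero_complex (G := W))
  rw [h]
  ring

theorem odd_red {φ φ' : W → ℂ} (hφ : IsIrrCharacter W φ) (hφ' : IsIrrCharacter W φ') {d : ℕ} (hd : Odd d)
    (h1 : φ 1 = d) (h : OddAg cs J φ φ') (h' : OddAg cs Jᶜ φ φ') : φ = φ' := by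
  funext w
  obtain ⟨x, hx, y, hy, rfl⟩ := red_dec cs hJ w
  have hJ' : ∀ a ∈ Jᶜ, ∀ b ∈ Jᶜᶜ, M a b = 2 := fun a ha b hb => by
    rw [M.symmetric]
    exact hJ b (by simpa using hb) a ha
  rw [red_mul cs hJ hφ hx hy, red_mul cs hJ hφ' hx hy, red_agree cs hJ hφ hφ' hd h1 h hx,
    red_agree cs hJ' hφ hφ' hd h1 h' hy, red_agree cs hJ hφ hφ' hd h1 h (one_mem _)]

end Red

/-- a virtual character of norm two, changing sign under a linear character, at a central element -/
theorem norm_two {G : Type*} [Group G] [Fintype G] {a b : G → ℂ} (ha : IsCharacter G a) (hb : IsCharacter G b)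
    (hn : classInner (a - b) (a - b) = 2) {ν : G → ℂ} (hν : ∀ E, IsIrrCharacter G E → IsIrrCharacter G fun w => E w * ν w)
    (hν' : ∀ w, conj (ν w) = ν w) (h : ∀ w, (a - b) w * ν w = - (a - b) w) {z : G} (hz : ∀ g, g * z = z * g)
    (hνz : ν z = -1) : (a - b) z ≠ 0 := by
  have hc : IsClassFunction G (a - b) := fun g x => by
    simp only [Pi.sub_apply, isCharacter_isClassFunction ha g x, isCharacter_isClassFunction hb g x]
  obtain ⟨E, hE, h1⟩ : ∃ E, IsIrrCharacter G E ∧ classInner (a - b) E ≠ 0 := by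
    by_contra h2
    push Not at h2
    rw [classFunction_eq_zero hc h2, classInner_zero_left] at hn
    norm_num at hn
  obtain ⟨c, hcE⟩ : ∃ c : ℤ, classInner (a - b) E = c := by
    obtain ⟨m, hm⟩ := classInner_isNat ha (isIrr_isCharacter hE)
    obtain ⟨n, hn⟩ := classInner_isNat hb (isIrr_isCharacter hE)
    exact ⟨m - n, by rw [classInner_sub_left, hm, hn]; push_cast; rfl⟩
  generalize a - b = g at *
  set F : G → ℂ := fun w => E w * ν w with hF
  have hE0 := central_ne_zero hE hz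
  have hEF : E ≠ F := fun e => hE0 (by
    have h2 : E z = E z * ν z := congrFun e z
    rw [hνz] at h2
    linear_combination h2 / 2)
  have h2 : classInner g F = -c := by
    rw [← hcE, ← classInner_neg_left, classInner_def, classInner_def]
    congr 1
    refine Finset.sum_congr rfl fun w _ => ?_
    rw [map_mul, hν', Pi.neg_apply, ← h w]
    ring
  have h3 : classInner E g = c := by rw [← classInner_conj_symm, hcE, map_intCast]
  have h4 : classInner F g = -c := by rw [← classInner_conj_symm, h2, map_neg, map_intCast]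
  have h5 : classInner (g - (c : ℂ) • (E - F)) (g - (c : ℂ) • (E - F)) = ((2 - 2 * c ^ 2 : ℤ) : ℂ) := by
    rw [classInner_sub_left, classInner_sub_right, classInner_sub_right, classInner_smul_left, classInner_smul_right,
      classInner_smul_left, classInner_smul_right, norm_sub_irr hE (hν E hE) hEF, classInner_sub_left,
      classInner_sub_right, hn, hcE, h2, h3, h4, map_intCast]
    push_cast
    ring
  have h6 : (0 : ℤ) ≤ 2 - 2 * c ^ 2 := by
    rw [classInner_self_eq_ofReal, ← Complex.ofReal_intCast (2 - 2 * c ^ 2), Complex.ofReal_inj] at h5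
    have : (0 : ℝ) ≤ ((2 - 2 * c ^ 2 : ℤ) : ℝ) := by
      rw [← h5]
      exact mul_nonneg (inv_nonneg.2 (Nat.cast_nonneg _)) (Finset.sum_nonneg fun _ _ => Complex.normSq_nonneg _)
    exact_mod_cast this
  have hc0 : c ≠ 0 := fun e => h1 (by rw [hcE, e, Int.cast_zero])
  have h7 : 2 - 2 * c ^ 2 = 0 := by
    have := pow_pos (abs_pos.2 hc0) 2
    rw [sq_abs] at this
    omega
  rw [h7, Int.cast_zero] at h5
  have h8 := congrFun (sub_eq_zero.1 (classInner_self_eq_zero h5)) z
  rw [h8, Pi.smul_apply, Pi.sub_apply, hF]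
  simp only [hνz, smul_eq_mul]
  refine mul_ne_zero (Int.cast_ne_zero.2 hc0) fun e => hE0 ?_
  linear_combination e / 2

/-- **A maximal parabolic subgroup of odd rank with an odd central element.** -/
theorem odd_cent [Fintype W] [Fintype I] [DecidableEq I] {φ φ' : W → ℂ} (hφ : IsIrrCharacter W φ)
    (hφ' : IsIrrCharacter W φ') {d : ℕ} (hd : Odd d) (h1 : φ 1 = d) {J : Finset I} (hJ : J.card + 1 = Fintype.card I)
    (hJ' : Odd J.card) {i : I} (hi : ({i} : Set I) ≠ J) (hi' : ({i} : Set I) ≠ Set.univ)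
    (h : ∀ K : Set I, K ≠ J → K ≠ Set.univ → ∀ w ∈ WJ cs K, φ w = φ' w) {z : W} (hz : z ∈ WJ cs (J : Set I))
    (hc : ∀ g ∈ WJ cs (J : Set I), g * z = z * g) (hs : sg cs z = -1) (he : φ z = φ' z) : φ = φ' := by
  classical
  by_contra hne
  have h2 := odd_norm cs hφ hφ' hd h1 hJ hi hi' h hne
  have hJu : (J : Set I) ≠ Set.univ := fun e => by
    have : J = Finset.univ := Finset.coe_injective (by rw [e, Finset.coe_univ])
    rw [this, Finset.card_univ] at hJ
    omega
  refine norm_two (G := WJ cs (J : Set I)) (a := fun w => φ w) (b := fun w => φ' w)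
    (isCharacter_comp (WJ cs (J : Set I)).subtype (isIrr_isCharacter hφ))
    (isCharacter_comp (WJ cs (J : Set I)).subtype (isIrr_isCharacter hφ')) h2 (ν := sg (csJ cs J))
    (fun E hE => isIrr_sg _ hE) (conj_sg _) (fun w => ?_) (z := ⟨z, hz⟩) (fun g => Subtype.ext (hc g g.2))
    (by rw [sg_csJ, hs]) (sub_eq_zero.2 he)
  by_cases hw : NC (csJ cs J) w
  · obtain ⟨K, hK, g, hg⟩ := hw
    rw [mem_WJ_csJ] at hg
    have h3 : (Subtype.val '' K : Set I) ≠ J := fun e => hK (Set.eq_univ_of_forall fun j => by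
      obtain ⟨k, hk, hkj⟩ : (j : I) ∈ (Subtype.val '' K : Set I) := by rw [e]; exact j.2
      exact Subtype.ext hkj ▸ hk)
    have h4 : (Subtype.val '' K : Set I) ≠ Set.univ := fun e => hJu (Set.eq_univ_of_forall fun j => by
      obtain ⟨k, -, hkj⟩ : j ∈ (Subtype.val '' K : Set I) := e ▸ Set.mem_univ j
      exact hkj ▸ k.2)
    have h5 := h _ h3 h4 _ hg
    rw [Subgroup.coe_mul, Subgroup.coe_mul, Subgroup.coe_inv, isIrr_isClassFunction hφ, isIrr_isClassFunction hφ'] at h5
    simp [h5]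
  · rw [sg_of_not_nc _ hw, show Fintype.card (J : Set I) = J.card by simp only [_root_.SetLike.coe_sort_coe, _root_.Fintype.card_coe], hJ'.neg_one_pow, mul_neg_one]

end Cfsg.Agent.ODD.Hk
end

-- part: ODD/Hk/E8
section
/-!
# Characters of odd degree of `W(E₈)` (helper2)

`odd_E8` : they are determined by their values on the proper parabolic subgroups other than `W(E₇)`.
-/

set_option autoImplicit false
set_option linter.unusedSectionVars false

namespace Cfsg.Agent.ODD.Hk

open CoxeterSystem Cfsg.Agent.Tits.Exchange Cfsg.Agent.Tits.Core Cfsg.Agent.Characters.Core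
  Cfsg.Agent.ChevalleyStructure.CoxeterGeom Cfsg.Agent.LieRecognition.CoxClass

namespace E8

/-- the Cartan matrix -/
def ca (i j : Fin 8) : ℤ := if i = j then 2 else if mE 8 i j = 3 then -1 else 0

/-- vectors -/
structure V where
  (a b c d e f g h : ℤ)
  deriving DecidableEq

/-- coordinates -/
def V.co (x : V) : Fin 8 → ℤ := ![x.a, x.b, x.c, x.d, x.e, x.f, x.g, x.h]

/-- the negative -/
def V.ng (x : V) : V := ⟨-x.a, -x.b, -x.c, -x.d, -x.e, -x.f, -x.g, -x.h⟩

/-- the reflections -/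
def rf (i : Fin 8) (x : V) : V :=
  match i with
  | 0 => { x with a := x.b - x.a }
  | 1 => { x with b := x.a + x.c - x.b }
  | 2 => { x with c := x.b + x.d + x.h - x.c }
  | 3 => { x with d := x.c + x.e - x.d }
  | 4 => { x with e := x.d + x.f - x.e }
  | 5 => { x with f := x.e + x.g - x.f }
  | 6 => { x with g := x.f - x.g }
  | 7 => { x with h := x.c - x.h }

/-- the basis -/
def bs : List V := [⟨1, 0, 0, 0, 0, 0, 0, 0⟩, ⟨0, 1, 0, 0, 0, 0, 0, 0⟩, ⟨0, 0, 1, 0, 0, 0, 0, 0⟩, ⟨0, 0, 0, 1, 0, 0, 0, 0⟩,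
  ⟨0, 0, 0, 0, 1, 0, 0, 0⟩, ⟨0, 0, 0, 0, 0, 1, 0, 0⟩, ⟨0, 0, 0, 0, 0, 0, 1, 0⟩, ⟨0, 0, 0, 0, 0, 0, 0, 1⟩]

theorem co_ng (x : V) : x.ng.co = -x.co := by
  funext k
  fin_cases k <;> rfl

theorem refl_co (i : Fin 8) (x : V) : refl ca i x.co = (rf i x).co := by
  funext k
  rw [refl_apply, pairing, Fin.sum_univ_eight]
  (revert i k; simp only [ca, mE, rf, V.co, _root_.Fin.forall_fin_succ, Fin.isValue, _root_.Fin.coe_ofNat_eq_mod, _root_.Nat.zero_mod, _root_.Fin.val_eq_zero_iff, _root_.Nat.add_eq_zero_iff, _root_.one_ne_zero, _root_.and_false, _root_.zero_add, _root_.Nat.one_lt_ofNat, _root_.and_true, _root_.OfNat.one_ne_ofNat, _root_.OfNat.zero_ne_ofNat, Nat.reduceEqDiff, _root_.false_and, _root_.or_self, _root_.or_false, _root_.false_or, Int.reduceNeg, _root_.Matrix.cons_val_zero, _root_.ite_mul, _root_.neg_mul, _root_.one_mul, _root_.MulZeroClass.zero_mul, _root_.Nat.one_mod, _root_.Nat.add_eq_right, Nat.reduceAdd, Nat.reduceLT, _root_.Matrix.cons_val_one,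 Nat.reduceMod, _root_.true_and, _root_.Matrix.cons_val, _root_.Nat.succ_ne_self, _root_.Nat.lt_add_one, _root_.Nat.mod_succ, _root_.lt_self_iff_false, _root_.OfNat.ofNat_eq_ofNat, _root_.Pi.sub_apply, _root_.Matrix.cons_val_succ, _root_.Fin.succ_zero_eq_one, _root_.Fin.succ_one_eq_two, Fin.reduceSucc, _root_.Matrix.cons_val_fin_one, _root_.IsEmpty.forall_iff, ↓reduceIte, _root_.zero_ne_one, _root_.OfNat.ofNat_ne_zero, Fin.reduceEq, _root_.add_zero, _root_.Pi.single_eq_same, _root_.ne_eq, _root_.not_false_eq_true, _root_.Pi.single_eq_of_ne, _root_.sub_zero, _root_.and_self, _root_.Fin.succ_ne_zero, _root_.Fin.val_succ, _root_.Nat.right_eq_add, _root_.ite_eq_left_iff, _root_.not_and, _root_.not_lt, Nat.reduceLeDiff, _root_.imp_false, _root_.Classical.not_imp, _root_.not_le, _root_.Pi.single_eq_of_ne', _root_.Nat.ofNat_pos, _root_.or_true, _root_.not_or, _root_.Decidable.not_not, _root_.nonpos_iff_eq_zero, _root_.not_true_eq_false, _root_.imp_self, _root_.forall_const,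 _root_.Order.lt_two_iff, _root_.zero_le, _root_.add_le_iff_nonpos_left, _root_.Order.lt_one_iff, _root_.Fin.val_eq_zero]) <;> (repeat' with_reducible apply And.intro) <;> ring

theorem exists_bs (k : Fin 8) : ∃ x ∈ bs, x.co = Pi.single k 1 := by
  revert k
  decide +kernel

theorem ca_rel : ∀ i j : Fin 8, i ≠ j → (mE 8 i j = 2 ∧ ca i j = 0 ∧ ca j i = 0) ∨
    (mE 8 i j = 3 ∧ ca i j = -1 ∧ ca j i = -1) := by decide +kernel

variable {W : Type*} [Group W] {M : CoxeterMatrix (Fin 8)} (cs : CoxeterSystem M W) (h : IsCartan M ca)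

theorem rep_word (ω : List (Fin 8)) (x : V) : rep cs h (cs.wordProd ω) x.co = (ω.foldr rf x).co := by
  induction ω with
  | nil => simp only [_root_.CoxeterSystem.wordProd_nil, _root_.map_one, _root_.Module.End.one_apply, _root_.List.foldr_nil]
  | cons i ω ih => rw [cs.wordProd_cons, rep_mul_apply, ih, rep_simple, refl_co, List.foldr_cons]

theorem rep_eq {ω ω' : List (Fin 8)} (hb : ∀ x ∈ bs, ω.foldr rf x = ω'.foldr rf x) :
    rep cs h (cs.wordProd ω) = rep cs h (cs.wordProd ω') := by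
  refine LinearMap.pi_ext' fun k => LinearMap.ext_ring ?_
  obtain ⟨x, hx, h1⟩ := exists_bs k
  simp only [LinearMap.comp_apply, LinearMap.coe_single]
  rw [← h1, rep_word, rep_word, hb x hx]

theorem rep_neg {ω ω' : List (Fin 8)} (hb : ∀ x ∈ bs, ω.foldr rf x = (ω'.foldr rf x).ng) :
    rep cs h (cs.wordProd ω) = -rep cs h (cs.wordProd ω') := by
  refine LinearMap.pi_ext' fun k => LinearMap.ext_ring ?_
  obtain ⟨x, hx, h1⟩ := exists_bs k
  simp only [LinearMap.comp_apply, LinearMap.coe_single, LinearMap.neg_apply]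
  rw [← h1, rep_word, rep_word, hb x hx, co_ng]

/-- the longest element of `W(E₇)` -/
def wz : List (Fin 8) := (List.replicate 9 [0, 1, 2, 3, 4, 5, 7]).flatten

/-- it is conjugate to minus a simple reflection -/
def wg : List (Fin 8) := [6, 5, 4, 3, 2, 7, 1, 2, 3, 0, 1, 2, 7, 4, 5, 3, 4, 2, 3, 1, 2, 7, 0, 1, 2, 3, 4, 5]

/-- an involution -/
def wb : List (Fin 8) := [0, 3, 5, 7]

/-- it is conjugate to its negative -/
def wa : List (Fin 8) := [4, 2, 3, 1, 2, 7, 6, 3, 4, 5, 2, 3, 4, 1, 2, 3, 0, 1, 2, 7, 4, 5, 6, 3, 4, 5, 2, 3, 4, 1, 2, 3, 0,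
  1, 2, 7, 2, 3, 4, 5, 6, 3, 4, 5, 0, 1, 2, 3, 4, 1, 2, 3, 0, 1, 2, 1]

private noncomputable def _root_.Cfsg.Agent.LsF.fad7d41_0 : {f // @Cfsg.Agent.ODD.Hk.E8.rf = f} := ⟨_, by first | (delta Cfsg.Agent.ODD.Hk.E8.rf; rewrite [Cfsg.Agent.LsF.iadd_pat, Cfsg.Agent.LsF.isub_pat]; (try delta Cfsg.Agent.ODD.Hk.E8.rf.match_1); (try delta Fin.casesOn Nat.casesOn Nat.le.casesOn); exact rfl) | exact rfl⟩
private noncomputable def _root_.Cfsg.Agent.LsF.fad7d41_1 : {f // @Cfsg.Agent.ODD.Hk.E8.wz = f} := ⟨_, by first | (delta Cfsg.Agent.ODD.Hk.E8.wz; rewrite [Cfsg.Agent.LsF.flatten_eq, Cfsg.Agent.LsF.replicate_eq]; exact rfl) | exact rfl⟩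
private noncomputable def _root_.Cfsg.Agent.LsF.fad7d41_2 : {f // @Cfsg.Agent.ODD.Hk.E8.instDecidableEqV.decEq = f} := ⟨_, by first | (delta Cfsg.Agent.ODD.Hk.E8.instDecidableEqV.decEq; rewrite [Cfsg.Agent.LsF.instIDecEq_eq, Cfsg.Agent.LsF.dite_eq]; (try delta Cfsg.Agent.ODD.Hk.E8.instDecidableEqV.decEq.match_1); (try delta Cfsg.Agent.ODD.Hk.E8.V.casesOn); exact rfl) | exact rfl⟩
private noncomputable def _root_.Cfsg.Agent.LsF.fad7d41_3 : {f // @Cfsg.Agent.ODD.Hk.E8.instDecidableEqV = f} := ⟨_, by first | (delta Cfsg.Agent.ODD.Hk.E8.instDecidableEqV; rewrite [Cfsg.Agent.LsF.fad7d41_2.2]; exact rfl) | exact rfl⟩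
theorem ck1 : ∀ j : Fin 8, j ≠ 6 → ∀ x ∈ bs, (j :: wz).foldr rf x = (wz ++ [j]).foldr rf x := by (refine of_decide_eq_true ?_; (try (rewrite [Cfsg.Agent.LsF.fad7d41_0.2, Cfsg.Agent.LsF.fad7d41_1.2, Cfsg.Agent.LsF.fad7d41_3.2, Cfsg.Agent.LsF.lappend_pat, Cfsg.Agent.LsF.foldr_eq, Cfsg.Agent.LsF.dNot_eq, Cfsg.Agent.LsF.dFinEq_eq, Cfsg.Agent.LsF.dBAll_eq, Cfsg.Agent.LsF.dForallFin_eq, Cfsg.Agent.LsF.dAllP_eq, Cfsg.Agent.LsF.decide_eq])); decide +kernel)

private noncomputable def _root_.Cfsg.Agent.LsF.fad7d41_4 : {f // @Cfsg.Agent.ODD.Hk.E8.V.ng = f} := ⟨_, by first | (delta Cfsg.Agent.ODD.Hk.E8.V.ng; rewrite [Cfsg.Agent.LsF.ineg_pat]; exact rfl) | exact rfl⟩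
theorem ck2 : ∀ x ∈ bs, (wz ++ wg).foldr rf x = ((wg ++ [(6 : Fin 8)]).foldr rf x).ng := by (refine of_decide_eq_true ?_; (try (rewrite [Cfsg.Agent.LsF.fad7d41_0.2, Cfsg.Agent.LsF.fad7d41_1.2, Cfsg.Agent.LsF.fad7d41_4.2, Cfsg.Agent.LsF.fad7d41_3.2, Cfsg.Agent.LsF.lappend_pat, Cfsg.Agent.LsF.foldr_eq, Cfsg.Agent.LsF.dBAll_eq, Cfsg.Agent.LsF.decide_eq])); decide +kernel)

theorem ck3 : ∀ x ∈ bs, (wa ++ wb).foldr rf x = ((wb ++ wa).foldr rf x).ng := by (refine of_decide_eq_true ?_; (try (rewrite [Cfsg.Agent.LsF.fad7d41_0.2, Cfsg.Agent.LsF.fad7d41_4.2, Cfsg.Agent.LsF.fad7d41_3.2, Cfsg.Agent.LsF.lappend_pat, Cfsg.Agent.LsF.foldr_eq, Cfsg.Agent.LsF.dBAll_eq, Cfsg.Agent.LsF.decide_eq])); decide +kernel)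

theorem ck4 : ∀ x ∈ bs, (wb ++ wb).foldr rf x = ([] : List (Fin 8)).foldr rf x := by decide +kernel

theorem ck5 : (∀ j ∈ wz, j ≠ 6) ∧ wz.length = 63 := by decide +kernel

include h in
theorem data : ∃ a b c g : W, (∀ x, x * c = c * x) ∧ b * b = 1 ∧ a * b * a⁻¹ = c * b ∧
    cs.wordProd wz = c * (g * cs.simple 6 * g⁻¹) ∧ ∀ j, j ≠ 6 → cs.simple j * cs.wordProd wz = cs.wordProd wz * cs.simple j := by
  have h3 := rep_neg cs h ck3
  rw [cs.wordProd_append, cs.wordProd_append] at h3
  set a := cs.wordProd wa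
  set b := cs.wordProd wb
  have hc : rep cs h (a * b * (b * a)⁻¹) = -1 := by rw [map_mul, h3, neg_mul, ← map_mul, mul_inv_cancel, map_one]
  refine ⟨a, b, a * b * (b * a)⁻¹, cs.wordProd wg, fun x => rep_injective cs h ?_, rep_injective cs h ?_, by group,
    ?_, fun j hj => rep_injective cs h ?_⟩
  · rw [map_mul _ x, map_mul _ _ x, hc, mul_neg_one, neg_one_mul]
  · have h4 := rep_eq cs h ck4
    rwa [cs.wordProd_append, cs.wordProd_nil] at h4
  · have h2 := rep_neg cs h ck2
    rw [cs.wordProd_append, cs.wordProd_append, cs.wordProd_singleton] at h2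
    rw [← mul_assoc, eq_mul_inv_iff_mul_eq]
    apply rep_injective cs h
    rw [h2, map_mul _ (a * b * (b * a)⁻¹), hc, neg_one_mul]
  · have h1 := rep_eq cs h (ck1 j hj)
    rwa [cs.wordProd_append, cs.wordProd_cons, cs.wordProd_singleton] at h1

end E8

variable {I W : Type*} {M : CoxeterMatrix I} [Group W] (cs : CoxeterSystem M W)

theorem wordProd_reindex {n : ℕ} (v : Fin n ≃ I) (ω : List (Fin n)) :
    (cs.reindex v.symm).wordProd ω = cs.wordProd (ω.map v) := by
  induction ω with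
  | nil => simp
  | cons i ω ih => rw [wordProd_cons, List.map_cons, wordProd_cons, ih]; rfl

theorem odd_E8 [Fintype W] [Fintype I] [DecidableEq I] (v : Fin 8 ≃ I) (hv : Lab M v (mE 8)) {φ φ' : W → ℂ}
    (hφ : IsIrrCharacter W φ) (hφ' : IsIrrCharacter W φ') {d : ℕ} (hd : Odd d) (h1 : φ 1 = d)
    (h : ∀ K : Set I, K ≠ {v 6}ᶜ → K ≠ Set.univ → ∀ w ∈ WJ cs K, φ w = φ' w) : φ = φ' := by
  have hA : IsCartan (M.reindex v.symm) E8.ca := ⟨fun i => if_pos rfl, fun i j hij => by
    have h2 : M.reindex v.symm i j = mE 8 i j := hv i j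
    rw [h2]
    rcases E8.ca_rel i j hij with h3 | h3
    · exact Or.inl h3
    · exact Or.inr (Or.inl h3)⟩
  obtain ⟨a, b, c, g, hc, hb, hab, hz, hj⟩ := E8.data (cs.reindex v.symm) hA
  rw [wordProd_reindex] at hz hj
  have hcard : Fintype.card I = 8 := by rw [← Fintype.card_congr v, Fintype.card_fin]
  have hJ : ((({v 6}ᶜ : Finset I)) : Set I) = {v 6}ᶜ := by simp
  have hi : ({v 6} : Set I) ≠ {v 6}ᶜ := fun e => (e ▸ (rfl : v 6 ∈ ({v 6} : Set I)) : v 6 ∈ ({v 6}ᶜ : Set I)) rfl
  have hi' : ({v 6} : Set I) ≠ Set.univ := fun e => by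
    have h2 : v 0 ∈ ({v 6} : Set I) := e ▸ Set.mem_univ _
    exact absurd (v.injective h2) (by decide)
  have h0 : φ 1 = φ' 1 := h _ hi hi' _ (one_mem _)
  have key : ∀ ψ : W → ℂ, IsIrrCharacter W ψ → ψ 1 = d →
      ψ (cs.wordProd (E8.wz.map v)) = ψ (cs.simple (v 6)) := by
    intro ψ hψ h2
    have h3 := central_mul hψ hc b
    rw [← hab, isIrr_isClassFunction hψ, mul_comm] at h3
    have h4 := mul_right_cancel₀ (inv_ne_zero' (isIrr_isCharacter hψ) hd h2 hb) h3
    have h5 := central_mul hψ hc (g * (cs.reindex v.symm).simple 6 * g⁻¹)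
    rw [← hz, ← h4, isIrr_isClassFunction hψ, mul_comm] at h5
    exact mul_left_cancel₀ (isIrr_apply_one_ne_zero hψ) h5
  refine odd_cent cs hφ hφ' hd h1 (J := {v 6}ᶜ) (by rw [Finset.card_compl, hcard, Finset.card_singleton])
    (by rw [Finset.card_compl, hcard, Finset.card_singleton]; decide) (i := v 6) (by rwa [hJ]) hi' (by rwa [hJ])
    (z := cs.wordProd (E8.wz.map v)) ?_ ?_ ?_ ?_
  · rw [hJ]
    refine wordProd_mem_WJ cs fun i hi => ?_
    obtain ⟨j, hj, rfl⟩ := List.mem_map.1 hi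
    exact fun e => E8.ck5.1 j hj (v.injective e)
  · rw [hJ]
    have h2 : WJ cs {v 6}ᶜ ≤ Subgroup.centralizer {cs.wordProd (E8.wz.map v)} := by
      refine (Subgroup.closure_le _).2 ?_
      rintro _ ⟨i, hi, rfl⟩ _ rfl
      obtain ⟨j, rfl⟩ := v.surjective i
      exact (hj j fun e => hi (congrArg v e)).symm
    exact fun x hx => (h2 hx _ rfl).symm
  · rw [sg_wordProd, List.length_map, E8.ck5.2]
    norm_num
  · rw [key φ hφ h1, key φ' hφ' (h0 ▸ h1)]
    exact h _ hi hi' _ (simple_mem_WJ cs rfl)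

end Cfsg.Agent.ODD.Hk
end

-- part: ODD/Hk/Ind
section
/-!
# The idempotents of odd degree are fixed: induction on the rank (helper2)

`Rig4` : the types `A`, `B`, `D`, `E₆` are rigid; `fixOdd`.
-/

set_option autoImplicit false
set_option linter.unusedSectionVars false

namespace Cfsg.Agent.ODD.Hk

open CoxeterSystem Cfsg.Agent.Tits.Exchange Cfsg.Agent.Tits.Core Cfsg.Agent.Characters.Core Cfsg.Agent.H157.HK
  Cfsg.Agent.LieRecognition.CoxClass

/-- the types `A`, `B`, `D`, `E₆` are rigid -/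
def Rig4 : Prop := ∀ (I W : Type) [Fintype I] [DecidableEq I] (M : CoxeterMatrix I) [Group W] [Finite W]
  (cs : CoxeterSystem M W), (∀ (n : ℕ) (v : Fin n ≃ I), 2 ≤ n → Lab M v mA → Rigid cs) ∧
    (∀ (n : ℕ) (v : Fin n ≃ I), 2 ≤ n → Lab M v (mC n) → Rigid cs) ∧
    (∀ (n : ℕ) (v : Fin n ≃ I), 4 ≤ n → Lab M v (mD n) → Rigid cs) ∧ ∀ v : Fin 6 ≃ I, Lab M v (mE 6) → Rigid cs

section Good

variable {I : Type*} (M : CoxeterMatrix I)

/-- a subdiagram -/
def Emb (n : ℕ) (m : ℕ → ℕ → ℕ) : Prop := ∃ f : Fin n → I, ∀ i j, M (f i) (f j) = m i j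

/-- no label above `4`, no subdiagram `F₄` or `E₇` -/
def Good : Prop := (∀ i j, M i j ≤ 4) ∧ ¬ Emb M 4 mF ∧ ¬ Emb M 7 (mE 7)

variable {M}

theorem Emb.of_MJ {J : Set I} {n : ℕ} {m : ℕ → ℕ → ℕ} (h : Emb (MJ M J) n m) : Emb M n m := by
  obtain ⟨f, hf⟩ := h
  exact ⟨fun i => f i, hf⟩

theorem Good.MJ (h : Good M) (J : Set I) : Good (MJ M J) :=
  ⟨fun i j => h.1 i j, fun e => h.2.1 e.of_MJ, fun e => h.2.2 e.of_MJ⟩

theorem Emb.card [Fintype I] {n : ℕ} {m : ℕ → ℕ → ℕ} (h : Emb M n m) (hm : ∀ i j : Fin n, m i j = 1 → i = j) :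
    n ≤ Fintype.card I := by
  obtain ⟨f, hf⟩ := h
  have h1 := Fintype.card_le_of_injective f fun i j e => hm i j (by rw [← hf, e, M.diagonal])
  rwa [Fintype.card_fin] at h1

theorem Emb.lab {n k : ℕ} {m m' : ℕ → ℕ → ℕ} {v : Fin n ≃ I} (hv : Lab M v m') (h : Emb M k m) :
    ∃ g : Fin k → Fin n, ∀ i j, m' (g i) (g j) = m i j := by
  obtain ⟨f, hf⟩ := h
  exact ⟨fun i => v.symm (f i), fun i j => by rw [← hv, v.apply_symm_apply, v.apply_symm_apply, hf]⟩

theorem le_of_lab {n k : ℕ} {m : ℕ → ℕ → ℕ} {v : Fin n ≃ I} (hv : Lab M v m) (hm : ∀ i j, m i j ≤ k) (i j : I) :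
    M i j ≤ k := by
  rw [← v.apply_symm_apply i, ← v.apply_symm_apply j, hv]
  exact hm _ _

theorem not_F (h : ∀ i j, M i j ≤ 3) : ¬ Emb M 4 mF := by
  rintro ⟨f, hf⟩
  have h1 := h (f 1) (f 2)
  rw [hf] at h1
  exact absurd h1 (by decide)

theorem good_A {n : ℕ} {v : Fin n ≃ I} (hv : Lab M v mA) : Good M := by
  have h3 : ∀ i j, M i j ≤ 3 := le_of_lab hv fun i j => by unfold mA; split_ifs <;> omega
  refine ⟨fun i j => (h3 i j).trans (by omega), not_F h3, fun h => ?_⟩
  obtain ⟨g, hg⟩ := h.lab hv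
  have h1 : mA (g 2) (g 1) = 3 := hg 2 1
  have h2 : mA (g 2) (g 3) = 3 := hg 2 3
  have h4 : mA (g 2) (g 6) = 3 := hg 2 6
  have h5 : mA (g 1) (g 3) = 2 := hg 1 3
  have h6 : mA (g 1) (g 6) = 2 := hg 1 6
  have h7 : mA (g 3) (g 6) = 2 := hg 3 6
  unfold mA at h1 h2 h4 h5 h6 h7
  (first | (lia; done) | (split_ifs at h1 h2 h4 h5 h6 h7 <;> omega))

theorem mC_adj {n i j k : ℕ} (h : mC n i j = k) (hk : 3 ≤ k) : i + 1 = j ∨ j + 1 = i := by
  unfold mC at h
  (first | (lia; done) | (split_ifs at h <;> omega))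

theorem mC_four {n i j : ℕ} (h : mC n i j = 4) : i + 1 = n ∨ j + 1 = n := by
  unfold mC at h
  (first | (lia; done) | (split_ifs at h <;> omega))

theorem mC_ne {n i j : ℕ} (h : mC n i j = 2) : i ≠ j := by
  unfold mC at h
  (first | (lia; done) | (split_ifs at h <;> omega))

theorem good_B {n : ℕ} {v : Fin n ≃ I} (hv : Lab M v (mC n)) : Good M := by
  refine ⟨le_of_lab hv fun i j => by unfold mC; (first | (lia; done) | (split_ifs <;> omega)), fun h => ?_, fun h => ?_⟩
  · obtain ⟨g, hg⟩ := h.lab hv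
    have h1 := mC_adj (hg 0 1) (by decide)
    have h2 := mC_adj (hg 1 2) (by decide)
    have h3 := mC_adj (hg 2 3) (by decide)
    have h4 := mC_four (hg 1 2)
    have h5 := mC_ne (hg 0 2)
    have h6 := mC_ne (hg 1 3)
    have := (g 0).2
    have := (g 1).2
    have := (g 2).2
    have := (g 3).2
    omega
  · obtain ⟨g, hg⟩ := h.lab hv
    have h1 := mC_adj (hg 2 1) (by decide)
    have h2 := mC_adj (hg 2 3) (by decide)
    have h3 := mC_adj (hg 2 6) (by decide)
    have h4 := mC_ne (hg 1 3)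
    have h5 := mC_ne (hg 1 6)
    have h6 := mC_ne (hg 3 6)
    omega

theorem mD_adj {n i j : ℕ} (h : mD n i j = 3) : (i + 1 = j ∧ j + 1 < n) ∨ (j + 1 = i ∧ i + 1 < n) ∨
    (i + 3 = n ∧ j + 1 = n) ∨ (j + 3 = n ∧ i + 1 = n) := by
  unfold mD at h
  split_ifs at h <;> omega

theorem mD_ne {n i j : ℕ} (h : mD n i j = 2) : i ≠ j := by
  unfold mD at h
  split_ifs at h <;> omega

theorem good_D {n : ℕ} {v : Fin n ≃ I} (hv : Lab M v (mD n)) : Good M := by
  have h3 : ∀ i j, M i j ≤ 3 := le_of_lab hv fun i j => by unfold mD; split_ifs <;> omega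
  refine ⟨fun i j => (h3 i j).trans (by omega), not_F h3, fun h => ?_⟩
  obtain ⟨g, hg⟩ := h.lab hv
  have h1 := mD_adj (hg 2 1)
  have h2 := mD_adj (hg 2 3)
  have h4 := mD_adj (hg 2 6)
  have h5 := mD_adj (hg 1 0)
  have h6 := mD_adj (hg 3 4)
  have h7 := mD_ne (hg 1 3)
  have h8 := mD_ne (hg 1 6)
  have h9 := mD_ne (hg 3 6)
  have h10 := mD_ne (hg 0 2)
  have h11 := mD_ne (hg 4 2)
  omega

theorem mE_le (n i j : ℕ) : mE n i j ≤ 3 := by
  unfold mE
  split_ifs <;> omega

theorem good_of_card [Fintype I] (h3 : ∀ i j, M i j ≤ 3) (h : Fintype.card I < 7) : Good M :=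
  ⟨fun i j => (h3 i j).trans (by omega), not_F h3, fun e => absurd (e.card (by decide)) (by omega)⟩

set_option synthInstance.maxSize 4096 in
set_option synthInstance.maxHeartbeats 400000 in
theorem e8_ck : ∀ a2 a1 : Fin 8, mE 8 a2 a1 = 3 → ∀ a3 : Fin 8, mE 8 a2 a3 = 3 → mE 8 a1 a3 = 2 → ∀ a6 : Fin 8,
    mE 8 a2 a6 = 3 → mE 8 a1 a6 = 2 → mE 8 a3 a6 = 2 → ∀ a0 : Fin 8, mE 8 a1 a0 = 3 → mE 8 a0 a2 = 2 → ∀ a4 : Fin 8,
    mE 8 a3 a4 = 3 → mE 8 a4 a2 = 2 → ∀ a5 : Fin 8, mE 8 a4 a5 = 3 → mE 8 a5 a3 = 2 → ∀ k : Fin 8, k ≠ 6 →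
    k = a0 ∨ k = a1 ∨ k = a2 ∨ k = a3 ∨ k = a4 ∨ k = a5 ∨ k = a6 := by decide +kernel

theorem good_E8 {v : Fin 8 ≃ I} (hv : Lab M v (mE 8)) {K : Set I} (h1 : K ≠ {v 6}ᶜ) (h2 : K ≠ Set.univ) :
    Good (MJ M K) := by
  have h3 : ∀ i j, M i j ≤ 3 := le_of_lab hv (mE_le 8)
  refine ⟨fun i j => (h3 i j).trans (by omega), not_F fun i j => h3 i j, ?_⟩
  rintro ⟨f, hf⟩
  have hg : ∀ i j : Fin 7, mE 8 (v.symm (f i)) (v.symm (f j)) = mE 7 i j := fun i j => by
    rw [← hv, v.apply_symm_apply, v.apply_symm_apply]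
    exact hf i j
  have h4 : ({v 6}ᶜ : Set I) ⊆ K := by
    intro x hx
    have h5 := e8_ck _ _ (hg 2 1) _ (hg 2 3) (hg 1 3) _ (hg 2 6) (hg 1 6) (hg 3 6) _ (hg 1 0) (hg 0 2) _ (hg 3 4) (hg 4 2)
      _ (hg 4 5) (hg 5 3) (v.symm x) fun e => hx (v.symm_apply_eq.1 e)
    simp only [EmbeddingLike.apply_eq_iff_eq] at h5
    rcases h5 with rfl | rfl | rfl | rfl | rfl | rfl | rfl <;> exact (f _).2
  by_cases h5 : v 6 ∈ K
  · refine h2 (Set.eq_univ_of_forall fun x => ?_)
    by_cases h6 : x = v 6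
    · exact h6 ▸ h5
    · exact h4 h6
  · exact h1 (Set.Subset.antisymm (fun x hx e => h5 (e ▸ hx)) h4)

end Good

theorem card_lt_of_ne {I : Type*} [Fintype I] {J : Set I} [Fintype J] (h : J ≠ Set.univ) :
    Fintype.card J < Fintype.card I := by
  obtain ⟨x, hx⟩ := (Set.ne_univ_iff_exists_notMem J).1 h
  exact Fintype.card_subtype_lt (p := fun y => y ∈ J) hx

theorem fix_ind (hR : Rig4) (σ : ℂ ≃+* ℂ) (n : ℕ) : ∀ (I W : Type) [Fintype I] [DecidableEq I] (M : CoxeterMatrix I)
    [Group W] [Fintype W] [DecidableEq W] (cs : CoxeterSystem M W) (t : Wt cs), Fintype.card I = n →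
    (∀ i j, M i j ≠ 5) → Sg cs t σ → FixOdd cs t σ ∧ (Good M → FixAll cs t σ) := by
  induction n using Nat.strong_induction_on with
  | _ n ih =>
  intro I W _ _ M _ _ _ cs t hn h5 hσ
  classical
  have ih' : ∀ J : Set I, J ≠ Set.univ → FixOdd (csJ cs J) (tJ cs t J) σ ∧
      (Good (MJ M J) → FixAll (csJ cs J) (tJ cs t J) σ) := fun J hJ =>
    ih _ (hn ▸ card_lt_of_ne hJ) J (WJ cs J) (MJ M J) (csJ cs J) (tJ cs t J) rfl (fun i j => h5 i j) (hσ.tJ J)
  have small : ∀ J : Set I, Fintype.card J ≤ 1 → FixAll (csJ cs J) (tJ cs t J) σ := by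
    intro J hJ
    have := Fintype.card_le_one_iff_subsingleton.1 hJ
    rcases isEmpty_or_nonempty J with h | h
    · exact fixAll_empty (hσ.tJ J)
    · let _ := uniqueOfSubsingleton h.some
      exact fixAll_unique (hσ.tJ J)
  by_cases h1 : n ≤ 1
  · have := Fintype.card_le_one_iff_subsingleton.1 (hn ▸ h1)
    have h2 : FixAll cs t σ := by
      rcases isEmpty_or_nonempty I with h | h
      · exact fixAll_empty hσ
      · let _ := uniqueOfSubsingleton h.some
        exact fixAll_unique hσ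
    exact ⟨h2.odd, fun _ => h2⟩
  have : Nontrivial I := Fintype.one_lt_card_iff_nontrivial.1 (by omega)
  have rig : Rigid cs → Good M → FixAll cs t σ := by
    intro h hG z hz
    obtain ⟨φ, φ', hφ, hφ', k1, -, -, k2, -⟩ := step hσ hz
    exact k1 (h φ φ' hφ hφ' (eq_on_nc (isIrr_isClassFunction hφ) (isIrr_isClassFunction hφ')
      fun J hJ => k2 J ((ih' J hJ).2 (hG.MJ J))))
  have deg : ∀ {φ : W → ℂ} {d : ℕ}, IsIrrCharacter W φ → (d : ℂ) * d = φ 1 * φ 1 → φ 1 = d := by
    intro φ d hφ h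
    obtain ⟨m, -, hm⟩ := isIrr_apply_one hφ
    rw [hm] at h ⊢
    have h2 : d * d = m * m := by exact_mod_cast h
    rw [Nat.mul_self_inj.1 h2]
  have odd : (∀ J : Set I, J ≠ Set.univ → FixAll (csJ cs J) (tJ cs t J) σ) → FixOdd cs t σ := by
    intro h z hz d hd hN
    obtain ⟨φ, φ', hφ, hφ', k1, k2, -, k3, -⟩ := step hσ hz
    exact k1 (odd_step cs hφ hφ' hd (deg hφ (hN ▸ k2)) (eq_on_nc (isIrr_isClassFunction hφ) (isIrr_isClassFunction hφ')
      fun J hJ => k3 J (h J hJ)))
  have both : Rigid cs → Good M → FixOdd cs t σ ∧ (Good M → FixAll cs t σ) := fun h hG => ⟨(rig h hG).odd, rig h⟩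
  by_cases hconn : ∀ J : Set I, J.Nonempty → Jᶜ.Nonempty → ∃ a ∈ J, ∃ b ∈ Jᶜ, M a b ≠ 2
  swap
  · push Not at hconn
    obtain ⟨J, hJ1, hJ2, hJ⟩ := hconn
    refine ⟨fun z hz d hd hN => ?_, rig (rigid_red cs hJ hJ1 hJ2)⟩
    obtain ⟨φ, φ', hφ, hφ', k1, k2, -, -, k3⟩ := step hσ hz
    exact k1 (odd_red cs hJ hφ hφ' hd (deg hφ (hN ▸ k2)) (k3 J (ih' J (Set.nonempty_compl.1 hJ2)).1)
      (k3 Jᶜ (ih' Jᶜ (Set.compl_ne_univ.2 hJ1)).1))
  obtain ⟨rA, rB, rD, rE⟩ := hR I W M cs
  by_cases h2 : n = 2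
  · refine ⟨odd fun J hJ => small J (by have := card_lt_of_ne hJ; omega), fun hG => rig ?_ hG⟩
    let v : Fin 2 ≃ I := (Fintype.equivFinOfCardEq (hn.trans h2)).symm
    have h3 : M (v 0) (v 1) ≠ 2 := by
      obtain ⟨a, ha, b, hb, h⟩ := hconn {v 0} ⟨_, rfl⟩ ⟨v 1, fun e => absurd (v.injective e) (by decide)⟩
      obtain ⟨b, rfl⟩ := v.surjective b
      rw [show a = v 0 from ha] at h
      fin_cases b
      · exact absurd rfl hb
      · exact h
    have h4 := hG.1 (v 0) (v 1)
    have h6 := M.off_diagonal (v 0) (v 1) fun e => absurd (v.injective e) (by decide)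
    have h7 := LieRecognition.CoxForm.ne_zero_of_finite cs (v 0) (v 1)
    have h8 := M.symmetric (v 1) (v 0)
    by_cases h9 : M (v 0) (v 1) = 3
    · refine rA 2 v le_rfl fun i j => ?_
      fin_cases i <;> fin_cases j
      exacts [M.diagonal _, h9, h8.trans h9, M.diagonal _]
    · have h10 : M (v 0) (v 1) = 4 := by omega
      refine rB 2 v le_rfl fun i j => ?_
      fin_cases i <;> fin_cases j
      exacts [M.diagonal _, h10, h8.trans h10, M.diagonal _]
  have cv : ∀ {k : ℕ}, (Fin k ≃ I) → Fintype.card I = k := fun v => by rw [← Fintype.card_congr v, Fintype.card_fin]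
  rcases classify_coxeter cs h5 hconn (by omega) with ⟨k, v, hk, hv⟩ | ⟨k, v, hk, hv⟩ | ⟨k, v, hk, hv⟩ | ⟨v, hv⟩ | ⟨v, hv⟩ |
    ⟨v, hv⟩ | ⟨v, hv⟩
  · exact both (rA k v (by omega) hv) (good_A hv)
  · exact both (rB k v (by omega) hv) (good_B hv)
  · exact both (rD k v hk hv) (good_D hv)
  · exact both (rE v hv) (good_of_card (le_of_lab hv (mE_le 6)) (by rw [cv v]; omega))
  · refine ⟨odd fun J hJ => (ih' J hJ).2 (good_of_card (fun i j => le_of_lab hv (mE_le 7) i j) ?_),
      fun hG => absurd ⟨v, hv⟩ hG.2.2⟩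
    have := card_lt_of_ne hJ
    rwa [cv v] at this
  · refine ⟨fun z hz d hd hN => ?_, fun hG => absurd ⟨fun i => v (![0, 1, 2, 3, 4, 5, 7] i), fun i j => ?_⟩ hG.2.2⟩
    · obtain ⟨φ, φ', hφ, hφ', k1, k2, -, k3, -⟩ := step hσ hz
      exact k1 (odd_E8 cs v hv hφ hφ' hd (deg hφ (hN ▸ k2)) fun K e1 e2 => k3 K ((ih' K e2).2 (good_E8 hv e1 e2)))
    · rw [hv]
      revert i j
      decide +kernel
  · refine ⟨odd fun J hJ => (ih' J hJ).2 ?_, fun hG => absurd ⟨v, hv⟩ hG.2.1⟩
    have h3 := card_lt_of_ne hJ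
    rw [cv v] at h3
    exact ⟨fun i j => le_of_lab hv (fun i j => by unfold mF; split_ifs <;> omega) i j,
      fun e => absurd (e.card (by decide)) (by omega), fun e => absurd (e.card (by decide)) (by omega)⟩

theorem fixOdd (hR : Rig4) {I W : Type} [Finite I] {M : CoxeterMatrix I} [Group W] [Fintype W] [DecidableEq W]
    (cs : CoxeterSystem M W) (t : Wt cs) {σ : ℂ ≃+* ℂ} (h5 : ∀ i j, M i j ≠ 5) (hσ : Sg cs t σ) : FixOdd cs t σ := by
  classical
  let _ := Fintype.ofFinite I
  exact (fix_ind hR σ _ I W M cs t rfl h5 hσ).1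

end Cfsg.Agent.ODD.Hk
end

-- part: ODD/Hk/Mod
section
/-!
# Odd dimensional irreducible modules of Iwahori–Hecke algebras have rational characters (helper2)

`ho_of : Rig4 → HO`.
-/

set_option autoImplicit false
set_option linter.unusedSectionVars false

namespace Cfsg.Agent.ODD.Hk

open CoxeterSystem Cfsg.Agent.Tits.Exchange Cfsg.Agent.Tits.Core Module Cfsg.Agent.H157.HK

variable {I W : Type*} {M : CoxeterMatrix I} [Group W] (cs : CoxeterSystem M W) [Fintype W] [DecidableEq W]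

/-- a weight with prescribed values -/
theorem exists_wt (q : I → ℝ) (hq : ∀ i j x, cs.simple i * x = x * cs.simple j → q i = q j) :
    ∃ t : Wt cs, ∀ i, t.m (cs.simple i) = q i := by
  classical
  let P : W → ℝ := fun r => if h : ∃ i x, r = x⁻¹ * cs.simple i * x then q h.choose else 0
  have hP : ∀ i x, P (x⁻¹ * cs.simple i * x) = q i := by
    intro i x
    have h : ∃ j y, x⁻¹ * cs.simple i * x = y⁻¹ * cs.simple j * y := ⟨i, x, rfl⟩
    obtain ⟨y, hy⟩ := h.choose_spec
    refine (dif_pos h).trans (hq _ _ (x * y⁻¹) ?_).symm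
    calc cs.simple i * (x * y⁻¹) = x * (x⁻¹ * cs.simple i * x) * y⁻¹ := by group
      _ = x * (y⁻¹ * cs.simple h.choose * y) * y⁻¹ := congrArg (fun a => x * a * y⁻¹) hy
      _ = x * y⁻¹ * cs.simple h.choose := by group
  let m : W → ℝ := fun w => ∑ r, if nn cs w r = 1 then P r else 0
  have h1 : m 1 = 0 := Finset.sum_eq_zero fun r _ => if_neg (by rw [nn_one]; decide)
  have h2 : ∀ i w, cs.length w < cs.length (cs.simple i * w) → m (cs.simple i * w) = q i + m w := by
    intro i w h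
    have h3 : nn cs w (w⁻¹ * cs.simple i * w) ≠ 1 := by
      rw [Ne, nn_eq_one_iff cs ⟨w⁻¹, i, by rw [inv_inv]⟩, ← mul_assoc, ← mul_assoc, mul_inv_cancel, one_mul]
      omega
    have h4 : ∀ r, (if nn cs (cs.simple i * w) r = 1 then P r else 0) =
        (if r = w⁻¹ * cs.simple i * w then q i else 0) + if nn cs w r = 1 then P r else 0 := by
      intro r
      rw [nn_mul, nn_simple]
      by_cases hr : r = w⁻¹ * cs.simple i * w
      · have h5 : ∀ a : ZMod 2, a ≠ 1 → a + 1 = 1 := by decide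
        rw [if_pos hr, hr, ind_of_eq (by group), if_pos (h5 _ h3), if_neg h3, hP, add_zero]
      · rw [if_neg hr, ind_of_ne fun e => hr (by rw [← e]; group), add_zero, zero_add]
    show ∑ r, _ = _
    rw [Finset.sum_congr rfl fun r _ => h4 r, Finset.sum_add_distrib, Finset.sum_ite_eq', if_pos (Finset.mem_univ _)]
  have h3 : ∀ i, m (cs.simple i) = q i := fun i => by
    have h4 := h2 i 1 (by rw [mul_one, cs.length_one, cs.length_simple]; omega)
    rwa [mul_one, h1, add_zero] at h4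
  exact ⟨⟨m, h1, fun i w h => by rw [h2 i w h, h3]⟩, h3⟩

theorem eq_zero_of_tau (t : Wt cs) {h : W → ℂ} (hh : ∀ v, Lm cs t h v 1 = 0) : h = 0 := by
  funext w
  have h1 := hh (e w⁻¹)
  rw [Lm_apply_one, Finset.sum_eq_single w] at h1
  · have h2 : (t.f w : ℂ) ≠ 0 := by exact_mod_cast (t.f_pos w).ne'
    simpa [e, h2] using h1
  · intro x _ hx
    simp [e, Pi.single_eq_of_ne (inv_injective.ne hx)]
  · intro h2
    exact absurd (Finset.mem_univ _) h2

section Mod

variable {V : Type} [AddCommGroup V] [Module ℂ V] [FiniteDimensional ℂ V] (τ : W → Module.End ℂ V)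

/-- the linear extension -/
noncomputable def rho : (W → ℂ) →ₗ[ℂ] Module.End ℂ V where
  toFun v := ∑ w, v w • τ w
  map_add' u v := by
    rw [← Finset.sum_add_distrib]
    exact Finset.sum_congr rfl fun w _ => by rw [Pi.add_apply, add_smul]
  map_smul' c v := by
    rw [RingHom.id_apply, Finset.smul_sum]
    exact Finset.sum_congr rfl fun w _ => by rw [Pi.smul_apply, smul_eq_mul, mul_smul]

theorem rho_e (w : W) : rho τ (e w) = τ w := by
  show ∑ x, e w x • τ x = τ w
  rw [Finset.sum_eq_single w]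
  · simp [e]
  · intro x _ hx
    simp [e, Pi.single_eq_of_ne hx]
  · intro h
    exact absurd (Finset.mem_univ _) h

theorem eq_sum_e (v : W → ℂ) : v = ∑ w, v w • e w := by
  funext x
  simp [e, Finset.sum_apply, Pi.single_apply]

variable {τ} (h1 : τ 1 = 1)
  (hm : ∀ i w, cs.length w < cs.length (cs.simple i * w) → τ (cs.simple i) * τ w = τ (cs.simple i * w))

include h1 hm

theorem tau_word {ω : List I} (h : cs.IsReduced ω) : τ (cs.wordProd ω) = (ω.map fun i => τ (cs.simple i)).prod := by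
  induction ω with
  | nil => simpa using h1
  | cons i ω ih => rw [wordProd_cons, ← hm i _ (Wt.lt_cons h), ih (reduced_tail cs h), List.map_cons, List.prod_cons]

theorem tau_right {i : I} {w : W} (h : cs.length w < cs.length (w * cs.simple i)) :
    τ w * τ (cs.simple i) = τ (w * cs.simple i) := by
  obtain ⟨ω, hω, rfl⟩ := cs.exists_isReduced w
  have h2 : cs.IsReduced (ω ++ [i]) := by
    show cs.length _ = _
    have := cs.length_mul_simple (cs.wordProd ω) i
    rw [wordProd_append, wordProd_singleton, List.length_append, List.length_singleton, ← hω.eq]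
    omega
  have h3 := tau_word cs h1 hm h2
  rw [wordProd_append, wordProd_singleton] at h3
  rw [h3, tau_word cs h1 hm hω, List.map_append, List.prod_append, List.map_singleton, List.prod_singleton]

theorem tau_conj (hu : ∀ i, IsUnit (τ (cs.simple i))) {i j : I} {x : W} (h : cs.simple i * x = x * cs.simple j) :
    ∃ u : Module.End ℂ V, IsUnit u ∧ τ (cs.simple i) * u = u * τ (cs.simple j) := by
  have key : ∀ x, cs.simple i * x = x * cs.simple j → cs.length x < cs.length (cs.simple i * x) →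
      ∃ u : Module.End ℂ V, IsUnit u ∧ τ (cs.simple i) * u = u * τ (cs.simple j) := by
    intro x hx hl
    refine ⟨τ x, ?_, by rw [hm i x hl, tau_right cs h1 hm (hx ▸ hl), hx]⟩
    obtain ⟨ω, hω, rfl⟩ := cs.exists_isReduced x
    rw [tau_word cs h1 hm hω]
    refine List.prod_isUnit fun a ha => ?_
    obtain ⟨k, -, rfl⟩ := List.mem_map.1 ha
    exact hu k
  rcases cs.length_simple_mul x i with h2 | h2
  · exact key x h (by omega)
  · refine key (cs.simple i * x) (by rw [mul_assoc, ← h]) ?_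
    rw [simple_mul_simple_cancel_left]
    omega

variable {t : Wt cs}
  (hq : ∀ i, τ (cs.simple i) * τ (cs.simple i) = ((t.p i : ℂ) - 1) • τ (cs.simple i) + (t.p i : ℂ) • 1)

include hq

theorem rho_L (i : I) (v : W → ℂ) : rho τ (L cs t i v) = τ (cs.simple i) * rho τ v := by
  have key : ∀ w, rho τ (L cs t i (e w)) = τ (cs.simple i) * τ w := by
    intro w
    rcases cs.length_simple_mul w i with h2 | h2
    · rw [L_e cs t (by omega), rho_e, hm i w (by omega)]
    · obtain ⟨x, rfl⟩ : ∃ x, w = cs.simple i * x := ⟨cs.simple i * w, by simp⟩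
      rw [simple_mul_simple_cancel_left] at h2
      have h3 : cs.length x < cs.length (cs.simple i * x) := by omega
      rw [← L_e cs t h3, ← Module.End.mul_apply, L_sq, ← hm i x h3, ← mul_assoc, hq, LinearMap.add_apply,
        LinearMap.smul_apply, LinearMap.smul_apply, Module.End.one_apply, map_add, map_smul, map_smul, L_e cs t h3, rho_e,
        rho_e, ← hm i x h3, add_mul, smul_mul_assoc, smul_mul_assoc, one_mul]
  rw [eq_sum_e v, map_sum, map_sum, map_sum, Finset.mul_sum]
  exact Finset.sum_congr rfl fun w _ => by rw [map_smul, map_smul, map_smul, key, rho_e, mul_smul_comm]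

theorem rho_Lm (u v : W → ℂ) : rho τ (Lm cs t u v) = rho τ u * rho τ v := by
  have key : ∀ ω : List I, rho τ (LL cs t ω v) = (ω.map fun i => τ (cs.simple i)).prod * rho τ v := by
    intro ω
    induction ω with
    | nil => rw [LL_nil, List.map_nil, List.prod_nil, one_mul, Module.End.one_apply]
    | cons i ω ih => rw [LL_cons, Module.End.mul_apply, rho_L cs h1 hm hq, ih, List.map_cons, List.prod_cons, mul_assoc]
  unfold Lm
  rw [LinearMap.sum_apply, map_sum]
  show _ = (∑ w, u w • τ w) * _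
  rw [Finset.sum_mul]
  refine Finset.sum_congr rfl fun w _ => ?_
  rw [LinearMap.smul_apply, map_smul, key, ← tau_word cs h1 hm (wd_reduced cs w), wd_prod, smul_mul_assoc]

/-- the primitive central idempotent of an irreducible module -/
theorem exists_idem [Nontrivial V] (hirr : ∀ U : Submodule ℂ V, (∀ w, ∀ v ∈ U, τ w v ∈ U) → U = ⊥ ∨ U = ⊤) :
    ∃ z a, Prim cs t z ∧ N cs t z z = finrank ℂ V * finrank ℂ V ∧
      ∀ v, LinearMap.trace ℂ V (rho τ v) = a * Lm cs t z v 1 := by
  have := finite_PS cs t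
  let _ : Fintype (PS cs t) := Fintype.ofFinite _
  obtain ⟨z, hz⟩ : ∃ z : PS cs t, rho τ z.1 ≠ 0 := by
    by_contra h
    push Not at h
    have h2 := congrArg (rho τ) (sum_PS cs t)
    rw [map_sum, Finset.sum_eq_zero fun z _ => h z, rho_e, h1] at h2
    exact zero_ne_one h2
  have hz1 : rho τ z.1 = 1 := by
    have h2 : rho τ z.1 * rho τ z.1 = rho τ z.1 := by rw [← rho_Lm cs h1 hm hq, z.2.idem]
    rcases hirr (LinearMap.range (rho τ z.1)) (by
      rintro w _ ⟨v, rfl⟩
      refine ⟨τ w v, ?_⟩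
      rw [← Module.End.mul_apply, ← Module.End.mul_apply, ← rho_e τ w, ← rho_Lm cs h1 hm hq, ← rho_Lm cs h1 hm hq,
        comm_e cs t z.2.mem]) with h3 | h3
    · exact absurd (LinearMap.range_eq_bot.1 h3) hz
    · refine LinearMap.ext fun v => ?_
      obtain ⟨x, rfl⟩ := LinearMap.range_eq_top.1 h3 v
      rw [← Module.End.mul_apply, h2, Module.End.one_apply]
  let c : W → ℂ := fun w => LinearMap.trace ℂ V (τ w⁻¹) / t.f w
  have hc : ∀ v, Lm cs t c v 1 = LinearMap.trace ℂ V (rho τ v) := by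
    intro v
    rw [Lm_apply_one]
    show _ = LinearMap.trace ℂ V (∑ w, v w • τ w)
    rw [map_sum, ← Equiv.sum_comp (Equiv.inv W)]
    refine Finset.sum_congr rfl fun w _ => ?_
    have h2 : (t.f w⁻¹ : ℂ) ≠ 0 := by exact_mod_cast (t.f_pos w⁻¹).ne'
    simp only [Equiv.inv_apply, inv_inv, c, map_smul, smul_eq_mul]
    field_simp
  have hcZ : c ∈ Z cs t := by
    refine mem_Z_of_comm cs t fun i => ?_
    rw [L_eq, ← Lm_Lm, ← Lm_Lm]
    congr 1
    rw [← sub_eq_zero]
    refine eq_zero_of_tau cs t fun v => ?_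
    rw [Lm_sub', Pi.sub_apply, mul_apply', mul_apply', tau_comm cs t (e _), mul_apply', hc, hc, rho_Lm cs h1 hm hq,
      rho_Lm cs h1 hm hq, LinearMap.trace_mul_comm, sub_self]
  obtain ⟨a, ha⟩ := z.2.prim c hcZ
  have key : ∀ v, LinearMap.trace ℂ V (rho τ v) = a * Lm cs t z.1 v 1 := by
    intro v
    rw [← one_mul (rho τ v), ← hz1, ← rho_Lm cs h1 hm hq, ← hc, ← mul_apply', ← comm_e cs t z.2.mem, ha, Lm_smul]
    rfl
  have ha0 : a ≠ 0 := by
    intro h
    have h2 := key (e 1)
    rw [h, zero_mul, rho_e, h1, LinearMap.trace_one, Nat.cast_eq_zero] at h2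
    exact finrank_pos.ne' h2
  refine ⟨z.1, a, z.2, ?_, key⟩
  let A : Subalgebra ℂ (Module.End ℂ V) := (LinearMap.range (rho τ)).toSubalgebra ⟨e 1, by rw [rho_e, h1]⟩ (by
    rintro _ _ ⟨u, rfl⟩ ⟨v, rfl⟩
    exact ⟨_, rho_Lm cs h1 hm hq u v⟩)
  have hs : ∀ b, ∃ v, rho τ v = b := fun b =>
    AH.burnside A (fun U hU => hirr U fun w => hU _ ⟨e w, rho_e τ w⟩) b
  have hb : Function.Bijective ((rho τ).domRestrict (LinearMap.range (Lm cs t z.1))) := by
    constructor
    · rw [injective_iff_map_eq_zero]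
      rintro ⟨_, x, rfl⟩ hx
      refine Subtype.ext (eq_zero_of_tau cs t fun v => ?_)
      have h2 := key (Lm cs t (Lm cs t z.1 x) v)
      rw [rho_Lm cs h1 hm hq, show rho τ (Lm cs t z.1 x) = 0 from hx, zero_mul, map_zero, ← mul_apply', ← mul_apply',
        z.2.idem] at h2
      exact (mul_eq_zero.1 h2.symm).resolve_left ha0
    · intro b
      obtain ⟨v, rfl⟩ := hs b
      exact ⟨⟨_, v, rfl⟩, by
        show rho τ (Lm cs t z.1 v) = _
        rw [rho_Lm cs h1 hm hq, hz1, one_mul]⟩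
  rw [N_eq_rank cs t z.2.mem z.2.idem z.2.idem, ← Lm_Lm, z.2.idem, (LinearEquiv.ofBijective _ hb).finrank_eq,
    Module.finrank_linearMap, Nat.cast_mul]

end Mod

/-- the character is fixed if the idempotent is fixed -/
theorem trace_fix {V : Type} [AddCommGroup V] [Module ℂ V] [FiniteDimensional ℂ V] [Nontrivial V] [Finite I]
    (τ : W → Module.End ℂ V) (p : I → ℚ) (hp : ∀ i, 0 < p i) (h1 : τ 1 = 1)
    (hm : ∀ i w, cs.length w < cs.length (cs.simple i * w) → τ (cs.simple i) * τ w = τ (cs.simple i * w))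
    (hq : ∀ i, (τ (cs.simple i) - (p i : ℂ) • (1 : Module.End ℂ V)) * (τ (cs.simple i) + 1) = 0)
    (hirr : ∀ U : Submodule ℂ V, (∀ w, ∀ v ∈ U, τ w v ∈ U) → U = ⊥ ∨ U = ⊤) (σ : ℂ ≃+* ℂ)
    (hF : ∀ t : Wt cs, Sg cs t σ → ∀ z, Prim cs t z → N cs t z z = finrank ℂ V * finrank ℂ V → act σ z = z) (w : W) :
    σ (LinearMap.trace ℂ V (τ w)) = LinearMap.trace ℂ V (τ w) := by
  classical
  have hu : ∀ i, IsUnit (τ (cs.simple i)) := by
    intro i
    have h2 : (p i : ℂ) ≠ 0 := by exact_mod_cast (hp i).ne'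
    refine IsUnit.of_mul_eq_one ((p i : ℂ)⁻¹ • (τ (cs.simple i) + 1 - (p i : ℂ) • 1)) ?_
    have h3 := hq i
    rw [sub_mul, mul_add, mul_one, smul_mul_assoc, one_mul, sub_eq_zero] at h3
    rw [mul_smul_comm, mul_sub, mul_add, mul_one, h3, mul_smul_comm, mul_one, smul_add, add_sub_cancel_left, smul_smul,
      inv_mul_cancel₀ h2, one_smul]
  let p' : I → ℚ := fun i => if τ (cs.simple i) + 1 = 0 then 1 else p i
  have hp' : ∀ i, 0 < p' i := fun i => by
    unfold p'
    split_ifs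
    exacts [one_pos, hp i]
  have hq' : ∀ i, (τ (cs.simple i) - (p' i : ℂ) • (1 : Module.End ℂ V)) * (τ (cs.simple i) + 1) = 0 := fun i => by
    unfold p'
    split_ifs with h
    · rw [h, mul_zero]
    · exact hq i
  have hc : ∀ i j x, cs.simple i * x = x * cs.simple j → p' i = p' j := by
    intro i j x hx
    obtain ⟨u, hu1, hu2⟩ := tau_conj cs h1 hm hu hx
    have h2 : (τ (cs.simple i) + 1) * u = u * (τ (cs.simple j) + 1) := by rw [add_mul, mul_add, hu2, one_mul, mul_one]
    have h3 : τ (cs.simple i) + 1 = 0 ↔ τ (cs.simple j) + 1 = 0 := by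
      rw [← hu1.mul_left_eq_zero, h2, hu1.mul_right_eq_zero]
    by_cases h4 : τ (cs.simple i) + 1 = 0
    · unfold p'
      rw [if_pos h4, if_pos (h3.1 h4)]
    · have h6 : (τ (cs.simple i) - (p' j : ℂ) • (1 : Module.End ℂ V)) * (τ (cs.simple i) + 1) = 0 := by
        rw [← hu1.mul_left_eq_zero, mul_assoc, h2, ← mul_assoc, sub_mul, hu2, smul_mul_assoc, one_mul]
        have h7 := congrArg (u * ·) (hq' j)
        simpa only [← mul_assoc, mul_sub, mul_smul_comm, mul_one, mul_zero] using h7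
      have h7 : ((p' i : ℂ) - p' j) • (τ (cs.simple i) + 1) = 0 := by
        have h8 := hq' i
        rw [sub_mul, smul_mul_assoc, one_mul, sub_eq_zero] at h6 h8
        rw [sub_smul, ← h6, ← h8, sub_self]
      exact_mod_cast sub_eq_zero.1 ((smul_eq_zero.1 h7).resolve_right h4)
  obtain ⟨t, ht⟩ := exists_wt cs (fun i => Real.log (p' i)) fun i j x hx => by rw [hc i j x hx]
  have htp : ∀ i, (t.p i : ℂ) = p' i := fun i => by
    unfold Wt.p
    rw [ht, Real.exp_log (by exact_mod_cast hp' i), Complex.ofReal_ratCast]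
  have hσ : Sg cs t σ := fun i => by rw [htp, map_ratCast]
  obtain ⟨z, a, hz, hN, key⟩ := exists_idem cs h1 hm (t := t) (fun i => by
    have h3 := hq' i
    rw [sub_mul, mul_add, mul_one, smul_mul_assoc, one_mul, sub_eq_zero, ← eq_sub_iff_add_eq] at h3
    rw [h3, htp]
    module) hirr
  have hfix := hF t hσ z hz hN
  have h2 : ∀ x, σ (Lm cs t z (e x) 1) = Lm cs t z (e x) 1 := fun x => by
    have h3 := congrFun (act_Lm hσ z (e x)) 1
    rwa [hfix, act_e] at h3
  have h3 := key (e 1)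
  rw [rho_e, h1, LinearMap.trace_one] at h3
  have h4 := congrArg σ h3
  rw [map_natCast, map_mul, h2, h3] at h4
  have h6 : Lm cs t z (e 1) 1 ≠ 0 := fun h => by
    rw [h, mul_zero, Nat.cast_eq_zero] at h3
    exact finrank_pos.ne' h3
  rw [← rho_e τ w, key, map_mul, h2, ← mul_right_cancel₀ h6 h4]

/-- **Box HO from the rigidity of the types `A`, `B`, `D`, `E₆`.** -/
theorem ho_of (hR : Rig4) : AH.HO := by
  intro I W V _ _ _ M cs _ _ _ τ p h5 hp h1 hm hq hirr hodd σ w
  classical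
  let _ := Fintype.ofFinite W
  have : Nontrivial V := Module.nontrivial_of_finrank_pos hodd.pos
  exact trace_fix cs τ p hp h1 hm hq hirr σ (fun t hσ z hz hN => fixOdd hR cs t h5 hσ z hz _ hodd hN) w

end Cfsg.Agent.ODD.Hk
end

-- part: ODD/Hk/RigM
section
/-!
# Permutation models of Coxeter groups and signed permutations (helper10)

* `exists_pi` : a faithful permutation model; an invariant set with non-zero functional makes an element `NC`.
* `rigid_perm`, `rigid_sgnB`, `rigid_sgnD` : the criterion `rigid_of` for the three classical models.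
-/

set_option autoImplicit false
set_option linter.unusedSectionVars false

namespace Cfsg.Agent.ODD.Hk.Sgn

open CoxeterSystem Equiv Equiv.Perm Cfsg.Agent.ChevalleyStructure.CoxeterGeom Cfsg.Agent.H694

section Model

variable {I W : Type*} [Fintype I] [DecidableEq I] {M : CoxeterMatrix I} [Group W] [Finite W]
  (cs : CoxeterSystem M W) {A : I → I → ℤ} (h : IsCartan M A)

/-- an element with a non-zero fixed functional is `NC` -/
theorem nc_of_mv {w : W} {c : I → ℤ} {j : I} (hc : c j ≠ 0) (hw : mv cs h w c = c) : NC cs w := by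
  classical
  have := Fintype.ofFinite W
  let K : Finset W := Finset.univ.filter fun g => mv cs h g c = c
  have hK : ∀ g, g ∈ K ↔ mv cs h g c = c := fun g => by simp [K]
  refine nc_of_fix h (x := ∑ g ∈ K, rep cs h g (Pi.single j 1)) (fun h0 => ?_) ?_
  · have h1 : fn c (∑ g ∈ K, rep cs h g (Pi.single j 1)) = K.card * c j := by
      rw [fn_sum, Finset.sum_congr rfl fun g hg => (show fn c (rep cs h g (Pi.single j 1)) = c j from
        congrFun ((hK g).1 hg) j), Finset.sum_const, nsmul_eq_mul]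
    rw [h0] at h1
    have h2 : fn c 0 = 0 := by simp only [fn, _root_.Pi.zero_apply, _root_.MulZeroClass.zero_mul, _root_.Finset.sum_const_zero]
    have h3 : 0 < K.card := Finset.card_pos.2 ⟨1, (hK 1).2 (mv_one cs h c)⟩
    rw [h2] at h1
    exact mul_ne_zero (by exact_mod_cast h3.ne') hc h1.symm
  · rw [map_sum]
    refine Finset.sum_equiv (Equiv.mulLeft w) (fun g => ?_) fun g _ => ?_
    · rw [hK, hK, Equiv.coe_mulLeft, mv_mul, hw]
    · rw [Equiv.coe_mulLeft, rep_mul_apply]

theorem mv_sum {X : Type*} (S : Finset X) (f : X → I → ℤ) (w : W) :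
    mv cs h w (∑ x ∈ S, f x) = ∑ x ∈ S, mv cs h w (f x) := by
  funext i
  simp only [mv, fn, Finset.sum_apply, Finset.mul_sum]
  exact Finset.sum_comm

include h in
/-- **A permutation model.** -/
theorem exists_pi {X : Type*} [DecidableEq X] (sg : I → Perm X) (ph : X → I → ℤ) (inj : Function.Injective ph)
    (hs : ∀ i x j, ph (sg i x) j = ph x j - A i j * ph x i) (hne : ∀ i, ∃ x, ph x i ≠ 0) :
    ∃ π : W →* Perm X, Function.Injective π ∧ (∀ i, π (cs.simple i) = sg i) ∧
      ∀ (w : W) (S : Finset X), (∀ x ∈ S, π w x ∈ S) → (∃ j, ∑ x ∈ S, ph x j ≠ 0) → NC cs w := by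
  have hs' : ∀ i x, ph (sg i x) = mv cs h (cs.simple i) (ph x) := fun i x => by
    rw [mv_simple]; exact funext (hs i x)
  have h1 : ∀ w : W, ∃ σ : Perm X, ∀ x, ph (σ x) = mv cs h w⁻¹ (ph x) := by
    intro w
    induction w using cs.simple_induction_left with
    | one => exact ⟨1, fun x => by rw [inv_one, mv_one]; rfl⟩
    | mul_simple_left w i ih =>
      obtain ⟨σ, hσ⟩ := ih
      exact ⟨sg i * σ, fun x => by rw [Perm.mul_apply, hs', hσ, mul_inv_rev, mv_mul, cs.inv_simple]⟩
  choose σ hσ using h1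
  let π : W →* Perm X := MonoidHom.mk' σ fun v w => Equiv.ext fun x => inj (by
    rw [Perm.mul_apply, hσ, hσ, hσ, mul_inv_rev, mv_mul])
  have hπ : ∀ w x, ph (π w x) = mv cs h w⁻¹ (ph x) := hσ
  refine ⟨π, (injective_iff_map_eq_one π).2 fun w hw => ?_, fun i => Equiv.ext fun x => inj ?_, fun w S hS hj => ?_⟩
  · refine inv_eq_one.1 (eq_one_of_fix cs h _ fun k => sub_eq_zero.1 (eq_zero_of_pairing cs h fun i => ?_))
    set y := rep cs h w⁻¹ (Pi.single k 1) - Pi.single k 1 with hy
    have h2 : ∀ x, fn (ph x) y = 0 := fun x => by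
      have h3 := hπ w x
      rw [hw, Perm.one_apply] at h3
      rw [hy, fn_sub, ← fn_mv, ← h3, sub_self]
    obtain ⟨x, hx⟩ := hne i
    have h3 := h2 (sg i x)
    rw [hs', fn_mv, rep_simple, ChevalleyStructure.CoxeterGeom.refl_apply, fn_sub, h2, fn_single, zero_sub, neg_eq_zero] at h3
    exact (mul_eq_zero.1 h3).resolve_right hx
  · rw [hπ, hs', cs.inv_simple]
  · obtain ⟨j, hj⟩ := hj
    have h2 : mv cs h w⁻¹ (∑ x ∈ S, ph x) = ∑ x ∈ S, ph x := by
      rw [mv_sum]
      refine Finset.sum_bij (fun x _ => π w x) hS (fun a _ b _ hab => (π w).injective hab) (fun b hb => ?_)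
        fun x _ => (hπ w x).symm
      obtain ⟨a, ha, hab⟩ := Finset.surj_on_of_inj_on_of_card_le (s := S) (t := S) (fun x _ => π w x) hS
        (fun a b _ _ hab => (π w).injective hab) le_rfl b hb
      exact ⟨a, ha, hab.symm⟩
    have h3 := mv_inv_eq cs h h2
    rw [inv_inv] at h3
    exact nc_of_mv cs h (c := ∑ x ∈ S, ph x) (j := j) (by rwa [Finset.sum_apply]) h3

include h in
/-- the same along a labelling of the nodes -/
theorem exists_pi' {J : Type*} [Fintype J] [DecidableEq J] {N : CoxeterMatrix J} {V : Type*} [Group V] [Finite V]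
    (cs : CoxeterSystem N V) (v : I ≃ J) (hv : ∀ i j, N (v i) (v j) = M i j) {X : Type*} [DecidableEq X]
    (sg : I → Perm X) (ph : X → I → ℤ) (inj : Function.Injective ph)
    (hs : ∀ i x j, ph (sg i x) j = ph x j - A i j * ph x i) (hne : ∀ i, ∃ x, ph x i ≠ 0) :
    ∃ π : V →* Perm X, Function.Injective π ∧ (∀ i, π (cs.simple (v i)) = sg i) ∧
      ∀ (w : V) (S : Finset X), (∀ x ∈ S, π w x ∈ S) → (∃ j, ∑ x ∈ S, ph x j ≠ 0) → NC cs w := by
  have h' : IsCartan N fun i j => A (v.symm i) (v.symm j) :=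
    ⟨fun i => h.diag _, fun i j hij => by
      have h1 := h.rel (v.symm i) (v.symm j) fun h2 => hij (v.symm.injective h2)
      rwa [← hv, v.apply_symm_apply, v.apply_symm_apply] at h1⟩
  obtain ⟨π, h1, h2, h3⟩ := exists_pi cs h' (fun i => sg (v.symm i)) (fun x j => ph x (v.symm j))
    (fun x y hxy => inj (funext fun j => by simpa using congrFun hxy (v j))) (fun i x j => hs _ _ _) fun i => hne _
  exact ⟨π, h1, fun i => by rw [h2, v.symm_apply_apply], fun w S hS ⟨j, hj⟩ => h3 w S hS ⟨v j, by simpa using hj⟩⟩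

end Model

section Perm

variable {X : Type*} [Fintype X] [DecidableEq X]

/-- a transposition of two points of a cycle splits the cycle -/
theorem split {w y : Perm X} {a c : X} (hac : SameCycle w a c) (hne : a ≠ c)
    (hy : ∀ x, SameCycle w a x → y x = swap a c (w x)) : ∃ S : Finset X, a ∈ S ∧ c ∉ S ∧ ∀ x ∈ S, y x ∈ S := by
  classical
  have hex : ∃ m : ℕ, (w ^ m) a = c := by
    obtain ⟨m, -, hm⟩ := hac.exists_pow_eq'
    exact ⟨m, hm⟩
  have hm := Nat.find_spec hex
  have hmin : ∀ k, k < Nat.find hex → (w ^ k) a ≠ c := fun k hk => Nat.find_min hex hk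
  set m := Nat.find hex
  have h0 : 0 < m := Nat.pos_of_ne_zero fun h0 => hne (by simpa [h0] using hm)
  refine ⟨(Finset.range m).image fun k => (w ^ k) a, ?_, ?_, ?_⟩
  · exact Finset.mem_image.2 ⟨0, Finset.mem_range.2 h0, rfl⟩
  · intro h1
    obtain ⟨k, hk, h2⟩ := Finset.mem_image.1 h1
    exact hmin k (Finset.mem_range.1 hk) h2
  · intro x hx
    obtain ⟨k, hk, rfl⟩ := Finset.mem_image.1 hx
    have hk' := Finset.mem_range.1 hk
    rw [hy _ ⟨k, by rw [zpow_natCast]⟩, ← Perm.mul_apply w, ← pow_succ']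
    by_cases h1 : k + 1 = m
    · rw [h1, hm, swap_apply_right]
      exact Finset.mem_image.2 ⟨0, Finset.mem_range.2 h0, rfl⟩
    · rw [swap_apply_of_ne_of_ne _ (hmin _ (by omega))]
      · exact Finset.mem_image.2 ⟨k + 1, Finset.mem_range.2 (by omega), rfl⟩
      · intro h2
        refine hmin (m - (k + 1)) (by omega) ?_
        rw [← hm]
        conv_rhs => rw [show m = m - (k + 1) + (k + 1) by omega, pow_add, Perm.mul_apply, h2]

variable {I W : Type*} {M : CoxeterMatrix I} [Group W] [Finite W] {cs : CoxeterSystem M W} {π : W →* Perm X}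

theorem isConj_of (inj : Function.Injective π) {v w : W} {d : Perm X} (hd : d ∈ π.range)
    (h : d * π w * d⁻¹ = π v) : IsConj v w := by
  obtain ⟨g, rfl⟩ := hd
  refine (isConj_iff.2 ⟨g, inj ?_⟩).symm
  rw [map_mul, map_mul, map_inv, h]

/-- **Type `A`.** -/
theorem rigid_perm [Nontrivial I] [Nontrivial X] (inj : Function.Injective π) (sur : Function.Surjective π)
    (hs : ∀ i, sign (π (cs.simple i)) = -1)
    (hN : ∀ (w : W) (S : Finset X) (a b : X), a ∈ S → b ∉ S → (∀ x ∈ S, π w x ∈ S) → NC cs w) : Rigid cs := by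
  classical
  have h1 : ∀ w, ¬ NC cs w → IsCycle (π w) ∧ (π w).support = Finset.univ := by
    intro w hw
    have h2 : ∀ a, π w a ≠ a := fun a ha => by
      obtain ⟨b, hb⟩ := exists_ne a
      exact hw (hN w {a} a b (by simp) (by simpa using hb) (by simpa using ha))
    obtain ⟨a⟩ : Nonempty X := inferInstance
    refine ⟨⟨a, h2 a, fun b _ => ?_⟩, Finset.eq_univ_of_forall fun b => mem_support.2 (h2 b)⟩
    by_contra hb
    exact hw (hN w (Finset.univ.filter fun x => SameCycle (π w) a x) a b (by simpa using SameCycle.refl _ _)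
      (by simpa using hb) (by simp))
  have h2 : ∀ v w, ¬ NC cs v → ¬ NC cs w → IsConj v w := by
    intro v w hv hw
    obtain ⟨d, hd⟩ := isConj_iff.1 ((h1 w hw).1.isConj (h1 v hv).1 (by rw [(h1 w hw).2, (h1 v hv).2]))
    exact isConj_of inj (sur d) hd
  refine rigid_of fun w hw => ?_
  obtain ⟨i⟩ : Nonempty I := inferInstance
  refine ⟨cs.simple i, cs.simple i * w, nc_simple i, ?_, ?_, fun g => ?_⟩
  · by_contra h3
    obtain ⟨g, hg⟩ := isConj_iff.1 (h2 _ _ h3 hw)
    have h4 := congrArg (fun z => sign (π z)) hg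
    simp only [map_mul, map_inv, hs, sign_inv] at h4
    rcases Int.units_eq_one_or (sign (π g)) with h5 | h5 <;> rcases Int.units_eq_one_or (sign (π w)) with h6 | h6 <;>
      simp only [h5, h6, _root_.mul_one, _root_.mul_neg, _root_.inv_one, _root_.neg_units_ne_self, _root_.neg_neg, _root_.units_ne_neg_self, _root_.inv_neg] at h4
  · rw [← mul_assoc, cs.simple_mul_simple_self, one_mul]
  · by_cases h3 : NC cs (g * cs.simple i * g⁻¹ * (cs.simple i * w))
    · exact Or.inl h3
    · exact Or.inr (h2 _ _ h3 hw)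

/-- a fixed point free involution -/
structure Nu (ν : Perm X) : Prop where
  inv : ∀ x, ν (ν x) = x
  ne : ∀ x, ν x ≠ x

/-- a sign change -/
def tt (ν : Perm X) (a : X) : Perm X := swap a (ν a)

/-- a long reflection -/
def rr (ν : Perm X) (a b : X) : Perm X := swap a b * swap (ν a) (ν b)

variable {ν : Perm X}

theorem comm_apply {g : Perm X} (hg : Commute g ν) (x : X) : g (ν x) = ν (g x) := by
  rw [← Perm.mul_apply, hg.eq, Perm.mul_apply]

theorem tt_conj {g : Perm X} (hg : Commute g ν) (a : X) : g * tt ν a * g⁻¹ = tt ν (g a) := by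
  rw [tt, tt, ← comm_apply hg, swap_apply_apply]

theorem mul_tt {g : Perm X} (hg : Commute g ν) (a : X) : g * tt ν a = tt ν (g a) * g := by
  rw [← tt_conj hg, inv_mul_cancel_right]

theorem rr_conj {g : Perm X} (hg : Commute g ν) (a b : X) : g * rr ν a b * g⁻¹ = rr ν (g a) (g b) := by
  rw [rr, rr, ← comm_apply hg, ← comm_apply hg, swap_apply_apply g, swap_apply_apply g]
  group

theorem tt_mul_self (a : X) : tt ν a * tt ν a = 1 := swap_mul_self _ _

theorem tt_inv (a : X) : (tt ν a)⁻¹ = tt ν a := swap_inv _ _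

theorem Nu.tt_nu (hν : Nu ν) (a : X) : tt ν (ν a) = tt ν a := by rw [tt, tt, hν.inv, swap_comm]

theorem Nu.tt_commute (hν : Nu ν) (a : X) : Commute (tt ν a) ν := by
  have h1 := mul_tt (Commute.refl ν) a
  rw [hν.tt_nu] at h1
  exact h1.symm

theorem Nu.tt_apply (hν : Nu ν) (a x : X) : tt ν a x = x ∨ tt ν a x = ν x := by
  rw [tt, swap_apply_def]
  split_ifs with h1 h2
  · exact Or.inr (by rw [h1])
  · exact Or.inr (by rw [h2, hν.inv])
  · exact Or.inl rfl

theorem Nu.tt_comm (hν : Nu ν) (a b : X) : Commute (tt ν a) (tt ν b) := by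
  have h1 := mul_tt (hν.tt_commute a) b
  rcases hν.tt_apply a b with h2 | h2
  · rwa [h2] at h1
  · rwa [h2, hν.tt_nu] at h1

theorem Nu.sign_tt (hν : Nu ν) (a : X) : sign (tt ν a) = -1 := sign_swap (hν.ne a).symm

/-- moving a sign change along a cycle -/
theorem Nu.move (hν : Nu ν) {K : Subgroup (Perm X)} (hK : ∀ x, tt ν x ∈ K) {w e : Perm X} (hw : Commute w ν)
    (he : ∀ x, Commute e (tt ν x)) {a c : X} (hac : SameCycle w a c) :
    ∃ d ∈ K, d * (e * w) * d⁻¹ = tt ν c * tt ν a * (e * w) := by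
  obtain ⟨k, -, rfl⟩ := hac.exists_pow_eq'
  clear hac
  induction k with
  | zero => exact ⟨1, one_mem _, by simp [tt_mul_self]⟩
  | succ k ih =>
    obtain ⟨d, hd, h1⟩ := ih
    refine ⟨tt ν ((w ^ k) a) * d, mul_mem (hK _) hd, ?_⟩
    have h2 : tt ν ((w ^ k) a) * d * (e * w) * (tt ν ((w ^ k) a) * d)⁻¹ =
        tt ν ((w ^ k) a) * (d * (e * w) * d⁻¹) * (tt ν ((w ^ k) a))⁻¹ := by group
    rw [h2, h1, tt_inv, pow_succ', Perm.mul_apply]
    set x := (w ^ k) a
    calc tt ν x * (tt ν x * tt ν a * (e * w)) * tt ν x = (tt ν x * tt ν x) * (tt ν a * (e * (w * tt ν x))) := by group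
      _ = tt ν a * (e * tt ν (w x)) * w := by rw [tt_mul_self, one_mul, mul_tt hw]; group
      _ = tt ν (w x) * tt ν a * (e * w) := by rw [(he _).eq, (hν.tt_comm (w x) a).eq]; group

/-- all cycles are negative -/
def Ell (ν w : Perm X) : Prop := ∀ a, SameCycle w a (ν a)

theorem Ell.tt_same (hν : Nu ν) {w : Perm X} (hw : Ell ν w) {a z : X} (c : X) (hz : SameCycle w a z) :
    SameCycle w a (tt ν c z) := by
  rcases hν.tt_apply c z with h1 | h1 <;> rw [h1]
  · exact hz
  · exact hz.trans (hw z)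

theorem Ell.tt_fix {w : Perm X} (hw : Ell ν w) {a z b : X} (hb : ¬ SameCycle w a b) (hz : SameCycle w a z) :
    tt ν b z = z := by
  refine swap_apply_of_ne_of_ne (fun h1 => hb (h1 ▸ hz)) fun h1 => hb ?_
  rw [h1] at hz
  exact hz.trans (hw b).symm

section BD

variable (hν : Nu ν) (inj : Function.Injective π) (hc : ∀ w, Commute (π w) ν)
  (hN : ∀ (w : W) (S : Finset X) (a : X), a ∈ S → ν a ∉ S → (∀ x ∈ S, π w x ∈ S) → NC cs w)

include hN in
theorem ell_of {w : W} (hw : ¬ NC cs w) : Ell ν (π w) := by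
  classical
  intro a
  by_contra hb
  exact hw (hN w (Finset.univ.filter fun x => SameCycle (π w) a x) a (by simpa only [_root_.Finset.mem_filter, _root_.Finset.mem_univ, _root_.true_and] using SameCycle.refl _ _)
    (by simpa only [_root_.Finset.mem_filter, _root_.Finset.mem_univ, _root_.true_and] using hb) (by simp only [_root_.Finset.mem_filter, _root_.Finset.mem_univ, _root_.true_and, _root_.Equiv.Perm.sameCycle_apply_right, _root_.imp_self, _root_.implies_true]))

include hν hN in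
theorem nc_split {w : Perm X} (hw : Ell ν w) {y : W} (a : X)
    (hy : ∀ x, SameCycle w a x → π y x = tt ν a (w x)) : NC cs y := by
  obtain ⟨S, h1, h2, h3⟩ := split (hw a) (hν.ne a).symm hy
  exact hN y S a h1 h2 h3

include hν hN in
theorem nc_fix {y : W} {c : X} (hy : π y c = c) : NC cs y :=
  hN y {c} c (by simp) (by simpa using hν.ne c) (by simpa using hy)

include hν inj hc hN in
/-- **Type `B`.** -/
theorem rigid_sgnB [Nonempty I] [Nonempty X] (ht : ∀ x, tt ν x ∈ π.range) (h2 : ∀ a, ∃ c, c ≠ a ∧ c ≠ ν a) :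
    Rigid cs := by
  refine rigid_of fun w hw => ?_
  have hE := ell_of hN hw
  obtain ⟨a⟩ : Nonempty X := inferInstance
  obtain ⟨u, hu⟩ := ht a
  refine ⟨u, u * w, ?_, nc_split hν hN hE a fun x _ => by rw [map_mul, hu, Perm.mul_apply], ?_, fun g => ?_⟩
  · obtain ⟨c, h3, h4⟩ := h2 a
    exact nc_fix hν hN (c := c) (by rw [hu]; exact swap_apply_of_ne_of_ne h3 h4)
  · rw [show u * (u * w) = w from inj (by rw [map_mul, map_mul, hu, ← mul_assoc, tt_mul_self, one_mul])]
  have h3 : π (g * u * g⁻¹ * (u * w)) = tt ν (π g a) * tt ν a * (1 * π w) := by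
    rw [map_mul, map_mul, map_mul, map_mul, map_inv, hu, tt_conj (hc g), one_mul, mul_assoc]
  by_cases hb : SameCycle (π w) a (π g a)
  · obtain ⟨d, hd, h4⟩ := hν.move ht (hc w) (fun x => Commute.one_left _) hb
    exact Or.inr (isConj_of inj hd (by rw [h3, ← h4, one_mul]))
  · refine Or.inl (nc_split hν hN hE a fun x hx => ?_)
    rw [h3, one_mul, Perm.mul_apply, Perm.mul_apply, hE.tt_fix hb (hE.tt_same hν a (sameCycle_apply_right.2 hx))]

theorem Nu.sign_cycleOf (hν : Nu ν) {w : Perm X} (hw : Ell ν w) (a : X) : sign (w.cycleOf a) = -1 := by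
  have h1 : w a ≠ a := fun h1 => hν.ne a ((hw a).eq_of_left h1).symm
  have h2 : ∑ _x ∈ (w.cycleOf a).support, (1 : ZMod 2) = 0 := by
    refine Finset.sum_involution (fun x _ => ν x) (fun _ _ => by decide) (fun x _ _ => hν.ne x) (fun x hx => ?_)
      fun x _ => hν.inv x
    rw [mem_support_cycleOf_iff] at hx ⊢
    exact ⟨hx.1.trans (hw x), hx.2⟩
  rw [Finset.sum_const, nsmul_eq_mul, mul_one, ZMod.natCast_eq_zero_iff_even] at h2
  rw [(isCycle_cycleOf w h1).sign, h2.neg_one_pow]

theorem Ell.cycleOf_commute (hν : Nu ν) {w : Perm X} (hw : Ell ν w) (hc : Commute w ν) (a : X) :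
    Commute (w.cycleOf a) ν := by
  refine Equiv.ext fun x => ?_
  rw [Perm.mul_apply, Perm.mul_apply, cycleOf_apply, cycleOf_apply]
  by_cases h1 : SameCycle w a x
  · rw [if_pos h1, if_pos (h1.trans (hw x)), comm_apply hc]
  · rw [if_neg h1, if_neg fun h2 => h1 (h2.trans (hw x).symm)]

include hν inj hc hN in
/-- **Type `D`.** -/
theorem rigid_sgnD [Nonempty I] [Nonempty X] (hG : ∀ g : Perm X, Commute g ν → sign g = 1 → g ∈ π.range)
    (hs : ∀ w, sign (π w) = 1) (h3 : ∀ a b, ∃ c, c ≠ a ∧ c ≠ ν a ∧ c ≠ b ∧ c ≠ ν b) : Rigid cs := by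
  refine rigid_of fun w hw => ?_
  have hE := ell_of hN hw
  obtain ⟨a⟩ : Nonempty X := inferInstance
  obtain ⟨b, hb⟩ : ∃ b, ¬ SameCycle (π w) a b := by
    by_contra h1
    have h2 : (π w).cycleOf a = π w := Equiv.ext fun x => by
      rw [cycleOf_apply, if_pos (by_contra fun h2 => h1 ⟨x, h2⟩)]
    have h4 := hν.sign_cycleOf hE a
    rw [h2, hs] at h4
    exact absurd h4 (by decide)
  obtain ⟨u, hu⟩ := hG (tt ν a * tt ν b) ((hν.tt_commute a).mul_left (hν.tt_commute b))
    (by rw [map_mul, hν.sign_tt, hν.sign_tt]; decide)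
  have hb' : ¬ SameCycle (π w) b a := fun h1 => hb h1.symm
  refine ⟨u, u * w, ?_, nc_split hν hN hE a fun x hx => ?_, ?_, fun g => ?_⟩
  · obtain ⟨c, h4, h5, h6, h7⟩ := h3 a b
    refine nc_fix hν hN (c := c) ?_
    rw [hu, Perm.mul_apply, tt, tt, swap_apply_of_ne_of_ne h6 h7, swap_apply_of_ne_of_ne h4 h5]
  · rw [map_mul, hu, Perm.mul_apply, Perm.mul_apply, hE.tt_fix hb (sameCycle_apply_right.2 hx)]
  · refine (show u * (u * w) = w from inj ?_).symm ▸ IsConj.refl w
    rw [map_mul, map_mul, hu, ← mul_assoc, ← sq, (hν.tt_comm a b).mul_pow, sq, sq, tt_mul_self, tt_mul_self, one_mul,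
      one_mul]
  have key : ∀ c d, SameCycle (π w) a c → SameCycle (π w) b d → ∀ y : W,
      π y = tt ν c * tt ν d * (tt ν a * tt ν b * π w) → IsConj y w := by
    intro c d h4 h5 y hy
    have hK : ∀ x, tt ν x ∈ Subgroup.centralizer ({ν} : Set (Perm X)) := fun x =>
      Subgroup.mem_centralizer_singleton_iff.2 (hν.tt_commute x).eq
    obtain ⟨d1, hd1, h6⟩ := hν.move hK (hc w) (fun x => Commute.one_left _) h5
    obtain ⟨d2, hd2, h7⟩ := hν.move hK (hc w) (e := tt ν d * tt ν b)
      (fun x => (hν.tt_comm d x).mul_left (hν.tt_comm b x)) h4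
    rw [one_mul] at h6
    have h8 : d2 * d1 * π w * (d2 * d1)⁻¹ = π y := by
      have h9 : d2 * d1 * π w * (d2 * d1)⁻¹ = d2 * (d1 * π w * d1⁻¹) * d2⁻¹ := by group
      rw [h9, h6, h7, hy]
      calc tt ν c * tt ν a * (tt ν d * tt ν b * π w) = tt ν c * (tt ν a * tt ν d) * (tt ν b * π w) := by group
        _ = _ := by rw [(hν.tt_comm a d).eq]; group
    have h9 : Commute (d2 * d1) ν := Subgroup.mem_centralizer_singleton_iff.1 (mul_mem hd2 hd1)
    rcases Int.units_eq_one_or (sign (d2 * d1)) with h10 | h10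
    · exact isConj_of inj (hG _ h9 h10) h8
    · refine isConj_of inj (hG (d2 * d1 * (π w).cycleOf a) (h9.mul_left (hE.cycleOf_commute hν (hc w) a))
        (by rw [map_mul, h10, hν.sign_cycleOf hE]; decide)) ?_
      have h11 : Commute ((π w).cycleOf a) (π w) := by
        refine Equiv.ext fun x => ?_
        rw [Perm.mul_apply, Perm.mul_apply, cycleOf_apply, cycleOf_apply]
        by_cases h1 : SameCycle (π w) a x
        · rw [if_pos h1, if_pos (sameCycle_apply_right.2 h1)]
        · rw [if_neg h1, if_neg fun h2 => h1 (sameCycle_apply_right.1 h2)]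
      rw [← h8, mul_assoc (d2 * d1), h11.eq]
      group
  have h4 : π (g * u * g⁻¹ * (u * w)) = tt ν (π g a) * tt ν (π g b) * (tt ν a * tt ν b * π w) := by
    rw [map_mul, map_mul, map_mul, map_mul, map_inv, hu, ← tt_conj (hc g), ← tt_conj (hc g)]
    group
  set c := π g a
  set d := π g b
  by_cases h5 : ¬ SameCycle (π w) a c ∧ ¬ SameCycle (π w) a d
  · refine Or.inl (nc_split hν hN hE a fun x hx => ?_)
    have h6 := hE.tt_same hν a (sameCycle_apply_right.2 hx)
    rw [h4, Perm.mul_apply, Perm.mul_apply, Perm.mul_apply, Perm.mul_apply,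
      hE.tt_fix hb (sameCycle_apply_right.2 hx), hE.tt_fix h5.2 h6, hE.tt_fix h5.1 h6]
  by_cases h6 : ¬ SameCycle (π w) b c ∧ ¬ SameCycle (π w) b d
  · refine Or.inl (nc_split hν hN hE b fun x hx => ?_)
    have h7 := hE.tt_same hν b (sameCycle_apply_right.2 hx)
    rw [h4, Perm.mul_apply, Perm.mul_apply, Perm.mul_apply, Perm.mul_apply, hE.tt_fix hb' h7, hE.tt_fix h6.2 h7,
      hE.tt_fix h6.1 h7]
  refine Or.inr ?_
  by_cases h7 : SameCycle (π w) a c
  · refine key c d h7 ?_ _ h4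
    by_contra h8
    exact h6 ⟨fun h9 => hb (h7.trans h9.symm), h8⟩
  · have h8 : SameCycle (π w) a d := by
      by_contra h8
      exact h5 ⟨h7, h8⟩
    refine key d c h8 ?_ _ (by rw [h4, (hν.tt_comm c d).eq])
    by_contra h9
    exact h6 ⟨h9, fun h10 => hb (h8.trans h10.symm)⟩

end BD

theorem Nu.rr_commute (hν : Nu ν) {a b : X} (h1 : a ≠ b) (h2 : a ≠ ν b) : Commute (rr ν a b) ν := by
  have h3 := rr_conj (Commute.refl ν) a b
  have h4 : rr ν (ν a) (ν b) = rr ν a b := by
    rw [rr, rr, hν.inv, hν.inv]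
    refine (Disjoint.commute ?_).eq
    refine disjoint_swap_swap ?_
    have h5 : ν a ≠ ν b := fun h => h1 (ν.injective h)
    have h6 : ν a ≠ b := fun h => h2 (by rw [← h, hν.inv])
    simp [h1, h5, h6, hν.ne, h2.symm]
  rw [h4, mul_inv_eq_iff_eq_mul] at h3
  exact h3.symm

/-- the even signed permutations are generated by the long reflections -/
theorem Nu.mem_of_even (hν : Nu ν) {G : Subgroup (Perm X)} (hr : ∀ a b, a ≠ b → a ≠ ν b → rr ν a b ∈ G)
    (hs : ∀ g ∈ G, sign g = 1) {g : Perm X} (hg : Commute g ν) (h1 : sign g = 1) : g ∈ G := by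
  have hrr : ∀ a b, b ≠ ν a → rr ν a b b = a := fun a b h => by
    rw [rr, Perm.mul_apply, swap_apply_of_ne_of_ne h (hν.ne b).symm, swap_apply_right]
  have T2 : ∀ a b, tt ν a * tt ν b ∈ G := by
    intro a b
    by_cases h2 : a = b
    · rw [h2, tt_mul_self]; exact one_mem _
    by_cases h3 : a = ν b
    · rw [h3, hν.tt_nu, tt_mul_self]; exact one_mem _
    have h4 : tt ν b * rr ν a b * (tt ν b)⁻¹ = rr ν a (ν b) := by
      rw [rr_conj (hν.tt_commute b), tt, swap_apply_of_ne_of_ne h2 h3, swap_apply_left]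
    have h5 : rr ν a b * tt ν b * (rr ν a b)⁻¹ = tt ν a := by
      rw [tt_conj (hν.rr_commute h2 h3), hrr a b fun h => h3 (by rw [h, hν.inv])]
    have h6 : tt ν a * tt ν b = rr ν a b * (rr ν a (ν b))⁻¹ := by
      rw [← h4, ← h5, mul_inv_rev, mul_inv_rev, inv_inv, tt_inv]; group
    rw [h6]
    exact mul_mem (hr a b h2 h3) (inv_mem (hr a (ν b) h3 (by rwa [hν.inv])))
  have key : ∀ (m : ℕ) (g : Perm X), g.support.card = m → Commute g ν → g ∈ G ∨ ∃ a, tt ν a * g ∈ G := by
    intro m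
    induction m using Nat.strong_induction_on with
    | _ m ih =>
    intro g hm hg
    by_cases h0 : g = 1
    · exact Or.inl (h0 ▸ one_mem _)
    obtain ⟨x, hx⟩ : ∃ x, g x ≠ x := by
      by_contra h2
      exact h0 (Equiv.ext fun x => by_contra fun h3 => h2 ⟨x, h3⟩)
    have step : ∀ ρ : Perm X, Commute ρ ν → ρ (g x) = x →
        (∀ z, z ≠ x → z ≠ ν x → z ≠ g x → z ≠ ν (g x) → ρ z = z) → ρ * g ∈ G ∨ ∃ a, tt ν a * (ρ * g) ∈ G := by
      intro ρ h2 h3 h4
      refine ih _ (hm ▸ Finset.card_lt_card ?_) _ rfl (h2.mul_left hg)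
      refine (Finset.ssubset_iff_of_subset fun z hz => ?_).2 ⟨x, mem_support.2 hx, by simpa using h3⟩
      rw [mem_support] at hz ⊢
      intro h5
      apply hz
      rw [Perm.mul_apply, h5]
      refine h4 z ?_ ?_ ?_ ?_
      · rintro rfl; exact hx h5
      · rintro rfl; exact hx (ν.injective (by rwa [comm_apply hg] at h5))
      · rintro rfl; exact hx (g.injective h5)
      · rintro rfl; exact hx (g.injective (ν.injective (by rwa [comm_apply hg] at h5)))
    by_cases h2 : g x = ν x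
    · rcases step (tt ν x) (hν.tt_commute x) (by rw [h2, tt, swap_apply_right])
        (fun z h3 h4 _ _ => swap_apply_of_ne_of_ne h3 h4) with h3 | ⟨a, h3⟩
      · exact Or.inr ⟨x, h3⟩
      · rw [← mul_assoc] at h3
        exact Or.inl ((mul_mem_cancel_left (T2 a x)).1 h3)
    · have h3 : x ≠ ν (g x) := fun h => h2 (by rw [← hν.inv (g x), ← h])
      have h4 := hr x (g x) hx.symm h3
      have h5 := hν.rr_commute hx.symm h3
      rcases step (rr ν x (g x)) h5 (hrr _ _ h2) (fun z h6 h7 h8 h9 => by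
        rw [rr, Perm.mul_apply, swap_apply_of_ne_of_ne h7 h9, swap_apply_of_ne_of_ne h6 h8]) with h6 | ⟨a, h6⟩
      · exact Or.inl ((mul_mem_cancel_left h4).1 h6)
      · refine Or.inr ⟨(rr ν x (g x))⁻¹ a, (mul_mem_cancel_left h4).1 ?_⟩
        rwa [← mul_assoc, mul_tt h5, ← Perm.mul_apply, mul_inv_cancel, Perm.one_apply, mul_assoc]
  rcases key _ g rfl hg with h2 | ⟨a, h2⟩
  · exact h2
  · have h3 := hs _ h2
    rw [map_mul, hν.sign_tt, h1] at h3
    exact absurd h3 (by decide)

end Perm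

end Cfsg.Agent.ODD.Hk.Sgn
end

-- part: ODD/Hk/RigA
section
/-!
# The Coxeter groups of type `A` are rigid (helper10)
-/

set_option autoImplicit false

namespace Cfsg.Agent.ODD.Hk

open CoxeterSystem Equiv Equiv.Perm Cfsg.Agent.H694 Cfsg.Agent.LieRecognition.CoxClass Cfsg.Agent.Nodes

theorem Sgn.sum_ev {n : ℕ} (S : Finset (Fin (n + 1))) (j : Fin n) :
    ∑ a ∈ S, ev n a j = (if j.castSucc ∈ S then 1 else 0) - (if j.succ ∈ S then 1 else 0) := by
  have hev : ∀ x : Fin (n + 1), ev n x j = (if j.castSucc = x then 1 else 0) - (if j.succ = x then 1 else 0) := by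
    intro x
    unfold ev
    simp only [Fin.ext_iff, Fin.val_castSucc, Fin.val_succ]
    (first | (lia; done) | (split_ifs <;> omega))
  simp only [hev, Finset.sum_sub_distrib, Finset.sum_ite_eq]

theorem Sgn.exists_ev {n : ℕ} {S : Finset (Fin (n + 1))} {a b : Fin (n + 1)} (ha : a ∈ S) (hb : b ∉ S) :
    ∃ j, ∑ x ∈ S, ev n x j ≠ 0 := by
  by_contra h
  have h1 : ∀ k : Fin (n + 1), k ∈ S ↔ 0 ∈ S := by
    intro k
    induction k using Fin.induction with
    | zero => rfl
    | succ j ih =>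
      have h2 : ∑ x ∈ S, ev n x j = 0 := by_contra fun h2 => h ⟨j, h2⟩
      rw [Sgn.sum_ev] at h2
      rw [← ih]
      split_ifs at h2 <;> simp_all only [_root_.ne_eq, _root_.not_exists, _root_.Decidable.not_not, _root_.true_iff, _root_.sub_self, _root_.sub_zero, _root_.one_ne_zero, _root_.false_iff, _root_.zero_sub, _root_.Int.reduceNeg, _root_.neg_eq_zero]
  exact hb ((h1 b).2 ((h1 a).1 ha))

/-- **`W(A_n)` is rigid.** -/
theorem rigid_A {I W : Type*} [Fintype I] [DecidableEq I] {M : CoxeterMatrix I} [Group W] [Finite W]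
    (cs : CoxeterSystem M W) {n : ℕ} (v : Fin n ≃ I) (hn : 2 ≤ n) (h : Lab M v mA) : Rigid cs := by
  have hne : ∀ i : Fin n, i.castSucc ≠ i.succ := fun i => Fin.castSucc_lt_succ.ne
  obtain ⟨π, h1, h2, h3⟩ := Sgn.exists_pi' (RootsA.isCartan n) cs v h (fun i => swap i.castSucc i.succ) (ev n)
    (fun a b hab => by
      by_contra h1
      have h2 := congrFun hab
      have ha := a.2
      have hb := b.2
      have h3 : (a : ℕ) ≠ b := fun h3 => h1 (Fin.ext h3)
      rcases Nat.lt_or_gt_of_ne h3 with h4 | h4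
      · have h5 := h2 ⟨a, by omega⟩
        simp only [ev, if_true] at h5
        (first | (omega; done) | (split_ifs at h5 <;> omega))
      · have h5 := h2 ⟨b, by omega⟩
        simp only [ev, if_true] at h5
        (first | (omega; done) | (split_ifs at h5 <;> omega)))
    ev_swap fun i => ⟨i.castSucc, by simp [ev]⟩
  have : Nontrivial (Fin n) := Fin.nontrivial_iff_two_le.2 hn
  have : Nontrivial I := v.symm.nontrivial
  have : Nontrivial (Fin (n + 1)) := Fin.nontrivial_iff_two_le.2 (by omega)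
  refine Sgn.rigid_perm h1 (fun σ => ?_) (fun i => ?_) fun w S a b ha hb hS => h3 w S hS (Sgn.exists_ev ha hb)
  · have h4 : σ ∈ Submonoid.closure (Set.range fun i : Fin n => swap i.castSucc i.succ) :=
      mclosure_swap_castSucc_succ n ▸ Submonoid.mem_top σ
    exact (Submonoid.closure_le (S := π.range.toSubmonoid)).2 (by rintro _ ⟨i, rfl⟩; exact ⟨_, h2 i⟩) h4
  · rw [← v.apply_symm_apply i, h2, sign_swap (hne _)]

end Cfsg.Agent.ODD.Hk
end

-- part: ODD/Hk/RigB
section
/-!
# The Coxeter groups of types `B` and `D` are rigid (helper10)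
-/

set_option autoImplicit false

namespace Cfsg.Agent.ODD.Hk

open CoxeterSystem Equiv Equiv.Perm Cfsg.Agent.H694 Cfsg.Agent.LieRecognition.CoxClass Cfsg.Agent.Nodes

namespace Sgn

variable {n : ℕ}

/-- the opposite signed index -/
def nu (n : ℕ) : Perm (Fin n × Bool) := Function.Involutive.toPerm TypeC.ng TypeC.ng_ng

theorem nu_apply (x : Fin n × Bool) : nu n x = (x.1, !x.2) := rfl

theorem nu_nu (n : ℕ) : Nu (nu n) := ⟨TypeC.ng_ng, fun x h => by
  have h1 := congrArg Prod.snd h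
  simp [nu_apply] at h1⟩

/-- the unsigned permutations -/
def emb (n : ℕ) : Perm (Fin n) →* Perm (Fin n × Bool) :=
  MonoidHom.mk' (fun σ => σ.prodCongr (Equiv.refl Bool)) fun _ _ => Equiv.ext fun _ => rfl

theorem emb_apply (σ : Perm (Fin n)) (x : Fin n × Bool) : emb n σ x = (σ x.1, x.2) := rfl

theorem emb_commute (σ : Perm (Fin n)) : Commute (emb n σ) (nu n) := Equiv.ext fun _ => rfl

theorem swap_prod (a b k : Fin n) (s c : Bool) :
    swap (a, s) (b, s) (k, c) = if c = s then (swap a b k, c) else (k, c) := by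
  split_ifs with h
  · rw [h]
    exact (Function.Injective.swap_apply (f := fun x : Fin n => (x, s)) (fun _ _ h => congrArg Prod.fst h) a b k)
  · exact swap_apply_of_ne_of_ne (fun h1 => h (congrArg Prod.snd h1)) fun h1 => h (congrArg Prod.snd h1)

theorem emb_swap {a b : Fin n} (s : Bool) : emb n (swap a b) = rr (nu n) (a, s) (b, s) := by
  refine Equiv.ext fun ⟨k, c⟩ => ?_
  cases s <;> cases c <;> simp [emb_apply, rr, nu_apply, swap_prod]

theorem emb_mem {G : Subgroup (Perm (Fin (n + 1) × Bool))}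
    (h : ∀ i : Fin n, emb (n + 1) (swap i.castSucc i.succ) ∈ G) (σ : Perm (Fin (n + 1))) : emb (n + 1) σ ∈ G := by
  have h4 : σ ∈ Submonoid.closure (Set.range fun i : Fin n => swap i.castSucc i.succ) :=
    mclosure_swap_castSucc_succ n ▸ Submonoid.mem_top σ
  exact (Submonoid.closure_le (S := (G.comap (emb (n + 1))).toSubmonoid)).2 (by rintro _ ⟨i, rfl⟩; exact h i) h4

theorem sum_wt_ne {S : Finset (Fin n × Bool)} {a : Fin n × Bool} (ha : a ∈ S) (hb : nu n a ∉ S) :
    ∑ x ∈ S, TypeC.wt x ≠ 0 := by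
  intro h
  have h1 := congrFun h a.1
  rw [Finset.sum_apply, Finset.sum_eq_single a] at h1
  · rw [TypeC.wt_apply, if_pos rfl] at h1
    split_ifs at h1 <;> simp at h1
  · rintro ⟨k, c⟩ hk hne
    rw [TypeC.wt_apply, if_neg]
    rintro rfl
    obtain ⟨l, d⟩ := a
    cases c <;> cases d <;> simp_all only [nu_apply, _root_.Bool.not_false, _root_.Pi.zero_apply, _root_.ne_eq, _root_.not_true_eq_false, _root_.Bool.not_true]
  · exact fun h2 => absurd ha h2

theorem ip_sum (S : Finset (Fin n × Bool)) (u : Fin n → ℤ) :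
    ∑ x ∈ S, ip (TypeC.wt x) u = ip (∑ x ∈ S, TypeC.wt x) u := by
  simp only [ip, Finset.sum_apply, Finset.sum_mul]
  exact Finset.sum_comm

theorem const_of {f : Fin (n + 1) → ℤ} (h : ∀ i : Fin n, f i.castSucc = f i.succ) (k : Fin (n + 1)) : f k = f 0 := by
  induction k using Fin.induction with
  | zero => rfl
  | succ j ih => rw [← h, ih]

theorem zero_C {f : Fin (n + 1) → ℤ} (h : ∀ i, TypeC.Cf i f = 0) : f = 0 := by
  have h1 := const_of (f := f) fun i => by
    have h2 := h i.castSucc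
    rw [TypeC.Cf, dif_pos (by simp)] at h2
    exact sub_eq_zero.1 h2
  have h2 := h (Fin.last n)
  rw [TypeC.Cf, dif_neg (by simp)] at h2
  exact funext fun k => by rw [h1 k, ← h1 (Fin.last n), h2]; rfl

theorem zero_D {f : Fin (n + 2) → ℤ} (h : ∀ i, TypeD.Cf i f = 0) : f = 0 := by
  have h1 := const_of (f := f) fun i => by
    have h2 := h i.castSucc
    rw [TypeD.Cf, dif_pos (by have := i.2; rw [Fin.val_castSucc]; omega)] at h2
    exact sub_eq_zero.1 h2
  have h2 := h (Fin.last (n + 1))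
  rw [TypeD.Cf, dif_neg (by simp), h1, h1 (TypeD.pd n)] at h2
  exact funext fun k => by rw [h1 k, Pi.zero_apply]; omega

theorem commute_of {I W : Type*} {M : CoxeterMatrix I} [Group W] (cs : CoxeterSystem M W) {X : Type*}
    {π : W →* Perm X} {ν : Perm X} (h : ∀ i, Commute (π (cs.simple i)) ν) (w : W) : Commute (π w) ν := by
  induction w using cs.simple_induction_left with
  | one => rw [map_one]; exact Commute.one_left _
  | mul_simple_left w i ih => rw [map_mul]; exact (h i).mul_left ih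

/-- the simple reflections of type `B` -/
def sgB (i : Fin n) : Perm (Fin n × Bool) := Function.Involutive.toPerm (TypeC.sg i) (TypeC.sg_sg i)

/-- the simple reflections of type `D` -/
def sgD (i : Fin (n + 2)) : Perm (Fin (n + 2) × Bool) := Function.Involutive.toPerm (TypeD.sg i) (TypeD.sg_sg i)

theorem sgB_castSucc (i : Fin n) : sgB i.castSucc = emb (n + 1) (swap i.castSucc i.succ) := by
  refine Equiv.ext fun ⟨k, c⟩ => ?_
  show TypeC.sg i.castSucc (k, c) = (swap i.castSucc i.succ k, c)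
  rw [TypeC.sg, dif_pos (by simp), swap_apply_def]
  split_ifs <;> simp_all [Fin.ext_iff]

theorem sgB_last : sgB (Fin.last n) = tt (nu (n + 1)) (Fin.last n, true) := by
  refine Equiv.ext fun ⟨k, c⟩ => ?_
  show TypeC.sg (Fin.last n) (k, c) = swap (Fin.last n, true) (Fin.last n, false) (k, c)
  rw [TypeC.sg, dif_neg (by simp), swap_apply_def]
  cases c <;> split_ifs <;> simp_all

theorem sgD_castSucc (i : Fin (n + 1)) : sgD i.castSucc = emb (n + 2) (swap i.castSucc i.succ) := by
  refine Equiv.ext fun ⟨k, c⟩ => ?_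
  show TypeD.sg i.castSucc (k, c) = (swap i.castSucc i.succ k, c)
  rw [TypeD.sg, dif_pos (by have := i.2; rw [Fin.val_castSucc]; omega), swap_apply_def]
  split_ifs <;> simp_all [Fin.ext_iff]

theorem pd_ne : TypeD.pd n ≠ Fin.last (n + 1) := by simp [TypeD.pd, Fin.ext_iff]

theorem sgD_last : sgD (Fin.last (n + 1)) = rr (nu (n + 2)) (TypeD.pd n, true) (Fin.last (n + 1), false) := by
  refine Equiv.ext fun ⟨k, c⟩ => ?_
  show TypeD.sg (Fin.last (n + 1)) (k, c) = swap (TypeD.pd n, true) (Fin.last (n + 1), false)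
    (swap (TypeD.pd n, false) (Fin.last (n + 1), true) (k, c))
  have h1 := pd_ne (n := n)
  have h2 := h1.symm
  rw [TypeD.sg, dif_neg (by simp), swap_apply_def, swap_apply_def]
  cases c <;> split_ifs <;> simp_all

end Sgn

open Sgn

/-- **`W(B_n)` is rigid.** -/
theorem rigid_B {I W : Type*} [Fintype I] [DecidableEq I] {M : CoxeterMatrix I} [Group W] [Finite W]
    (cs : CoxeterSystem M W) {n : ℕ} (v : Fin n ≃ I) (hn : 2 ≤ n) (h : Lab M v (mC n)) : Rigid cs := by
  obtain ⟨n, rfl⟩ : ∃ m, n = m + 1 := ⟨n - 1, by omega⟩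
  obtain ⟨π, h1, h2, h3⟩ := exists_pi' (TypeC.isCartan (n + 1)) cs v (fun i j => by
      rw [h]
      have := i.2
      have := j.2
      show _ = (if i = j then 1 else if (i : ℕ) = n + 1 - 1 ∧ (j : ℕ) = n + 1 - 2 ∨ (j : ℕ) = n + 1 - 1 ∧
        (i : ℕ) = n + 1 - 2 then 4 else (if (j : ℕ) + 1 = i ∨ (i : ℕ) + 1 = j then 3 else 2))
      simp only [mC, Fin.ext_iff]
      (first | (lia; done) | (split_ifs <;> omega))) sgB (phB (n + 1)) (phB_injective _) phB_sg fun i => ⟨(i, true), by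
      simp only [phB, sn, TypeC.bt_apply, if_true]
      split_ifs <;> simp⟩
  have : Nonempty I := ⟨v 0⟩
  refine rigid_sgnB (nu_nu _) h1 (commute_of cs fun i => ?_) (fun w S a ha hb hS => h3 w S hS ?_) (fun x => ?_)
    fun a => ?_
  · rw [← v.apply_symm_apply i, h2]
    exact Equiv.ext fun x => TypeC.sg_ng _ x
  · by_contra h4
    refine sum_wt_ne ha hb (zero_C fun j => ?_)
    have h5 : ∑ x ∈ S, phB (n + 1) x j = 0 := by_contra fun h5 => h4 ⟨j, h5⟩
    simp only [phB_eq] at h5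
    rw [ip_sum, ip_btC] at h5
    refine (mul_eq_zero.1 h5).resolve_left ?_
    split_ifs <;> simp
  · have h4 := emb_mem (G := π.range) (fun i => ⟨_, (h2 _).trans (sgB_castSucc i)⟩) (swap (Fin.last n) x.1)
    have h5 : tt (nu (n + 1)) (Fin.last n, true) ∈ π.range := ⟨_, (h2 _).trans sgB_last⟩
    have h6 := mul_mem (mul_mem h4 h5) (inv_mem h4)
    rw [tt_conj (emb_commute _), emb_apply, swap_apply_left] at h6
    obtain ⟨k, c⟩ := x
    cases c
    · exact (nu_nu _).tt_nu (k, true) ▸ h6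
    · exact h6
  · have : Nontrivial (Fin (n + 1)) := Fin.nontrivial_iff_two_le.2 hn
    obtain ⟨k, hk⟩ := exists_ne a.1
    exact ⟨(k, true), fun h4 => hk (congrArg Prod.fst h4), fun h4 => hk (congrArg Prod.fst h4)⟩

/-- **`W(D_n)` is rigid.** -/
theorem rigid_D {I W : Type*} [Fintype I] [DecidableEq I] {M : CoxeterMatrix I} [Group W] [Finite W]
    (cs : CoxeterSystem M W) {n : ℕ} (v : Fin n ≃ I) (hn : 4 ≤ n) (h : Lab M v (mD n)) : Rigid cs := by
  obtain ⟨n, rfl⟩ : ∃ m, n = m + 2 := ⟨n - 2, by omega⟩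
  obtain ⟨π, h1, h2, h3⟩ := exists_pi' (TypeD.isCartan n) cs v (fun i j => by
      rw [h]
      have := i.2
      have := j.2
      show _ = (if i = j then 1 else if TypeD.Adj i j ∨ TypeD.Adj j i then 3 else 2)
      simp only [mD, Fin.ext_iff]
      split_ifs with h1 h2 h3 h3 <;> simp only [TypeD.Adj] at * <;> (solve | lia | omega)) sgD (phD n) (phD_injective _) phD_sg fun i => ⟨(i, true), by
      simp only [phD, sn, TypeD.bt_apply, if_true]
      split_ifs <;> simp⟩
  have : Nonempty I := ⟨v 0⟩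
  have hν := nu_nu (n + 2)
  have hs : ∀ w, sign (π w) = 1 := by
    intro w
    induction w using cs.simple_induction_left with
    | one => rw [map_one, map_one]
    | mul_simple_left w i ih =>
      rw [map_mul, map_mul, ih, mul_one, ← v.apply_symm_apply i, h2]
      have h4 : ∀ a b : Fin (n + 2) × Bool, a ≠ b → sign (rr (nu (n + 2)) a b) = 1 := fun a b hab => by
        rw [rr, map_mul, sign_swap hab, sign_swap fun h => hab ((nu _).injective h)]; decide
      induction v.symm i using Fin.lastCases with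
      | last => rw [sgD_last]; exact h4 _ _ (by simp)
      | cast j => rw [sgD_castSucc, emb_swap true]; exact h4 _ _ (by simpa using Fin.castSucc_lt_succ.ne)
  refine rigid_sgnD hν h1 (commute_of cs fun i => ?_) (fun w S a ha hb hS => h3 w S hS ?_)
    (fun g => hν.mem_of_even ?_ (by rintro _ ⟨w, rfl⟩; exact hs w)) hs fun a b => ?_
  · rw [← v.apply_symm_apply i, h2]
    exact Equiv.ext fun x => TypeD.sg_ng _ x
  · by_contra h4
    refine sum_wt_ne ha hb (zero_D fun j => ?_)
    have h5 : ∑ x ∈ S, phD n x j = 0 := by_contra fun h5 => h4 ⟨j, h5⟩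
    simp only [phD_eq] at h5
    rwa [ip_sum, ip_btD] at h5
  · have h4 := emb_mem (G := π.range) fun i => ⟨_, (h2 _).trans (sgD_castSucc i)⟩
    have h5 : rr (nu (n + 2)) (TypeD.pd n, true) (Fin.last (n + 1), false) ∈ π.range := ⟨_, (h2 _).trans sgD_last⟩
    have h6 : ∀ a b : Fin (n + 2), a ≠ b → rr (nu (n + 2)) (a, true) (b, false) ∈ π.range := by
      intro a b hab
      obtain ⟨σ, h7, h8⟩ : ∃ σ : Perm (Fin (n + 2)), σ (TypeD.pd n) = a ∧ σ (Fin.last (n + 1)) = b := by
        refine ⟨swap (swap (TypeD.pd n) a (Fin.last (n + 1))) b * swap (TypeD.pd n) a, ?_, ?_⟩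
        · rw [Perm.mul_apply, swap_apply_left, swap_apply_of_ne_of_ne _ hab]
          intro h7
          exact pd_ne ((swap (TypeD.pd n) a).injective (by rw [← h7, swap_apply_left]))
        · rw [Perm.mul_apply, swap_apply_left]
      have h9 := mul_mem (mul_mem (h4 σ) h5) (inv_mem (h4 σ))
      rwa [rr_conj (emb_commute _), emb_apply, emb_apply, h7, h8] at h9
    rintro ⟨a, s⟩ ⟨b, t⟩ h7 h8
    have hab : a ≠ b := by
      rintro rfl
      cases s <;> cases t <;> simp_all only [nu_apply, _root_.Nat.reduceLeDiff, _root_.Prod.forall, _root_.Bool.forall_bool, _root_.ne_eq, _root_.forall_exists_index, _root_.MonoidHom.mem_range, _root_.not_true_eq_false, _root_.Prod.mk.injEq, _root_.Bool.false_eq_true, _root_.and_false, _root_.not_false_eq_true, _root_.Bool.not_true, _root_.Bool.true_eq_false, _root_.Bool.not_false]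
    cases s <;> cases t
    · exact emb_swap false ▸ h4 (swap a b)
    · have h9 := h6 b a hab.symm
      rwa [rr, swap_comm, swap_comm (nu _ _)] at h9
    · exact h6 a b hab
    · exact emb_swap true ▸ h4 (swap a b)
  · obtain ⟨k, hk⟩ : ∃ k : Fin (n + 2), k ∉ ({a.1, b.1} : Finset (Fin (n + 2))) := by
      by_contra h4
      have h5 := Finset.card_le_card (s := Finset.univ) (t := {a.1, b.1}) fun k _ => by_contra fun h5 => h4 ⟨k, h5⟩
      have h6 := Finset.card_le_two (a := a.1) (b := b.1)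
      rw [Finset.card_univ, Fintype.card_fin] at h5
      omega
    rw [Finset.mem_insert, Finset.mem_singleton, not_or] at hk
    exact ⟨(k, true), fun h4 => hk.1 (congrArg Prod.fst h4), fun h4 => hk.1 (congrArg Prod.fst h4),
      fun h4 => hk.2 (congrArg Prod.fst h4), fun h4 => hk.2 (congrArg Prod.fst h4)⟩

end Cfsg.Agent.ODD.Hk
end

-- part: ODD/Hk/RigE6
section
/-!
# `W(E6)` is rigid (lead)

Words are compared on the strictly dominant vector `ρ`.  Certificate: the 36 reflections, 25 class representatives and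
for each pair a conjugating word.  Burnside's relation is used for the products of two commuting reflections.
-/

set_option autoImplicit false
set_option linter.unusedSectionVars false

namespace Cfsg.Agent.ODD.Hk.E6

open CoxeterSystem Cfsg.Agent.Tits.Core Cfsg.Agent.Characters.Core Cfsg.Agent.ChevalleyStructure.CoxeterGeom
  Cfsg.Agent.Tits.Roots Cfsg.Agent.LieRecognition.CoxClass

/-! ### data -/

/-- words of the 36 reflections -/
def twL : List ℕ :=
  [6, 92, 15056, 5448, 340692, 391086, 626386, 8149646, 19679250, 25796810, 31208854, 31561612, 785881784, 904473272, 1267655750, 1469423772,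
  1550131000, 1592953920, 19342459690, 34013887308, 37968540808, 38533491404, 38833251844, 61696461712, 75537748914, 78080026260, 950055835758,
  1903006329520, 2306501981458, 2950989502556, 3822990596234, 106349182559112, 113019836015446, 120355718226698, 4001271473734684,
  426970231804202798]

/-- words of the 25 class representatives (the first five are elliptic) -/
def rL : List ℕ :=
  [76257, 3684960, 6563082504, 240758166347, 60501224093403705842, 0, 6, 13, 44, 111, 317, 312, 1140, 1289, 1632, 2291, 668, 10744, 9029, 11430,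
  4681, 55826, 390788, 2601779332, 34394023763]

/-- conjugation of the reflections by the simple reflections -/
def piN : ℕ := 0x8a38607d775c6da38d7965544d22481d960c1444503c32ca1820408e28607d84dc55241e34c6d475a2d93c85d644a14e1c62440c20408e275b69e85681f64f5dc5544d244a60e1cc19024434b0c81420408df86089e5dc65a6d875140f35259550e4cb30a2481c61420440c08e286071975f6d679039a5544cc4582972122cf24d1061470c20018e285c7de76059a4585db3144d264b3c93554063851ca203101080

/-- the simple reflections -/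
def siL : List ℕ := [0, 2, 7, 19, 33, 20]

/-- the class of `t * r` -/
def clN : ℕ := 0x18def1dde378def78dcf70c6e7ddc31b86f70c6f1bc63c6318c6318c630bc616b5e30b5e178c2f0b5e30bc2f1808421084221042c0858c6384e689acab02c6319573195b5ad6b5ad6b5ac9b59294dac94d936b26c94dac9b26d6211e3181e318c0000c7078c0000003000000000003def18d8318003000200840e00021784210bc017380f7b9ee00000080010802f085ec63c2e6058e6b00c6b18e7b5cd18180081c10842180820600220b9c108590601ce831cca51518c5518c6318c634546318c6318c6318c6318a94ac6154c4e74952539ca4b9d2525ca7294e525ce539ce6a9cd389ca53946d2b464a946365cad18aa3254e2b9aa7394a52b4a5294acbb59694ca494c932926494dacb926529ca32b4a36b4ad28da524ca56b4556b5a2a4c92a52549bbd0f7bdcf6bdaf735af73dad7b9cd6bdce43dce739c87b9cc73dcc6398e7318e43d8c7410c6320c4318c63187731cc6358c6b6ad655ac635b5631956b18c3b18839d075a96a52d4a4ad2b5252a52d29529494a94a329494a526529494a5494a5294a52a525294a5294a5294a529498c642107421073a0e841ce8420e741d0739ce741ce739ce5318c6318c6318c6318c6318c6318c6318c6318c6318c6a5294a5294a5294a5294a5294a5294a5294a5294a5294c5274a6273a52939ce738e2739e2339cf138ce93a4e988c6d1b46d6b5ad68c6d1b46d1b5ad6b5ad1b46d68dad69ced39c671b467295a32b4ed194653b4a568c6369ca56a52549d2739ce738c6719525194a5394a5194673a4a72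

/-- conjugating words -/
def cjN : ℕ := 0x18a7a1200000000000000038026000000000000d78ce8ea2e0000000000000686286a70000000000000017ebb760000000000000000001d2000000000001ecafecc170000000000000012aa5750000000000001c9f55c6c000000000000008b5f94b00000000000083bf7ecae000000000172a5d3cf82000000000000046624655f00000000000000022c13200000000000000000001f00000000000790724c9310000000000000001197af000000000000000000006000000000000000099f440000000000000000000d5000000000034f31f2cde700000000000000000000000000000000000002839800000000000000004692a00000000000000000d2080000000000000000004da000000000000000385a9400000000000000ee9333d00000000000000028367d000000000000000000d13000000000000000005b8b0000000000000416be41000000000000000005be3e00000000000012d231d3e00000000000000008005600000000000000000000000000000000005a547188000000000000006254ad30000000000000000000a20000000000000000000a600000000000000155cc4500000000000000000002400000000000000000000f0000000000000095896bb00000000000000000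00130000000000000004de80200000000000000000000500000000000000034b72c0000000000000000000010000000000000022158e6000000000000000012b0d0000000000000060c19fd000000000000006bc077f000000019c9200856ee3e00000000000000ee9606500000000000000007d6030000000000000013c9b6f000000000000000000000000000000000001ec88f1000000003b5047d5441030000000008794d8cd2f7a0000000000000002d88e8000000000000068604c9b00000000000000046aad600000000000000d4357d2000000000135d1a94096a000000003b511ed9c4d2e000000000000001e55aad000000000878bba0c42be000000000000006b4d93b000000003b4d21655c54d000000019f1be9c570ef30000000000000a0e0a0840000000000000000b20c40000000000000000000040000000000000012b135100000000000482c17586d00000000000000000b70d00000000000000000001f00000000000000000b70b00000000000000000373400000000000000004963c000000000000001d769b1000000000000000001fdd000000000000000001a260000000000000000000000000000000000000b210f0000000000000034880d00000000000001432ee0d10000000b59c36461f411900000000000000000001d0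000022c53d2587e4868a00000000000000000000d000000000000000002754000000000000000001736000000000000aee32b9340000000000000000001c6000000000000000433dfb0000000000000000003ba00000000000000000d20f00000000000000000000500000000000000000000d000000000000000000013000000000000000000006000000000135d1a94096a000000000000000e0c18900000000000005777a785000000000000000000000000000000000e5d069c69000000000000e73c2e4b6000000023de0d1836d7090000932c64698ebd8ea5a00000000002bfce42b29d0000000fb125ba97fe2ac0000000051fb8ba50fa25000000000000e73c2c1930000000fb125ba97fe7ab00000000000000ab85e7f0000006dd80911668d3e000000000000000011aa7100000009d5bbde22cddcf00000000000000ac95661000000000000000003a2300000000000000011273200000000000000000ff1800000000000000000084a0000000000000018a7a0d00000000002af12178e6400000000000648b2e46f30000000fb125ddea142d60000000000377b561f75a00000000000000001826d000000000000000015f4a000000000000000003a1a000000000000001880d7f00000000000000000ba7f000000000000000003731000000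0000000000001020000000000000000058ae000000000000210898e6000000000000000000000600000000000000004963b00000000000000000002400000000000000000000000000000000000000006f0000000000000000007220000000000000000616ca00000000000000008005f000000000000000082d5f0000000000000000034e1000000000000000385aa6000000000000000002a12000000000000000000d26000000000000000003a260000000000000000034ff000000000000000000d420000000000000000005fc000000000000000000089000000000000000001e0500000000000000000000000000000000000000b417000000000000000002471000000000000000000114000000000000000003a0c00000000000000000010200000000000000000061a0000000000000000004d60000000000000000000a600000000000000000006f00000000000000000012000000000000000000001f0000000000000000004f400000000000000000000d00000000000000000000500000000000000000001900000000000000000002b00000000000000000000000000000000000011925400000000000000005015d000000000000002215ada00000000000000022752000000000000000011aa74000000000004c8363107200000000000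0000015fdb000000000000000019707000000000000000099f420000000000000000000b200000000000000000001900000000000000002844f000000000000000003a260000000000000004145d1000000000000000015fdb000000000000000000360000000000000000005c0b000000000000000005c4b00000000000000000006f00000000000000000001900000000000000000084e00000000000000000001e0000000000000000953140000000000000000001e400000000000000001970c00000000000000000007b000000000000000000d2f000000000000000000002000000000000000000104000000000000000000004000000000000000003a2400000000000000000000d00000000000000000072200000000000000000000000000000000000000002b00000000000000000b41700000000000000000000600000000000000000000000000000000000000000000000000002181f25bee70000000000000034880a900000000000000000000400000000000000d454db1000000000000e73c33af9000000000000000002a1000000000000000000001f00000000000005ce51fd80000000000ea8da083852000000000000000003a2500000000000000001267100000000000004b86bb87000000000000000002a1000000000000000ab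85efd00000000017d2c6a04f0a0000000000000000000050000000000008d64825bd00000000000004cb1808200000000000000000078e0000004f79b055c8e57f30000000000000034880d00000000000000000a207500000000000000000048d0000004f7457be83ecaee00000000000000000006f000000000000001d6b222000000000000000000000000000000000000003a2500000000000000000000d000000000000000000000000000000004c83631072000000019f1be9c4de639000000000000000385aa6000000000000000000006000000000878bba0c42be000000000000000000000000000000007e5012a8e9000000000000000111ade0000000000000000000040000000000000013e91650000000000000034624a900000000000000001266f00000000000000001723b0000000000000013e916500000000000002a54b5f30000000000000000b213300000000000000001266f0000000000000002d82600000000000000000000db00000000000000000011200000000000000348810b000000000000000000005000000000000000000019000000000000000003a180000000000000000000db00000000000000000001b0000000000000000000050000000000000004de8020000000000000002abc420000000000000000281a5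00000000000000000002500000000000000000002b00000000000000000000000000000000000000012f00000000000000000007b000000000000000000000000000000000000000722000000000000005e8fd250000000000000000000000000000000000000001d20000000000000a0e0b328000000000000000003a1800000000000000ce3e4ab000000000000000dd284800000000000000007cf990000000000000060c19fd00000000000012850f98c0000000000000000034e100000000000000000a15500000000000012850f98600000000000012850f9980000000000038b77fc3f70000000000000000034ff0000000000000000033bb0000000000000000005fc0000000000038b77fc2d100000000000012850f97a0000000000000000000000000000000000002d827e0000000000038b77fc3d90000000000000000001140000000000000000033d900000000000000000010200000000000000000061a0000000000000000004d60000000000038b77fc2b300000000000000000010e00000000000000000012000000000000000000001f0000000000000000004f400000000000000000000d00000000000000000000500000000000000000001900000000000000000002b0000000000000000000000000000000000000001d200000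000000000000007b000000000000000003a1800000000000003937b48600000000000003940ae5b00000000000000000048c0000000000000002abb23000000000000008b5f90500856d22dbb46ecd33e321989e3ac0d893546ee894000000000000000061abb0000000000000007ba92f00000000000000002844f000000000000017ab622a000633c5682eca311bc6e00856d22dbb46ecd33e3700000000000000eea24d900000000000000011aa74000000000000000000005012fe8c8f0f4b36651210000000000000000005c4b0000000000002dad10db400000000000000361a05f000000000000000000000000000000000017ab620c000633c5682eca311bc730000000000000022172fa0000000000000686702050000000000000000001090000000000002dad10d9600000000000000361a0410000000000000000000130000000000000000000250000000000000686701e700000000000000000013300000000000000000000d000000000000000000006000000000000000000000000000000001fb6a0290900000000017d2c6890cdb000000000023be2f2d7e400000000000000000084e0000000000000000000190000000000051b2b4fa450000000051fb8ba50fa33000000000bb6389fa7fd2000000000000babd0b6090000006dd8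0911668d276000000000000000003a26000000023de0d68f27743000000023de0d1836d76b0000000001ac51379d0dc0000000000000004dea1900000300d993f2586d07a0000000000002b5949fe00000000051fb8c5d97ec400000000000000000084e00000000000000221604a0000000fb125ddea142db000000000000000019719000000023de0d68f2773f000000000bb638854b60a0000000000000000b21b10000000000000004de5720000000000000684a90ed0000000000000000b21340000000fb125ddea1439100000000000092797302200000000000000000010400000000000000001970700000000000000000084e00000000000000000002b000000000001fb6a0290900000000000000000000600000000000000000000000000000002af12176c45000000000000e5d069c6e000000023de0d68f2773f00001506577ccb3fa6a9f000000000000e73c33b000000000fb125ba97fe3a10000000051fb8c5d97ebf000000000000210898a590000006dd80911668d8e100000000000020d4a165c00000050b4650c4253958000000000000001e55aad0000000fb125ddea1439100000000000020d4a165c00000000000000034b72c00000000000000000373100000000000000000247100000000000000000012f00000000000000a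b85e7a00000000002af12178e690000000000000001127320000000fb125ddea1439100000000000000011aa720000000000000000b212400000000000000000075500000000000000000084c00000000000004b0a955c00000000000000000084e00000000000648b2e46f300000000000000000002b000000000000000003a16000000000000000012b0d00000000000000000002b000000000000e73c2e4a60000000000000000000060000000000000000000000000000000079072944d300000000052e1bac6d5cd000000000000000000004000000000669df63989c60000000000bd71aaeb0da000000000172a5ee61c5c00000000000000000001f000000000171aeafc6f58000000000a1bc6ce7083b0000000000334593f68710000000000334593f687800000000000000000072c0000000000000000000db00000000000753152338100000000000000000599d00000000000000000000500000000000000000000300000000000000000084c000000000034f3220dfef000000000000000001fd30000000000000000000050000000000000000005fe0000000000000000001e40000000000000000196b700000000000000000001700000000000000000002b0000000000000000000000000000000000000000a200000000000000000001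100000000000000000000000000000000000000000000000000000000000002b00000000000000000a15500000000000000000004200000000000000000000000000000000000000084c000000000000000015fdb0000000000000a06cfe020000000000000000000000000000000000013ebe60000000000000462fb1efc0000000000000000004da000000000005ea248ca8c0000000000000002d827e000000000000000f34928000000000000000111ade000000000000000435ba60000000000000000021f8000000000000d84e5d3ac00000000000000022c13000000000000000022c1c300000000000000000000200000000000046624e6f000000000000000077bc14000000000000000099f42000000000000000099fd500000000000000000000000000000000000aca23c20000000000000a0e0b32800000000000000004f6fd000000000000000015fdb000000000000000003a2a0000000000000018a97460000000000000012b26a60000000000000000004da0000000000000000001e40000000000000002abc4200000000000000000b6140000000000000000019e40000000000000000032c6000000000000000000722000000000000000111ade00000000002c4285e4a7c000000000000016eaffe1000000000000d84e5d3ac0000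0000000000ac9a296000000000000462fb1ede00000000000000000072c000000000001ecb026f750000000000000018a84f000000000000000ac9a3220000000000001ee69f9a8000000000000000385c25000000003b4d21655f2170000000000000a0e0b3280000000000000018a84e6000000000000000027350000000000135d1a94096a000000000000000000003000000000005ea248c88f000000000000000080d2900000000000000078127b000000000878bba0c42be0000000000000000006030000000000000000000000000000000000001127330000000000000034880ee00000000000000078125d0000000000000000000db0000000000000000000a70000000000000000000110000000000000034880d000000000000000000001700000000000000000013300000000000000000000d00000000000000000000600000000000000000000000000000000000000599d0000000000002784f35a1000000002cd9c443a21620000000000000000007220000000139f45dd96ed26000000000668409bf296200000000000000001711500000000000000000001f000000002cd9c443a2255000000000000000f64a3a0000000000000003d621f0000000000000000126a00000000000000000032330000000000000000000db000000000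000000016f8d000000000000000227564000000000000aee32b9160000000000000000000030000000000000000b1e430000000000000000029f800000000000000000200400000000000018fbe1a700000000000000000005fe0000000000000000000170000000000000000030ab000000000000000000474000000000000aee32b8b60000000000000000000040000000000000000000a2000000000000000000002000000000004c8363107200000000000000000000000000000000000000002b00000000000000000000000000000000000000000900000000000000000000000000000000000000012f000000000004c83631154000000000001ecafec5af00000000000000000000000000000000003929c68d00000000000d78cf794b7000000000000000001fd700000000000000000001e0000000000000082a83a9000000000000000385c17000000000000000781261000000000000000080d2b000000000000000012673000000000000000000004000000000000000080d2700000000000000006183b0000000000000000000a600000000000000000000200000000000000a170f7d00000000000000001267300000000000000000dee700000000000000000048c0000000000000000140c600000000000000000000000000000000000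000dee3000000000000000001fd7000000000000000027350000000000000000002768000000000000000003a2a0000000000000000000000000000000000001127320000000000000000001e40000000000000000000140000000000000000000020000000000000000000060000000000000000000000000000000000000001e400000000052e1ba8a163c000000002442c1b6fdb200000000000000002d827e0000000000adb1f73fc5c00000000213f105334dc700000000000000000078e00000000000000007cf990000000004bfddc2be68a0000000004bfddc2bed02000000002442c19c6b7d60000000000000000034ff00000000000000000010c0000000000000000000db000000002442c19c6b7db00000000213f10524d09b00000000000000698778500000000000000000a15500000001032be2a4e914c00000000000000000011400000000000000000077100000000000000000002500000000000000000061a00000000000000000001700000000e8b972401b44300000000000000000002600000000000000000012000000000000000000001f0000000000000000000be00000000000000000000200000000000000000000500000000000000000000300000000000000000002b0000000000000000000000000000000000000000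0100000000000000000000000000000000000000002b000000000166e708d9c6d00000000000d78cf7675a0000000000000000004da000000000000000061ae900000000005e4dac510920000000000000000001140000000000000000000d500000000000000000df4500000000000000000b8360000000002941f894d2f90000000000000000034e800000000000000000002600000000000000000001f000000000000000001a50000000000000000001a1c0000000000000000000130000000000000000000110000000037790052e8d1500000000000000000078e00000000000000000075a0000000000000000000050000000000000000006030000000000000000000030000000000000000003ba00000000000000000010c0000000000000000001090000000000000000000db0000000000000000000a700000000000000000000000000000000000000002500000000000000000001700000000000000000001400000000000000000000200000000000000000000600000000000000000000000000000000000000000000000000000000cdee08c000000000000000d824290000000000000002d827e0000000000000002abc600000000000000002836a70000000000000000a1e7800000000000000007cf99000000000000000061ae4000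00000000000005097b0000000000000000283c200000000000000001725900000000000000001664a0000000000000000124a300000000000000000b83100000000000000000b6c500000000000000000b41700000000000000000a155000000000000000005bbe0000000000000000034e30000000000000000033770000000000000000030c9000000000000000002a16000000000000000001e07000000000000000001a170000000000000000007550000000000000000007400000000000000000005fe0000000000000000004920000000000000000001e40000000000000000001040000000000000000000a200000000000000000008d00000000000000000000f00000000000000000002b00000000000000000000100000000000000000000000000000000000000012f000000000000000095372000000000007ed0c4dbf50000000000013fa73a7ea00000000000000004f75b00000000000d78cf7728300000000000020d4f2cac0000000000000007a6c21000000000000c85a6b264000000000000000061d3500000000000083bf7bf4300000000002966ffa055e000000000000210a5ae48000000000000001197911000000000000eadf863750000000000062781bbaa60000000000f8a9220f20300000000000000000078e00000000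0000000d8267a000000000000e1127f166000000000005ea24892af000000000006227440fad0000000000fa56adad697000000000000000005bf700000000000000000b82b000000000000218daa02000000000000113e99479300000000003780655c23b0000000000c0a0decc63300000000000000000edc300000000000000cdee06300000000003674c7d7dc5000000000000007b263a000000000017d3176f53e20000000000000082c762400000000000012196e19700000000000005a1823da0000000000000004de6e300000000005e4da5e6748000000000007c76fe00c4000000000000002215aa600000000000d78d0e7c8500000000000d78cf794a7000001a510c903b1d89ad00000000000121dd3b48300000000000000958987b0000000000002968befff0000000007ecb6e745d4c000000000001ecafec59f00000030ffd0d18c5a9380000000000000295e6b4a00000000e8b972401b44300000000001ba2290458b0000000000000000000060000000d907c3a7c97b76000000000000007b1f568000000002f985f7e7a8e1000000000000068604c9b000000000007e5012a8e900000000000000000001f0000000000000000000d50000000000000007ab793000000019f1be9c570ef30000000000000686066b10000000000366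c03abeb00000000000000000004da0000000000000000001130000000000001c9f33c7600000000000000000072c00000000000083bf5ccb80000000000000000019ee0000000000000000000000000000000000000b20fa0000000000010bde6fea200000000000012d240edd0000000000001aad4a1830000000006d767955708c00000000000028a43dfec000000000000000385f510000000001ac642b5ad4a00000000000004b815cd9000000000000000001aa800000000000000ce77dc700000000000000119615e000000000000000012678000000000000016fb86880000000000000416be5010000000000000497e36f90000000001845f756eacb000000000000000000112000000000a6c36f0315e2000000000000296c845ec00000000000000006f9ba0000000000ea525f6bcc300000000000000000179a000000070ea4c9faff42d00000000000000000001d00000001282efd0f4553c000000000000202736bb90000000000adb1f7446fe0000000000000416cd5af00000000000000000001b000000000000000015503000000000000e11292f6100000000000000000d2060000000000000000032440000006dd8081a27f337e00000000000000000d21200000001feb67ee36a9420000000000000004de55e000000000000000000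00400000000000004b8672e50000000000b08565df5dd000000000000000385aa60000000000000000000db0000000000008d648257900000000000000ac95661000000000000000e0c18900000300e7ed41873961900000000000000eea24d700000000000114a2a77820000000000000000000000000000000000000b210f0000000000000000019f000000000000000000001900000ad97c424149f6c8d0000000000004662556fe00000000000028a43e1090000000024decaa714ed600000000000000038025b0000000006d85ed3ef0a8000000000000000000002000000000a6c5a42471120000000000000000b21370000000000066c1f8ca280000000000000004de56000000000000000000000500000000000000000000d00000000000000000001300000000816f30b5cf8a10000e2d30ee21ce271aeb000000000000000005b970000000000000000003bc0000000fb125ba97fe7ab00000000000d78cf77283000000000000002215b9000000000000000000000400000000000000aca1aca000000003b511ed9c674400000000000000000078e00000000000000000001f00000000000d78cf794a70000000000002968bf53c000000000000000003a250000006dd7fd52810832800000000000000000df3f00000000000000001267b000000000000016fb8626000000000000016fb862a00000000000000000000500000000000000000001900000000000000000012f0000000000039a3e6d85a00000000000028a43dfe30000000000000000019f000000000000004b0a955c0000000000000686701e7000001a510c903b1d89ad000000000a6c5a42471c80000000000000000197070000000000000000000000000000000000000197070000000024decaa714ed600000000000000000000000000000000000000000000003a53a698a7680bb8000000000000000000000000000000816f5407e5487000633c5682eca311bc730000000fb125ddea14391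

/-- commuting pairs of distinct reflections -/
def wtN : ℕ := 0x2208863bf2630b8c47d901084df204569eb4249f03459484297ec1c0d51292720e35c1ca0b117334c170b199a1411ec8b524aac605e18872a91391a3346c320d6d8486c3bc6c1007c42b6520711b5ae2815098dd42c47c02f0727168728198506f24aa8e845ca191cc9b071256660a70c7c142598a94a0c39d483f801e8ab550447616db2102b4925e340d4b82c1b262a98a2ed04f283a0a68e32595510ee59ca080

/-- vectors of the root lattice -/
structure V where
  a : ℤ
  b : ℤ
  c : ℤ
  d : ℤ
  e : ℤ
  f : ℤ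

/-- the simple reflections on vectors -/
def sv (i : Fin 6) (x : V) : V :=
  match i.val with
  | 0 => ⟨x.b - x.a, x.b, x.c, x.d, x.e, x.f⟩
  | 1 => ⟨x.a, x.a + x.c - x.b, x.c, x.d, x.e, x.f⟩
  | 2 => ⟨x.a, x.b, x.b + x.d + x.f - x.c, x.d, x.e, x.f⟩
  | 3 => ⟨x.a, x.b, x.c, x.c + x.e - x.d, x.e, x.f⟩
  | 4 => ⟨x.a, x.b, x.c, x.d, x.d - x.e, x.f⟩
  | _ => ⟨x.a, x.b, x.c, x.d, x.e, x.c - x.f⟩

/-- the strictly dominant vector -/
def rho : V := ⟨8, 15, 21, 15, 8, 11⟩

/-- a word applied to `ρ` -/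
def ev (ω : List (Fin 6)) : V := ω.foldr sv rho

/-- equality test -/
def eqv (x y : V) : Bool :=
  decide (x.a = y.a) && decide (x.b = y.b) && decide (x.c = y.c) && decide (x.d = y.d) && decide (x.e = y.e) &&
    decide (x.f = y.f)

theorem eq_of_eqv {x y : V} (h : eqv x y = true) : x = y := by
  cases x
  cases y
  simp only [eqv, Bool.and_eq_true, decide_eq_true_eq] at h
  obtain ⟨⟨⟨⟨⟨rfl, rfl⟩, rfl⟩, rfl⟩, rfl⟩, rfl⟩ := h
  rfl

/-- decoding of words -/
def dec (n : ℕ) : List (Fin 6) :=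
  Nat.rec (motive := fun _ => ℕ → List (Fin 6)) (fun _ => [])
    (fun _ r n => cond (Nat.beq n 0) [] (Fin.ofNat 6 (Nat.mod n 7) :: r (Nat.div n 7))) 40 n

/-- the reflections -/
def tw (t : Fin 36) : List (Fin 6) := dec (twL.getD t 0)
/-- the class representatives -/
def rw' (r : Fin 25) : List (Fin 6) := dec (rL.getD r 0)
/-- conjugation by a simple reflection -/
def pi (i : Fin 6) (t : Fin 36) : Fin 36 := Fin.ofNat 36 (Nat.land (Nat.shiftRight piN (Nat.mul 6 (Nat.add (Nat.mul 36 i.1) t.1))) 63)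
/-- the simple reflections -/
def si (i : Fin 6) : Fin 36 := Fin.ofNat 36 (siL.getD i 0)
/-- the class of `t * r` -/
def cl (r : Fin 25) (t : Fin 36) : Fin 25 := Fin.ofNat 25 (Nat.land (Nat.shiftRight clN (Nat.mul 5 (Nat.add (Nat.mul 36 r.1) t.1))) 31)
/-- the conjugating word -/
def cjw (r : Fin 25) (t : Fin 36) : List (Fin 6) := dec (Nat.land (Nat.shiftRight cjN (Nat.mul 84 (Nat.add (Nat.mul 36 r.1) t.1))) 0xfffffffffffffffffffff)
/-- conjugation by a word -/
def act (g : List (Fin 6)) (t : Fin 36) : Fin 36 := g.foldr pi t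
/-- the class of `a * b * r` -/
def cl2 (a b : Fin 36) (r : Fin 25) : Fin 25 := cl (cl r b) (act (cjw r b) a)
/-- the weight: `1` for commuting distinct reflections -/
def wt (a b : Fin 36) : ℕ := Nat.land (Nat.shiftRight wtN (Nat.add (Nat.mul 36 a.1) b.1)) 1
/-- the number of the elliptic class, `5` otherwise -/
def el (r : Fin 25) : Fin 6 := Fin.ofNat 6 (min r 5)
/-- the coefficients of Burnside's relation -/
def cnt (r : Fin 25) (k : Fin 6) : ℕ := ∑ a, ∑ b, if el (cl2 a b r) = k then wt a b else 0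

/-- a simple reflection on six differences of naturals -/
private noncomputable def stp_h86 (i : ℕ) (k : (ℕ → ℕ → ℕ → ℕ → ℕ → ℕ → ℕ → ℕ → ℕ → ℕ → ℕ → ℕ → Bool)) (a a' b b' c c' d d' e e' f f' : ℕ) : Bool :=
  @Bool.rec (fun _ => Bool)
    (@Bool.rec (fun _ => Bool)
      (@Bool.rec (fun _ => Bool) (k a a' b b' c c' d d' e e' (Nat.add c f') (Nat.add c' f))
        (k a a' b b' c c' d d' (Nat.add d e') (Nat.add d' e) f f') (Nat.beq i 4))
      (k a a' b b' c c' (Nat.add (Nat.add c e) d') (Nat.add (Nat.add c' e') d) e e' f f') (Nat.beq i 3))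
    (@Bool.rec (fun _ => Bool)
      (@Bool.rec (fun _ => Bool)
        (k a a' b b' (Nat.add (Nat.add (Nat.add b d) f) c') (Nat.add (Nat.add (Nat.add b' d') f') c) d d' e e' f f')
        (k a a' (Nat.add (Nat.add a c) b') (Nat.add (Nat.add a' c') b) c c' d d' e e' f f') (Nat.beq i 1))
      (k (Nat.add b a') (Nat.add b' a) b b' c c' d d' e e' f f') (Nat.beq i 0))
    (Nat.ble i 2)

private noncomputable def run_h86 (L : List (Fin 6)) : (ℕ → ℕ → ℕ → ℕ → ℕ → ℕ → ℕ → ℕ → ℕ → ℕ → ℕ → ℕ → Bool) → Bool :=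
  @List.rec (Fin 6) (fun _ => (ℕ → ℕ → ℕ → ℕ → ℕ → ℕ → ℕ → ℕ → ℕ → ℕ → ℕ → ℕ → Bool) → Bool) (fun k => k 8 0 15 0 21 0 15 0 8 0 11 0) (fun i _ ih k => ih (stp_h86 i.1 k)) L

private theorem run_eq_h86 (L : List (Fin 6)) : ∀ (k : (ℕ → ℕ → ℕ → ℕ → ℕ → ℕ → ℕ → ℕ → ℕ → ℕ → ℕ → ℕ → Bool)) (g : V → Bool),
    (∀ a a' b b' c c' d d' e e' f f' : ℕ, k a a' b b' c c' d d' e e' f f' =
      g ⟨(a : ℤ) - a', (b : ℤ) - b', (c : ℤ) - c', (d : ℤ) - d', (e : ℤ) - e', (f : ℤ) - f'⟩) → run_h86 L k = g (ev L) := by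
  induction L with
  | nil => exact fun k g h => h 8 0 15 0 21 0 15 0 8 0 11 0
  | cons i L ih =>
    intro k g h
    refine ih (stp_h86 i.1 k) (fun v => g (sv i v)) fun a a' b b' c c' d d' e e' f f' => ?_
    have H : ∀ (A A' B B' C C' D D' E E' F F' : ℕ) (x y z u v w : ℤ), (A : ℤ) - A' = x → (B : ℤ) - B' = y → (C : ℤ) - C' = z →
        (D : ℤ) - D' = u → (E : ℤ) - E' = v → (F : ℤ) - F' = w → k A A' B B' C C' D D' E E' F F' = g ⟨x, y, z, u, v, w⟩ := by
      rintro A A' B B' C C' D D' E E' F F' _ _ _ _ _ _ rfl rfl rfl rfl rfl rfl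
      exact h ..
    match i with
    | ⟨0, _⟩ =>
      exact H (b + a') (b' + a) b b' c c' d d' e e' f f' ((b : ℤ) - b' - (a - a')) _ _ _ _ _ (by omega) rfl rfl rfl rfl rfl
    | ⟨1, _⟩ =>
      exact H a a' (a + c + b') (a' + c' + b) c c' d d' e e' f f' _ ((a : ℤ) - a' + (c - c') - (b - b')) _ _ _ _
        rfl (by omega) rfl rfl rfl rfl
    | ⟨2, _⟩ =>
      exact H a a' b b' (b + d + f + c') (b' + d' + f' + c) d d' e e' f f' _ _
        ((b : ℤ) - b' + (d - d') + (f - f') - (c - c')) _ _ _ rfl rfl (by omega) rfl rfl rfl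
    | ⟨3, _⟩ =>
      exact H a a' b b' c c' (c + e + d') (c' + e' + d) e e' f f' _ _ _ ((c : ℤ) - c' + (e - e') - (d - d')) _ _
        rfl rfl rfl (by omega) rfl rfl
    | ⟨4, _⟩ =>
      exact H a a' b b' c c' d d' (d + e') (d' + e) f f' _ _ _ _ ((d : ℤ) - d' - (e - e')) _ rfl rfl rfl rfl (by omega) rfl
    | ⟨5, _⟩ =>
      exact H a a' b b' c c' d d' e e' (c + f') (c' + f) _ _ _ _ _ ((c : ℤ) - c' - (f - f')) rfl rfl rfl rfl rfl (by omega)

private noncomputable def eqw_h86 (L L' : List (Fin 6)) : Bool :=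
  run_h86 L fun a a' b b' c c' d d' e e' f f' => run_h86 L' fun A A' B B' C C' D D' E E' F F' =>
    Nat.beq (Nat.add a A') (Nat.add A a') && Nat.beq (Nat.add b B') (Nat.add B b') && Nat.beq (Nat.add c C') (Nat.add C c') &&
      Nat.beq (Nat.add d D') (Nat.add D d') && Nat.beq (Nat.add e E') (Nat.add E e') && Nat.beq (Nat.add f F') (Nat.add F f')

private theorem eqw_eq_h86 (L L' : List (Fin 6)) : eqv (ev L) (ev L') = eqw_h86 L L' := by
  refine (run_eq_h86 L _ (fun x => eqv x (ev L')) fun a a' b b' c c' d d' e e' f f' =>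
    run_eq_h86 L' _ (eqv _) fun A A' B B' C C' D D' E E' F F' => ?_).symm
  have H : ∀ x x' y y' : ℕ, Nat.beq (Nat.add x y') (Nat.add y x') = decide ((x : ℤ) - x' = y - y') := fun x x' y y' => by
    rw [Bool.eq_iff_iff, Nat.beq_eq, decide_eq_true_iff]
    show x + y' = y + x' ↔ _
    omega
  rw [H, H, H, H, H, H]
  rfl

private theorem cnt_eq_h86 : cnt = fun r k => ∑ a, ∑ b, cond (Nat.beq (wt a b) 0) 0
    (cond (Nat.beq (el (cl2 a b r)).1 k.1) (wt a b) 0) := by
  funext r k
  refine Finset.sum_congr rfl fun a _ => Finset.sum_congr rfl fun b _ => ?_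
  generalize wt a b = x
  generalize el (cl2 a b r) = y
  cases x with
  | zero => exact ite_self _
  | succ x =>
    by_cases e : y = k
    · rw [if_pos e, e, Nat.beq_refl]
      rfl
    · rw [if_neg e, Bool.eq_false_iff.2 fun h => e (Fin.ext (Nat.eq_of_beq_eq_true h))]
      rfl

theorem chk_pi : ∀ i t, eqv (ev (i :: (tw t ++ [i]))) (ev (tw (pi i t))) = true := by
  simp only [eqw_eq_h86]; decide +kernel
theorem chk_inv : ∀ i t, pi i (pi i t) = t := by decide +kernel
private noncomputable def _root_.Cfsg.Agent.LsF.fad7d41_5 : {f // @Cfsg.Agent.ODD.Hk.E6.eqw_h86 = f} := ⟨_, by first | (delta Cfsg.Agent.ODD.Hk.E6.eqw_h86; rewrite [Cfsg.Agent.LsF.and_eq]; exact rfl) | exact rfl⟩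
private noncomputable def _root_.Cfsg.Agent.LsF.fad7d41_6 : {f // @Cfsg.Agent.ODD.Hk.E6.dec = f} := ⟨_, by first | (delta Cfsg.Agent.ODD.Hk.E6.dec; rewrite [Cfsg.Agent.LsF.cond_eq]; exact rfl) | exact rfl⟩
private noncomputable def _root_.Cfsg.Agent.LsF.fad7d41_8 : {f // @Cfsg.Agent.ODD.Hk.E6.cjw = f} := ⟨_, by first | (delta Cfsg.Agent.ODD.Hk.E6.cjw; rewrite [Cfsg.Agent.LsF.fad7d41_6.2]; exact rfl) | exact rfl⟩
private noncomputable def _root_.Cfsg.Agent.LsF.fad7d41_7 : {f // @Cfsg.Agent.ODD.Hk.E6.tw = f} := ⟨_, by first | (delta Cfsg.Agent.ODD.Hk.E6.tw; rewrite [Cfsg.Agent.LsF.fad7d41_6.2, Cfsg.Agent.LsF.getD_eq]; exact rfl) | exact rfl⟩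
private noncomputable def _root_.Cfsg.Agent.LsF.fad7d41_9 : {f // @Cfsg.Agent.ODD.Hk.E6.rw' = f} := ⟨_, by first | (delta Cfsg.Agent.ODD.Hk.E6.rw'; rewrite [Cfsg.Agent.LsF.fad7d41_6.2, Cfsg.Agent.LsF.getD_eq]; exact rfl) | exact rfl⟩
theorem chk_cl : ∀ r t, eqv (ev (cjw r t ++ (tw t ++ (rw' r ++ (cjw r t).reverse)))) (ev (rw' (cl r t))) = true := by
  simp only [eqw_eq_h86]; (refine of_decide_eq_true ?_; (try (rewrite [Cfsg.Agent.LsF.fad7d41_5.2, Cfsg.Agent.LsF.fad7d41_8.2, Cfsg.Agent.LsF.fad7d41_7.2, Cfsg.Agent.LsF.fad7d41_9.2, Cfsg.Agent.LsF.lappend_pat, Cfsg.Agent.LsF.reverse_eq, Cfsg.Agent.LsF.dBoolEq_eq, Cfsg.Agent.LsF.dForallFin_eq, Cfsg.Agent.LsF.decide_eq])); decide +kernel)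
theorem chk_si : ∀ i, eqv (ev (tw (si i))) (ev [i]) = true := by decide +kernel
theorem chk_nc : ∀ r : Fin 25, el r = 5 → ∃ k, k ∉ rw' r := by decide +kernel
theorem chk_el : ∀ r : Fin 25, el r ≠ 5 → r = Fin.ofNat 25 (el r) := by decide +kernel
theorem chk_one : rw' 5 = [] := by decide +kernel
private noncomputable def _root_.Cfsg.Agent.LsF.fad7d41_10 : {f // @Cfsg.Agent.ODD.Hk.E6.el = f} := ⟨_, by first | (delta Cfsg.Agent.ODD.Hk.E6.el; rewrite [Cfsg.Agent.LsF.nmin_pat]; exact rfl) | exact rfl⟩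
private noncomputable def _root_.Cfsg.Agent.LsF.fad7d41_11 : {f // @Cfsg.Agent.ODD.Hk.E6.act = f} := ⟨_, by first | (delta Cfsg.Agent.ODD.Hk.E6.act; rewrite [Cfsg.Agent.LsF.foldr_eq]; exact rfl) | exact rfl⟩
private noncomputable def _root_.Cfsg.Agent.LsF.fad7d41_12 : {f // @Cfsg.Agent.ODD.Hk.E6.cl2 = f} := ⟨_, by first | (delta Cfsg.Agent.ODD.Hk.E6.cl2; rewrite [Cfsg.Agent.LsF.fad7d41_11.2, Cfsg.Agent.LsF.fad7d41_8.2]; exact rfl) | exact rfl⟩
theorem chk_two : ∀ a b, el (cl2 a b 5) = 5 := by (refine of_decide_eq_true ?_; (try (rewrite [Cfsg.Agent.LsF.fad7d41_10.2, Cfsg.Agent.LsF.fad7d41_12.2, Cfsg.Agent.LsF.dFinEq_eq, Cfsg.Agent.LsF.dForallFin_eq, Cfsg.Agent.LsF.decide_eq])); decide +kernel)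
theorem chk_wt : ∀ i a b, wt (pi i a) (pi i b) = wt a b := by (refine of_decide_eq_true ?_; (try (rewrite [Cfsg.Agent.LsF.instDecEq_eq, Cfsg.Agent.LsF.dForallFin_eq, Cfsg.Agent.LsF.decide_eq])); decide +kernel)
theorem chk_21 : cnt 21 0 = 0 ∧ cnt 21 1 = 192 ∧ cnt 21 2 = 0 ∧ cnt 21 3 = 0 ∧ cnt 21 4 = 0 := by
  rw [cnt_eq_h86]; (refine of_decide_eq_true ?_; (try (rewrite [Cfsg.Agent.LsF.sumF_pat, Cfsg.Agent.LsF.fad7d41_10.2, Cfsg.Agent.LsF.fad7d41_12.2, Cfsg.Agent.LsF.nadd_pat, Cfsg.Agent.LsF.nACM_eq, Cfsg.Agent.LsF.cond_eq, Cfsg.Agent.LsF.instDecEq_eq, Cfsg.Agent.LsF.dAnd_eq, Cfsg.Agent.LsF.decide_eq])); decide +kernel)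
theorem chk_23 : cnt 23 0 = 0 ∧ cnt 23 1 = 0 ∧ cnt 23 2 = 0 ∧ cnt 23 3 = 192 ∧ cnt 23 4 = 0 := by
  rw [cnt_eq_h86]; (refine of_decide_eq_true ?_; (try (rewrite [Cfsg.Agent.LsF.sumF_pat, Cfsg.Agent.LsF.fad7d41_10.2, Cfsg.Agent.LsF.fad7d41_12.2, Cfsg.Agent.LsF.nadd_pat, Cfsg.Agent.LsF.nACM_eq, Cfsg.Agent.LsF.cond_eq, Cfsg.Agent.LsF.instDecEq_eq, Cfsg.Agent.LsF.dAnd_eq, Cfsg.Agent.LsF.decide_eq])); decide +kernel)
theorem chk_13 : cnt 13 0 = 108 ∧ cnt 13 1 = 72 ∧ cnt 13 2 = 12 ∧ cnt 13 3 = 0 ∧ cnt 13 4 = 0 := by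
  rw [cnt_eq_h86]; (refine of_decide_eq_true ?_; (try (rewrite [Cfsg.Agent.LsF.sumF_pat, Cfsg.Agent.LsF.fad7d41_10.2, Cfsg.Agent.LsF.fad7d41_12.2, Cfsg.Agent.LsF.nadd_pat, Cfsg.Agent.LsF.nACM_eq, Cfsg.Agent.LsF.cond_eq, Cfsg.Agent.LsF.instDecEq_eq, Cfsg.Agent.LsF.dAnd_eq, Cfsg.Agent.LsF.decide_eq])); decide +kernel)
theorem chk_14 : cnt 14 0 = 96 ∧ cnt 14 1 = 96 ∧ cnt 14 2 = 32 ∧ cnt 14 3 = 40 ∧ cnt 14 4 = 0 := by
  rw [cnt_eq_h86]; (refine of_decide_eq_true ?_; (try (rewrite [Cfsg.Agent.LsF.sumF_pat, Cfsg.Agent.LsF.fad7d41_10.2, Cfsg.Agent.LsF.fad7d41_12.2, Cfsg.Agent.LsF.nadd_pat, Cfsg.Agent.LsF.nACM_eq, Cfsg.Agent.LsF.cond_eq, Cfsg.Agent.LsF.instDecEq_eq, Cfsg.Agent.LsF.dAnd_eq, Cfsg.Agent.LsF.decide_eq])); decide +kernel)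
theorem chk_15 : cnt 15 0 = 72 ∧ cnt 15 1 = 144 ∧ cnt 15 2 = 0 ∧ cnt 15 3 = 72 ∧ cnt 15 4 = 8 := by
  rw [cnt_eq_h86]; (refine of_decide_eq_true ?_; (try (rewrite [Cfsg.Agent.LsF.sumF_pat, Cfsg.Agent.LsF.fad7d41_10.2, Cfsg.Agent.LsF.fad7d41_12.2, Cfsg.Agent.LsF.nadd_pat, Cfsg.Agent.LsF.nACM_eq, Cfsg.Agent.LsF.cond_eq, Cfsg.Agent.LsF.instDecEq_eq, Cfsg.Agent.LsF.dAnd_eq, Cfsg.Agent.LsF.decide_eq])); decide +kernel)

/-! ### words -/

/-- the Cartan matrix -/
def a6 (i j : Fin 6) : ℤ := if i = j then 2 else if mE 6 i j = 3 then -1 else 0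

variable {I W : Type*} [Fintype I] [DecidableEq I] {M : CoxeterMatrix I} [Group W] [Finite W] (cs : CoxeterSystem M W)
  (v : Fin 6 ≃ I)

/-- the Cartan matrix on `I` -/
def cA (i j : I) : ℤ := a6 (v.symm i) (v.symm j)

/-- a vector as a function on `I` -/
def toF (x : V) (i : I) : ℤ := ![x.a, x.b, x.c, x.d, x.e, x.f] (v.symm i)

/-- the element of a word -/
def wp (ω : List (Fin 6)) : W := cs.wordProd (ω.map v)

theorem wp_nil : wp cs v [] = 1 := by simp [wp]
theorem wp_cons (i : Fin 6) (ω : List (Fin 6)) : wp cs v (i :: ω) = cs.simple (v i) * wp cs v ω := by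
  simp [wp, wordProd_cons]
theorem wp_append (ω ω' : List (Fin 6)) : wp cs v (ω ++ ω') = wp cs v ω * wp cs v ω' := by
  simp [wp, wordProd_append]
theorem wp_reverse (ω : List (Fin 6)) : wp cs v ω.reverse = (wp cs v ω)⁻¹ := by
  rw [wp, List.map_reverse, wordProd_reverse, wp]
theorem wp_single (i : Fin 6) : wp cs v [i] = cs.simple (v i) := by rw [wp_cons, wp_nil, mul_one]

theorem exists_wp (w : W) : ∃ ω, w = wp cs v ω := by
  obtain ⟨ω, rfl⟩ := cs.wordProd_surjective w
  refine ⟨ω.map v.symm, ?_⟩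
  simp [wp]

variable {v}

theorem cartan (h : Lab M v (mE 6)) : IsCartan M (cA v) where
  diag i := by simp [cA, a6]
  rel i j hij := by
    obtain ⟨i, rfl⟩ := v.surjective i
    obtain ⟨j, rfl⟩ := v.surjective j
    have h1 : ∀ i j : Fin 6, i ≠ j → (mE 6 i j = 2 ∧ a6 i j = 0 ∧ a6 j i = 0) ∨
        (mE 6 i j = 3 ∧ a6 i j = -1 ∧ a6 j i = -1) := by decide
    simp only [cA, Equiv.symm_apply_apply, h i j]
    rcases h1 i j (fun e => hij (congrArg v e)) with h2 | h2
    · exact Or.inl h2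
    · exact Or.inr (Or.inl h2)

theorem pairing_toF (i : Fin 6) (x : V) :
    pairing (cA v) (v i) (toF v x) = a6 i 0 * x.a + a6 i 1 * x.b + a6 i 2 * x.c + a6 i 3 * x.d + a6 i 4 * x.e +
      a6 i 5 * x.f := by
  rw [pairing, ← Equiv.sum_comp v, Fin.sum_univ_six]
  simp only [cA, toF, _root_.Equiv.symm_apply_apply, _root_.Fin.isValue, _root_.Nat.succ_eq_add_one, _root_.Nat.reduceAdd, _root_.Matrix.cons_val_zero, _root_.Matrix.cons_val_one, _root_.Matrix.cons_val]

theorem refl_toF (i : Fin 6) (x : V) : refl (cA v) (v i) (toF v x) = toF v (sv i x) := by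
  funext j
  obtain ⟨j, rfl⟩ := v.surjective j
  rw [refl_apply, pairing_toF, Pi.sub_apply, Pi.single_apply]
  simp only [toF, Equiv.symm_apply_apply, EmbeddingLike.apply_eq_iff_eq]
  (revert i j; simp only [sv, a6, mE, _root_.Fin.forall_fin_succ, _root_.Nat.succ_eq_add_one, Nat.reduceAdd, Fin.isValue, _root_.Fin.coe_ofNat_eq_mod, _root_.Nat.zero_mod, _root_.Fin.val_eq_zero_iff, _root_.Nat.add_eq_zero_iff, _root_.one_ne_zero, _root_.and_false, _root_.zero_add, _root_.Nat.one_lt_ofNat, _root_.and_true, _root_.OfNat.one_ne_ofNat, _root_.OfNat.zero_ne_ofNat, Nat.reduceEqDiff, _root_.false_and, _root_.or_self, _root_.or_false, _root_.false_or, Int.reduceNeg, _root_.ite_mul, _root_.neg_mul, _root_.one_mul, _root_.MulZeroClass.zero_mul, _root_.Nat.one_mod, _root_.Nat.add_eq_right, Nat.reduceLT, Nat.reduceMod, _root_.true_and, _root_.Nat.succ_ne_self, _root_.Nat.lt_add_one, _root_.Nat.mod_succ, _root_.lt_self_iff_false, _root_.OfNat.ofNat_eq_ofNat, _root_.Matrix.cons_val_zero,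 _root_.Matrix.cons_val_succ, _root_.Fin.succ_zero_eq_one, _root_.Fin.succ_one_eq_two, Fin.reduceSucc, _root_.Matrix.cons_val_fin_one, _root_.IsEmpty.forall_iff, ↓reduceIte, _root_.zero_ne_one, _root_.OfNat.ofNat_ne_zero, Fin.reduceEq, _root_.add_zero, _root_.sub_zero, _root_.and_self, _root_.Fin.succ_ne_zero, _root_.Fin.val_succ, _root_.Nat.right_eq_add, _root_.ite_eq_left_iff, _root_.not_and, _root_.not_lt, Nat.reduceLeDiff, _root_.imp_false, _root_.Classical.not_imp, _root_.not_le, _root_.Nat.ofNat_pos, _root_.or_true, _root_.not_or, _root_.Decidable.not_not, _root_.nonpos_iff_eq_zero, _root_.not_true_eq_false, _root_.imp_self, _root_.forall_const, _root_.Order.lt_one_iff, _root_.Fin.val_eq_zero, _root_.sub_eq_self, _root_.ite_eq_right_iff]) <;> (repeat' with_reducible apply And.intro) <;> ring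

theorem rep_wp (h : Lab M v (mE 6)) (ω : List (Fin 6)) : rep cs (cartan h) (wp cs v ω) (toF v rho) = toF v (ev ω) := by
  induction ω with
  | nil => rw [wp_nil, map_one]; rfl
  | cons i ω ih => rw [wp_cons, rep_mul_apply, ih, rep_simple, refl_toF]; rfl

theorem pairing_rho (i : I) : pairing (cA v) i (toF v rho) = 1 := by
  obtain ⟨i, rfl⟩ := v.surjective i
  rw [pairing_toF]
  revert i
  decide

theorem wp_eq (h : Lab M v (mE 6)) {ω ω' : List (Fin 6)} (e : eqv (ev ω) (ev ω') = true) : wp cs v ω = wp cs v ω' := by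
  have h1 : rep cs (cartan h) ((wp cs v ω')⁻¹ * wp cs v ω) (toF v rho) = toF v rho := by
    rw [rep_mul_apply, rep_wp cs h, eq_of_eqv e, ← rep_wp cs h, ← rep_mul_apply, inv_mul_cancel, map_one]
    rfl
  have h2 := Nodes.StabComb.mem_WJ_of_rep (fun i => by rw [pairing_rho]; exact zero_le_one) h1
  have h3 : Nodes.StabComb.orth cs (cartan h) (toF v rho) = ∅ := by
    rw [Set.eq_empty_iff_forall_notMem]
    intro i hi
    rw [Nodes.StabComb.mem_orth, pairing_rho] at hi
    exact one_ne_zero hi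
  rw [h3, WJ, Set.image_empty, Subgroup.closure_empty, Subgroup.mem_bot] at h2
  exact (inv_mul_eq_one.1 h2).symm

section

variable (h : Lab M v (mE 6))
include h

theorem conj_simple (i : Fin 6) (t : Fin 36) :
    cs.simple (v i) * wp cs v (tw t) * (cs.simple (v i))⁻¹ = wp cs v (tw (pi i t)) := by
  rw [← wp_eq cs h (chk_pi i t), wp_cons, wp_append, wp_single, inv_simple, mul_assoc]

theorem conj_word (g : List (Fin 6)) (t : Fin 36) :
    wp cs v g * wp cs v (tw t) * (wp cs v g)⁻¹ = wp cs v (tw (act g t)) := by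
  induction g with
  | nil => rw [wp_nil, one_mul, inv_one, mul_one]; rfl
  | cons i g ih =>
    have e : act (i :: g) t = pi i (act g t) := rfl
    rw [e, ← conj_simple cs h, ← ih, wp_cons]
    group

theorem conj_cl (r : Fin 25) (t : Fin 36) :
    wp cs v (cjw r t) * (wp cs v (tw t) * wp cs v (rw' r)) * (wp cs v (cjw r t))⁻¹ = wp cs v (rw' (cl r t)) := by
  rw [← wp_eq cs h (chk_cl r t), wp_append, wp_append, wp_append, wp_reverse]
  group

theorem conj_cl2 (a b : Fin 36) (r : Fin 25) :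
    ∃ g : W, g * (wp cs v (tw a) * wp cs v (tw b) * wp cs v (rw' r)) * g⁻¹ = wp cs v (rw' (cl2 a b r)) := by
  refine ⟨wp cs v (cjw (cl r b) (act (cjw r b) a)) * wp cs v (cjw r b), ?_⟩
  rw [cl2, ← conj_cl cs h, ← conj_cl cs h r b, ← conj_word cs h]
  group

/-- the class list is complete -/
theorem cover (w : W) : ∃ (r : Fin 25) (g : List (Fin 6)), wp cs v g * w * (wp cs v g)⁻¹ = wp cs v (rw' r) := by
  obtain ⟨ω, rfl⟩ := exists_wp cs v w
  induction ω with
  | nil => exact ⟨5, [], by rw [chk_one, wp_nil, one_mul, one_mul, inv_one]⟩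
  | cons i ω ih =>
    obtain ⟨r, g, hg⟩ := ih
    refine ⟨cl r (act g (si i)), cjw r (act g (si i)) ++ g, ?_⟩
    rw [← conj_cl cs h, ← hg, ← conj_word cs h, wp_eq cs h (chk_si i), wp_single, wp_cons, wp_append]
    group

omit h in
theorem nc_rw {r : Fin 25} (hr : el r = 5) : NC cs (wp cs v (rw' r)) := by
  obtain ⟨k, hk⟩ := chk_nc r hr
  refine nc_wordProd (k := v k) fun h1 => hk ?_
  obtain ⟨j, hj, e⟩ := List.mem_map.1 h1
  rwa [← v.injective e]

theorem nc_two (a b : Fin 36) : NC cs (wp cs v (tw a) * wp cs v (tw b)) := by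
  obtain ⟨g, hg⟩ := conj_cl2 cs h a b 5
  rw [chk_one, wp_nil, mul_one] at hg
  refine NC.of_conj (g := g) ?_
  rw [hg]
  exact nc_rw cs (chk_two a b)

/-- the weighted sum is invariant under conjugation -/
theorem sum_conj (F : W → ℂ) (g : W) :
    ∑ a, ∑ b, (wt a b : ℂ) * F (g * (wp cs v (tw a) * wp cs v (tw b)) * g⁻¹) =
      ∑ a, ∑ b, (wt a b : ℂ) * F (wp cs v (tw a) * wp cs v (tw b)) := by
  obtain ⟨ω, rfl⟩ := exists_wp cs v g
  induction ω generalizing F with
  | nil => simp only [wp_nil, one_mul, inv_one, mul_one]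
  | cons i ω ih =>
    have h1 := ih fun w => F (cs.simple (v i) * w * (cs.simple (v i))⁻¹)
    have h2 : ∀ a b, cs.simple (v i) * (wp cs v (tw a) * wp cs v (tw b)) * (cs.simple (v i))⁻¹ =
        wp cs v (tw (pi i a)) * wp cs v (tw (pi i b)) := fun a b => by
      rw [← conj_simple cs h, ← conj_simple cs h]
      group
    have h3 : ∀ w, wp cs v (i :: ω) * w * (wp cs v (i :: ω))⁻¹ =
        cs.simple (v i) * (wp cs v ω * w * (wp cs v ω)⁻¹) * (cs.simple (v i))⁻¹ := fun w => by
      rw [wp_cons]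
      group
    simp only [h3]
    rw [h1]
    simp only [h2]
    have hi : Function.Involutive (pi i) := chk_inv i
    refine Fintype.sum_bijective (pi i) hi.bijective _ _ fun a => ?_
    refine Fintype.sum_bijective (pi i) hi.bijective _ _ fun b => ?_
    rw [chk_wt]

theorem rel_cnt {φ φ' : W → ℂ} (hφ : IsIrrCharacter W φ) (hφ' : IsIrrCharacter W φ') (hf : ∀ w, NC cs w → φ w = φ' w)
    (F : Fin 6 → ℂ) (hF : ∀ r, φ (wp cs v (rw' r)) - φ' (wp cs v (rw' r)) = F (el r)) {r : Fin 25} (hr : el r = 5) :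
    ∑ k, (cnt r k : ℂ) * F k = 0 := by
  have := Fintype.ofFinite W
  have hI : Nonempty I := ⟨v 0⟩
  have h1 : ∑ g : W, ∑ a, ∑ b, (wt a b : ℂ) *
      (φ (g * (wp cs v (tw a) * wp cs v (tw b)) * g⁻¹ * wp cs v (rw' r)) -
        φ' (g * (wp cs v (tw a) * wp cs v (tw b)) * g⁻¹ * wp cs v (rw' r))) = 0 := by
    rw [Finset.sum_comm]
    refine Finset.sum_eq_zero fun a _ => ?_
    rw [Finset.sum_comm]
    refine Finset.sum_eq_zero fun b _ => ?_
    rw [← Finset.mul_sum, rel hφ hφ' (hf 1 nc_one) (hf _ (nc_two cs h a b)) (hf _ (nc_rw cs hr)), mul_zero]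
  have h2 := fun g => sum_conj cs h (fun w => φ (w * wp cs v (rw' r)) - φ' (w * wp cs v (rw' r))) g
  simp only [h2] at h1
  rw [Finset.sum_const, nsmul_eq_mul, mul_eq_zero, Finset.card_univ, Nat.cast_eq_zero] at h1
  have h3 := h1.resolve_left Fintype.card_ne_zero
  have h4 : ∀ a b, φ (wp cs v (tw a) * wp cs v (tw b) * wp cs v (rw' r)) -
      φ' (wp cs v (tw a) * wp cs v (tw b) * wp cs v (rw' r)) = F (el (cl2 a b r)) := fun a b => by
    obtain ⟨g, hg⟩ := conj_cl2 cs h a b r
    rw [← hF, ← hg, isIrr_isClassFunction hφ, isIrr_isClassFunction hφ']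
  simp only [h4] at h3
  rw [← h3]
  simp only [cnt, Nat.cast_sum, Finset.sum_mul]
  rw [Finset.sum_comm]
  refine Finset.sum_congr rfl fun a _ => ?_
  rw [Finset.sum_comm]
  refine Finset.sum_congr rfl fun b _ => ?_
  simp only [Nat.cast_ite, Nat.cast_zero, ite_mul, zero_mul, Finset.sum_ite_eq, Finset.mem_univ, if_true]

end

end Cfsg.Agent.ODD.Hk.E6

namespace Cfsg.Agent.ODD.Hk

open E6 Cfsg.Agent.Characters.Core

/-- **`W(E6)` is rigid.** -/
theorem rigid_E6 {I W : Type*} [Fintype I] [DecidableEq I] {M : CoxeterMatrix I} [Group W] [Finite W]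
    (cs : CoxeterSystem M W) (v : Fin 6 ≃ I)
    (h : LieRecognition.CoxClass.Lab M v (LieRecognition.CoxClass.mE 6)) : Rigid cs := by
  intro φ φ' hφ hφ' hf
  obtain ⟨F, hF5, hF⟩ : ∃ F : Fin 6 → ℂ, F 5 = 0 ∧
      ∀ r, φ (wp cs v (rw' r)) - φ' (wp cs v (rw' r)) = F (el r) := by
    refine ⟨fun k => φ (wp cs v (rw' (Fin.ofNat 25 k))) - φ' (wp cs v (rw' (Fin.ofNat 25 k))), ?_, fun r => ?_⟩
    · exact sub_eq_zero.2 (hf _ (nc_rw cs (by decide)))
    · by_cases hr : el r = 5
      · rw [hr, hf _ (nc_rw cs hr), sub_self]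
        exact (sub_eq_zero.2 (hf _ (nc_rw cs (by decide)))).symm
      · simp only [← chk_el r hr]
  have e21 := rel_cnt cs h hφ hφ' hf F hF (r := 21) (by decide)
  have e23 := rel_cnt cs h hφ hφ' hf F hF (r := 23) (by decide)
  have e13 := rel_cnt cs h hφ hφ' hf F hF (r := 13) (by decide)
  have e14 := rel_cnt cs h hφ hφ' hf F hF (r := 14) (by decide)
  have e15 := rel_cnt cs h hφ hφ' hf F hF (r := 15) (by decide)
  rw [Fin.sum_univ_six, hF5, mul_zero, add_zero] at e21 e23 e13 e14 e15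
  rw [chk_21.1, chk_21.2.1, chk_21.2.2.1, chk_21.2.2.2.1, chk_21.2.2.2.2] at e21
  rw [chk_23.1, chk_23.2.1, chk_23.2.2.1, chk_23.2.2.2.1, chk_23.2.2.2.2] at e23
  rw [chk_13.1, chk_13.2.1, chk_13.2.2.1, chk_13.2.2.2.1, chk_13.2.2.2.2] at e13
  rw [chk_14.1, chk_14.2.1, chk_14.2.2.1, chk_14.2.2.2.1, chk_14.2.2.2.2] at e14
  rw [chk_15.1, chk_15.2.1, chk_15.2.2.1, chk_15.2.2.2.1, chk_15.2.2.2.2] at e15
  push_cast at e21 e23 e13 e14 e15
  have f1 : F 1 = 0 := by linear_combination (1 / 192 : ℂ) * e21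
  have f3 : F 3 = 0 := by linear_combination (1 / 192 : ℂ) * e23
  have f0 : F 0 = 0 := by linear_combination (1 / 72 : ℂ) * e13 - (1 / 192 : ℂ) * e14 - (1 / 2 : ℂ) * f1 + (5 / 24 : ℂ) * f3
  have f2 : F 2 = 0 := by linear_combination (1 / 12 : ℂ) * e13 - 9 * f0 - 6 * f1
  have f4 : F 4 = 0 := by linear_combination (1 / 8 : ℂ) * e15 - 9 * f0 - 18 * f1 - 9 * f3
  have hz : ∀ k, F k = 0 := fun k => by fin_cases k <;> assumption
  funext w
  obtain ⟨r, g, hg⟩ := cover cs h w
  rw [← isIrr_isClassFunction hφ w (wp cs v g), ← isIrr_isClassFunction hφ' w (wp cs v g), hg, ← sub_eq_zero, hF, hz]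

end Cfsg.Agent.ODD.Hk
end

-- part: ODD/Hk/Main
section
/-!
# Boxes HO and HOA (helper2)

`ho : AH.HO`; `hog` : all irreducible modules have rational characters if the components are of type `A`, `B`, `D`, `E₆`
(`Good M`); `hoa : Lev.HOA`.
-/

set_option autoImplicit false

namespace Cfsg.Agent.ODD.Hk

open Module

theorem rig4 : Rig4 := fun _ _ _ _ _ _ _ cs =>
  ⟨fun _ v hn h => rigid_A cs v hn h, fun _ v hn h => rigid_B cs v hn h, fun _ v hn h => rigid_D cs v hn h,
    fun v h => rigid_E6 cs v h⟩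

/-- **Odd dimensional irreducible modules of Iwahori–Hecke algebras have rational characters.** -/
theorem ho : AH.HO := ho_of rig4

/-- no label above `4`, no subdiagram `F₄`, `E₇` : all irreducible modules have rational characters -/
theorem hog {I W V : Type} [Finite I] [Group W] [Finite W] {M : CoxeterMatrix I} (cs : CoxeterSystem M W)
    [AddCommGroup V] [Module ℂ V] [FiniteDimensional ℂ V] (τ : W → Module.End ℂ V) (p : I → ℚ) (hG : Good M)
    (hp : ∀ i, 0 < p i) (h1 : τ 1 = 1)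
    (hm : ∀ i w, cs.length w < cs.length (cs.simple i * w) → τ (cs.simple i) * τ w = τ (cs.simple i * w))
    (hq : ∀ i, (τ (cs.simple i) - (p i : ℂ) • (1 : Module.End ℂ V)) * (τ (cs.simple i) + 1) = 0)
    (hirr : ∀ U : Submodule ℂ V, (∀ w, ∀ v ∈ U, τ w v ∈ U) → U = ⊥ ∨ U = ⊤) (σ : ℂ ≃+* ℂ) (w : W) :
    σ (LinearMap.trace ℂ V (τ w)) = LinearMap.trace ℂ V (τ w) := by
  classical
  let _ := Fintype.ofFinite W
  let _ := Fintype.ofFinite I
  rcases subsingleton_or_nontrivial V with h | h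
  · rw [Subsingleton.elim (τ w) 0, map_zero, map_zero]
  · exact trace_fix cs τ p hp h1 hm hq hirr σ (fun t hσ z hz _ => (fix_ind rig4 σ _ I W M cs t rfl
      (fun i j e => by have := hG.1 i j; omega) hσ).2 hG z hz) w

theorem good_of_typeA {I : Type*} {M : CoxeterMatrix I} (h : Lev.TypeA M Set.univ) : Good M := by
  have h3 : ∀ i j, M i j ≤ 3 := fun i j => h.1 i trivial j trivial
  refine ⟨fun i j => (h3 i j).trans (by omega), not_F h3, ?_⟩
  rintro ⟨f, hf⟩
  have key : ∀ i j, f i = f j → LieRecognition.CoxClass.mE 7 i j = 1 := fun i j e => by rw [← hf, e, M.diagonal]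
  rcases h.2 (f 2) trivial (f 1) trivial (f 3) trivial (f 6) trivial (hf 2 1) (hf 2 3) (hf 2 6) with e | e | e <;>
    exact absurd (key _ _ e) (by decide)

theorem hoa : Lev.HOA := fun _ _ _ _ _ _ _ cs _ _ _ τ p hA hp h1 hm hq hirr σ w =>
  hog cs τ p (good_of_typeA hA) hp h1 hm hq hirr σ w

end Cfsg.Agent.ODD.Hk
end

private theorem dce_ea15e74998a6 : _root_.True := by
  try have : _root_.True := by simp only [_root_.Cfsg.Agent.ODD.Hk.sg.eq_1]
  try have : _root_.True := by simp only [_root_.Cfsg.Agent.ODD.Hk.E8.rf.eq_7]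
  try have : _root_.True := by simp only [_root_.Cfsg.Agent.Nodes.TypeC.Cf.eq_1]
  try have : _root_.True := by simp only [_root_.Cfsg.Agent.ODD.Hk.E8.rf.eq_4]
  try have : _root_.True := by simp only [_root_.Cfsg.Agent.H157.HK.ip.eq_1]
  try have : _root_.True := by simp only [_root_.Cfsg.Agent.ODD.Hk.E8.rf.eq_8]
  try have : _root_.True := by simp only [_root_.Cfsg.Agent.ODD.Hk.E8.rf.eq_6]
  try have : _root_.True := by simp only [_root_.Cfsg.Agent.ODD.Hk.E6.wp.eq_1]
  try have : _root_.True := by simp only [_root_.Cfsg.Agent.ODD.Hk.Sgn.rr.eq_1]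
  try have : _root_.True := by simp only [_root_.Cfsg.Agent.ODD.Hk.E8.rf.eq_2]
  try have : _root_.True := by simp only [_root_.Cfsg.Agent.ODD.Hk.E6.cl2.eq_1]
  try have : _root_.True := by simp only [_root_.Cfsg.Agent.ODD.Hk.E8.ca.eq_1]
  try have : _root_.True := by simp only [_root_.Cfsg.Agent.ODD.Hk.st.eq_1]
  try have : _root_.True := by simp only [_root_.Cfsg.Agent.H157.HK.e.eq_1]
  try have : _root_.True := by simp only [_root_.Cfsg.Agent.ODD.Hk.E8.V.co.eq_1]
  try have : _root_.True := by simp only [_root_.Cfsg.Agent.ODD.Hk.E6.sv.eq_1]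
  try have : _root_.True := by simp only [_root_.Cfsg.Agent.ODD.Hk.E6.cnt.eq_1]
  try have : _root_.True := by simp only [_root_.Cfsg.Agent.ODD.Hk.E6.a6.eq_1]
  try have : _root_.True := by simp only [_root_.Cfsg.Agent.ODD.Hk.Sgn.tt.eq_1]
  try have : _root_.True := by simp only [_root_.Cfsg.Agent.ODD.Hk.Dict.congr_simp]
  try have : _root_.True := by simp only [_root_.Cfsg.Agent.H694.mv.eq_1]
  try have : _root_.True := by simp only [_root_.Cfsg.Agent.Nodes.TypeD.Adj.eq_1]
  try have : _root_.True := by simp only [_root_.Cfsg.Agent.ODD.Hk.act.eq_1]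
  try have : _root_.True := by simp only [_root_.Cfsg.Agent.ODD.Hk.E8.rf.eq_1]
  try have : _root_.True := by simp only [_root_.Cfsg.Agent.ODD.Hk.E6.cA.eq_1]
  try have : _root_.True := by simp only [_root_.Cfsg.Agent.ODD.Hk.E8.rf.eq_5]
  try have : _root_.True := by simp only [_root_.Cfsg.Agent.Nodes.TypeD.Cf.eq_1]
  try have : _root_.True := by simp only [_root_.Cfsg.Agent.ODD.Hk.E6.eqv.eq_1]
  try have : _root_.True := by simp only [_root_.Cfsg.Agent.ODD.Hk.E8.rf.eq_3]
  try have : _root_.True := by simp only [_root_.Cfsg.Agent.ODD.Hk.E6.toF.eq_1]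
  exact _root_.True.intro
end

-- part: ODD/Lev/Par
section
prune_inst 0x435403544546202000000058053203846ec0001200068800018220e440789254288c60961ae80010e102a88550000006811000070420029c00a88080001180180000812040040a000000000000000000000200000000000000000800000000004008000000
set_option linter.all false
open scoped Cfsg.Agent.FastGrp

/-!
# ODD, box LEV: congruences modulo `2` (helper97)

* the calculus of `Ev`;
* `ev_sum`: the sum of an invariant function over a set on which a `2`-group acts without fixed points;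
* `not_fix`: `x ≡ ω` with `ω` a root of unity of order `2 ^ e ≥ 4` is moved by every `s` with `s I = -I`.
-/

set_option autoImplicit false

namespace Cfsg.Agent.ODD.Lev

open Cfsg Cfsg.Agent.Characters Cfsg.Agent.ODD.Red

theorem Ev.zero : Ev 0 := by
  unfold Ev
  rw [zero_div]
  exact isIntegral_zero

theorem Ev.add {a b : ℂ} (ha : Ev a) (hb : Ev b) : Ev (a + b) := by
  unfold Ev at *
  rw [add_div]
  exact ha.add hb

theorem Ev.neg {a : ℂ} (ha : Ev a) : Ev (-a) := by
  unfold Ev at *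
  rw [neg_div]
  exact ha.neg

theorem Ev.sub {a b : ℂ} (ha : Ev a) (hb : Ev b) : Ev (a - b) := by
  rw [sub_eq_add_neg]
  exact ha.add hb.neg

theorem Ev.mul_left {a b : ℂ} (ha : IsIntegral ℤ a) (hb : Ev b) : Ev (a * b) := by
  unfold Ev at *
  rw [mul_div_assoc]
  exact ha.mul hb

theorem Ev.mul_right {a b : ℂ} (ha : Ev a) (hb : IsIntegral ℤ b) : Ev (a * b) := by
  rw [mul_comm]
  exact ha.mul_left hb

theorem ev_two_mul {a : ℂ} (ha : IsIntegral ℤ a) : Ev (2 * a) := by
  unfold Ev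
  rwa [mul_div_cancel_left₀ a two_ne_zero]

theorem ev_int {k : ℤ} (hk : 2 ∣ k) : Ev k := by
  obtain ⟨m, rfl⟩ := hk
  rw [Int.cast_mul, Int.cast_ofNat]
  exact ev_two_mul (isIntegral_algebraMap (R := ℤ) (A := ℂ) (x := m))

theorem isIntegral_nat (k : ℕ) : IsIntegral ℤ (k : ℂ) := by
  have := isIntegral_algebraMap (R := ℤ) (A := ℂ) (x := (k : ℤ))
  simpa using this

theorem ev_nat {k : ℕ} (hk : 2 ∣ k) : Ev k := by
  have := ev_int (k := k) (by exact_mod_cast hk)
  simpa using this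

theorem Ev.sum {ι : Type*} (s : Finset ι) {f : ι → ℂ} (hf : ∀ i ∈ s, Ev (f i)) : Ev (∑ i ∈ s, f i) :=
  Finset.sum_induction f Ev (fun _ _ => Ev.add) Ev.zero hf

theorem not_ev_one : ¬ Ev 1 := by
  intro h
  obtain ⟨k, hk⟩ := GaloisBasic.exists_int_of_isIntegral h ⟨1 / 2, by push_cast; ring⟩
  have h1 : (1 : ℂ) = 2 * k := by rw [← hk]; ring
  have h2 : (1 : ℤ) = 2 * k := by exact_mod_cast h1
  omega

/-- cancelling an odd factor -/
theorem Ev.of_odd_mul {m : ℕ} (hm : Odd m) {a : ℂ} (ha : IsIntegral ℤ a) (h : Ev (m * a)) : Ev a := by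
  obtain ⟨k, rfl⟩ := hm
  have h1 : a = ((2 * k + 1 : ℕ) : ℂ) * a - 2 * (k * a) := by push_cast; ring
  rw [h1]
  exact h.sub (ev_two_mul ((isIntegral_nat k).mul ha))

theorem isIntegral_of_pow {z : ℂ} {N : ℕ} (hN : N ≠ 0) (hz : z ^ N = 1) : IsIntegral ℤ z := by
  refine IsIntegral.of_pow (Nat.pos_of_ne_zero hN) ?_
  rw [hz]
  exact isIntegral_one

theorem isIntegral_hom {G : Type*} [Group G] [Finite G] (μ : G →* ℂˣ) (g : G) : IsIntegral ℤ ((μ g : ℂˣ) : ℂ) := by
  refine isIntegral_of_pow (Nat.card_pos (α := G)).ne' ?_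
  rw [← Units.val_pow_eq_pow_val, ← map_pow, pow_card_eq_one', map_one, Units.val_one]

/-- **The parity lemma.** -/
theorem ev_sum {D S : Type*} [Group D] [Finite S] (hD : IsPGroup 2 D) (φ : D →* Equiv.Perm S) {F : S → ℂ}
    (t : Finset S) (ht : ∀ d, ∀ s ∈ t, φ d s ∈ t) (hF : ∀ d, ∀ s ∈ t, F (φ d s) = F s)
    (hI : ∀ s ∈ t, IsIntegral ℤ (F s)) (h0 : ∀ s ∈ t, ∃ d, φ d s ≠ s) : Ev (∑ s ∈ t, F s) := by
  classical
  let _ : MulAction D S := MulAction.compHom S φ
  have hs : ∀ (d : D) (s : S), d • s = φ d s := fun _ _ => rfl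
  have : Fact (Nat.Prime 2) := ⟨Nat.prime_two⟩
  induction t using Finset.strongInduction with
  | H t ih =>
    rcases t.eq_empty_or_nonempty with rfl | ⟨s, hst⟩
    · rw [Finset.sum_empty]
      exact Ev.zero
    let O : Finset S := t.filter fun x => x ∈ MulAction.orbit D s
    have hO : ∀ x, x ∈ O ↔ x ∈ MulAction.orbit D s := fun x => by
      rw [Finset.mem_filter]
      refine ⟨fun h => h.2, fun h => ⟨?_, h⟩⟩
      obtain ⟨d, rfl⟩ := h
      exact ht d s hst
    have hsO : s ∈ O := (hO s).2 (MulAction.mem_orbit_self s)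
    have hsub : O ⊆ t := Finset.filter_subset _ _
    rw [← Finset.sum_sdiff hsub]
    refine Ev.add (ih _ (Finset.sdiff_ssubset hsub ⟨s, hsO⟩) ?_ ?_ ?_ ?_) ?_
    · intro d x hx
      rw [Finset.mem_sdiff] at hx ⊢
      refine ⟨ht d x hx.1, fun h => hx.2 ?_⟩
      rw [hO] at h ⊢
      obtain ⟨c, hc⟩ := h
      refine ⟨d⁻¹ * c, ?_⟩
      have hc' : c • s = d • x := hc
      show (d⁻¹ * c) • s = x
      rw [mul_smul, hc', inv_smul_smul]
    · exact fun d x hx => hF d x (Finset.mem_sdiff.1 hx).1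
    · exact fun x hx => hI x (Finset.mem_sdiff.1 hx).1
    · exact fun x hx => h0 x (Finset.mem_sdiff.1 hx).1
    · have h1 : ∀ x ∈ O, F x = F s := fun x hx => by
        obtain ⟨d, rfl⟩ := (hO x).1 hx
        exact hF d s hst
      rw [Finset.sum_congr rfl h1, Finset.sum_const, nsmul_eq_mul]
      refine Ev.mul_right (ev_nat ?_) (hI s hst)
      obtain ⟨k, hk⟩ := hD.card_orbit s
      have h2 : O.card = Nat.card (MulAction.orbit D s) := by
        rw [← Fintype.card_coe, ← Nat.card_eq_fintype_card]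
        exact Nat.card_congr (Equiv.subtypeEquivRight hO)
      rw [h2, hk]
      rcases k with _ | k
      · exfalso
        obtain ⟨d, hd⟩ := h0 s hst
        rw [pow_zero, Nat.card_eq_one_iff_unique] at hk
        exact hd (congrArg Subtype.val (hk.1.elim (⟨d • s, MulAction.mem_orbit s d⟩ : MulAction.orbit D s)
          ⟨s, MulAction.mem_orbit_self s⟩))
      · exact dvd_pow_self 2 (Nat.succ_ne_zero k)

/-- The sum over a coset of `Q` on which a `2`-group acts with one fixed point. -/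
theorem ev_coset {G : Type*} [Group G] [Finite G] {D Q : Subgroup G} (hD : IsPGroup 2 D)
    (hn : ∀ d ∈ D, ∀ v ∈ Q, d * v * d⁻¹ ∈ Q) (hC : ∀ v ∈ Q, (∀ d ∈ D, d * v = v * d) → v = 1) {g : G}
    (hg : ∀ d ∈ D, d * g = g * d) {χ : G → ℂ} (hχ : IsCharacter G χ) [Fintype Q] :
    Ev (∑ v : Q, χ (g * v) - χ g) := by
  classical
  let φ : D →* Equiv.Perm Q :=
    { toFun := fun d =>
        { toFun := fun v => ⟨d * v * (d : G)⁻¹, hn d d.2 v v.2⟩
          invFun := fun v => ⟨(d : G)⁻¹ * v * (d : G)⁻¹⁻¹, hn _ (inv_mem d.2) v v.2⟩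
          left_inv := fun v => Subtype.ext (by simp only; group)
          right_inv := fun v => Subtype.ext (by simp only; group) }
      map_one' := by
        ext v
        simp
      map_mul' := fun a b => by
        ext v
        simp [mul_assoc] }
  have hφ : ∀ (d : D) (v : Q), ((φ d v : Q) : G) = d * v * (d : G)⁻¹ := fun _ _ => rfl
  rw [← Finset.add_sum_erase _ _ (Finset.mem_univ (1 : Q)), Subgroup.coe_one, mul_one, add_sub_cancel_left]
  refine ev_sum hD φ _ (fun d v hv => ?_) (fun d v _ => ?_) (fun v _ => GaloisBasic.isIntegral_apply hχ _)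
    fun v hv => ?_
  · rw [Finset.mem_erase] at hv ⊢
    refine ⟨fun h => hv.1 (Subtype.ext ?_), Finset.mem_univ _⟩
    have h1 := congrArg Subtype.val h
    rw [hφ, Subgroup.coe_one] at h1
    have h2 : (v : G) = (d : G)⁻¹ * (d * v * (d : G)⁻¹) * d := by group
    rw [h2, h1, Subgroup.coe_one]
    group
  · rw [hφ, ← Core.isCharacter_isClassFunction hχ (g * v) d, ← mul_assoc, ← mul_assoc, ← hg d d.2]
    simp only [mul_assoc]
  · by_contra hcon
    push Not at hcon
    refine (Finset.mem_erase.1 hv).1 (Subtype.ext (hC v v.2 fun d hd => ?_))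
    have h1 := congrArg Subtype.val (hcon ⟨d, hd⟩)
    rw [hφ] at h1
    have h2 : d * (v : G) * d⁻¹ = v := h1
    rw [← mul_inv_eq_iff_eq_mul, h2]

/-- A rational value at a `2`-element is congruent to the degree. -/
theorem ev_sub_one {G : Type*} [Group G] [Finite G] {χ : G → ℂ} (hχ : IsCharacter G χ) {g : G} {e : ℕ}
    (hg : g ^ 2 ^ e = 1) (hr : ∀ σ : ℂ ≃+* ℂ, σ (χ g) = χ g) : Ev (χ g - χ 1) := by
  obtain ⟨c, hc⟩ := GaloisBasic.exists_int_of_rat hχ g (GaloisBasic.exists_rat_of_forall_ringEquiv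
    ((GaloisBasic.isIntegral_apply hχ g).tower_top (A := ℚ)) hr)
  obtain ⟨m, hm⟩ := Core.isCharacter_apply_one hχ
  have h1 := ev_int (k := m - c) (Lib.SchurBound.dvd_sub_of_pow hχ Nat.prime_two hg hm hc)
  have h2 : χ g - χ 1 = -(((m : ℤ) - c : ℤ) : ℂ) := by
    rw [hc, hm]
    push_cast
    ring
  rw [h2]
  exact h1.neg

/-! ### the last step -/

/-- algebraic integers in a cyclotomic field -/
theorem mem_adjoin_of_isIntegral {N : ℕ} (hN : N ≠ 0) {ζ : ℂ} (hζ : IsPrimitiveRoot ζ N) {a : ℂ}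
    (ha : a ∈ IntermediateField.adjoin ℚ ({ζ} : Set ℂ)) (hi : IsIntegral ℤ a) :
    a ∈ Algebra.adjoin ℤ ({ζ} : Set ℂ) := by
  have : NeZero N := ⟨hN⟩
  let K := IntermediateField.adjoin ℚ ({ζ} : Set ℂ)
  let z : K := ⟨ζ, IntermediateField.mem_adjoin_simple_self ℚ ζ⟩
  have hz : IsPrimitiveRoot z N := hζ.of_map_of_injective (f := K.val) (K.val.injective)
  have hc : IsCyclotomicExtension {N} ℚ K := by
    change IsCyclotomicExtension {N} ℚ (IntermediateField.adjoin ℚ ({ζ} : Set ℂ)).toSubalgebra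
    rw [IntermediateField.adjoin_simple_toSubalgebra_of_isAlgebraic (isAlgebraic_of_pow_eq_one hN hζ.pow_eq_one)]
    exact hζ.adjoin_isCyclotomicExtension ℚ
  have hI := IsCyclotomicExtension.Rat.isIntegralClosure_adjoin_singleton hz
  have hi' : IsIntegral ℤ (⟨a, ha⟩ : K) := by
    rw [← isIntegral_algHom_iff (K.val.restrictScalars ℤ) K.val.injective]
    exact hi
  obtain ⟨y, hy⟩ := hI.isIntegral_iff.1 hi'
  have h4 : (y : K) ∈ Algebra.adjoin ℤ ({z} : Set K) := y.2
  have h5 : (K.val.restrictScalars ℤ) (y : K) ∈ (Algebra.adjoin ℤ ({z} : Set K)).map (K.val.restrictScalars ℤ) :=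
    Subalgebra.mem_map.2 ⟨y, h4, rfl⟩
  rw [AlgHom.map_adjoin, Set.image_singleton] at h5
  have h6 : (K.val.restrictScalars ℤ) (y : K) = a := congrArg Subtype.val hy
  rw [h6] at h5
  exact h5

theorem exists_geom {y : ℂ} (hy : IsIntegral ℤ y) (k : ℕ) : ∃ c, IsIntegral ℤ c ∧ y ^ k - 1 = (y - 1) * c :=
  ⟨∑ i ∈ Finset.range k, y ^ i, IsIntegral.sum _ fun i _ => hy.pow i, by rw [mul_comm, geom_sum_mul]⟩

theorem ev_pow_sub_one {y : ℂ} (hy : IsIntegral ℤ y) (e : ℕ) : Ev ((y - 1) ^ 2 ^ e - (y ^ 2 ^ e - 1)) := by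
  induction e with
  | zero =>
    rw [pow_zero, pow_one, pow_one, sub_self]
    exact Ev.zero
  | succ e ih =>
    have h1 : (y - 1) ^ 2 ^ (e + 1) - (y ^ 2 ^ (e + 1) - 1) =
        ((y - 1) ^ 2 ^ e + (y ^ 2 ^ e - 1)) * ((y - 1) ^ 2 ^ e - (y ^ 2 ^ e - 1)) - 2 * (y ^ 2 ^ e - 1) := by
      rw [pow_succ, pow_mul, pow_mul]
      ring
    rw [h1]
    have h2 : IsIntegral ℤ (y ^ 2 ^ e - 1) := (hy.pow _).sub isIntegral_one
    exact (ih.mul_left (((hy.sub isIntegral_one).pow _).add h2)).sub (ev_two_mul h2)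

/-- a root of unity of order a power of two which is fixed by `s` has square one -/
theorem sq_eq_one_of_fix {s : ℂ ≃+* ℂ} (hs : s Complex.I = -Complex.I) :
    ∀ (a : ℕ) (w : ℂ), w ^ 2 ^ a = 1 → s w = w → w ^ 2 = 1 := by
  intro a
  induction a with
  | zero => intro w h1 _; rw [pow_zero, pow_one] at h1; rw [h1, one_pow]
  | succ a ih =>
    intro w h1 h2
    have h3 : (w ^ 2) ^ 2 = 1 := ih (w ^ 2) (by rw [← pow_mul, ← pow_succ', h1]) (by rw [map_pow, h2])
    rcases sq_eq_one_iff.1 h3 with h4 | h4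
    · exact h4
    · exfalso
      have h5 : w ^ 2 = Complex.I ^ 2 := by rw [h4, Complex.I_sq]
      rcases sq_eq_sq_iff_eq_or_eq_neg.1 h5 with rfl | rfl
      · exact I_ne_neg_I (h2.symm.trans hs)
      · rw [map_neg, hs, neg_neg] at h2
        exact I_ne_neg_I h2

theorem exists_pow_eq_neg_one : ∀ (a : ℕ) {y : ℂ}, y ^ 2 ^ a = 1 → y ≠ 1 → ∃ k : ℕ, y ^ k = -1 := by
  intro a
  induction a with
  | zero => intro y h1 h2; rw [pow_zero, pow_one] at h1; exact absurd h1 h2
  | succ a ih =>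
    intro y h1 h2
    rw [pow_succ, pow_mul] at h1
    rcases sq_eq_one_iff.1 h1 with h3 | h3
    · exact ih h3 h2
    · exact ⟨_, h3⟩

/-- **The last step.** -/
theorem not_fix {e : ℕ} {x ω : ℂ} (hω : ω ^ 2 ^ e = 1) (h2 : ω ^ 2 ≠ 1) (hx : x ∈ cyc (2 ^ e)) (h : Ev (x - ω))
    {s : ℂ ≃+* ℂ} (hs : s Complex.I = -Complex.I) : s x ≠ x := by
  intro hfix
  have hN : 2 ^ e ≠ 0 := pow_ne_zero e two_ne_zero
  have hζ := Complex.isPrimitiveRoot_exp _ hN
  set ζ := Complex.exp (2 * Real.pi * Complex.I / (2 ^ e : ℕ)) with hζd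
  have hζi : IsIntegral ℤ ζ := isIntegral_of_pow hN hζ.pow_eq_one
  obtain ⟨k, -, hk⟩ := GaloisBasic.exists_coprime_pow (s : ℂ →+* ℂ) hN
  have hk' : ∀ z : ℂ, z ^ 2 ^ e = 1 → s z = z ^ k := hk
  have ha : (x - ω) / 2 ∈ Algebra.adjoin ℤ ({ζ} : Set ℂ) :=
    mem_adjoin_of_isIntegral hN hζ (div_mem (sub_mem hx (mem_cyc_of_pow hN hω)) (ofNat_mem _ 2)) h
  have key : ∀ a ∈ Algebra.adjoin ℤ ({ζ} : Set ℂ), IsIntegral ℤ a ∧ IsIntegral ℤ (s a) ∧
      ∃ b, IsIntegral ℤ b ∧ a - s a = (ζ - 1) * b := by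
    intro a ha
    induction ha using Algebra.adjoin_induction with
    | mem z hz =>
      rw [Set.mem_singleton_iff.1 hz, hk' ζ hζ.pow_eq_one]
      obtain ⟨c, hc, e1⟩ := exists_geom hζi k
      exact ⟨hζi, hζi.pow k, 1 - c, isIntegral_one.sub hc, by linear_combination -e1⟩
    | algebraMap r =>
      have e1 : s (algebraMap ℤ ℂ r) = algebraMap ℤ ℂ r := by simp
      rw [e1]
      exact ⟨isIntegral_algebraMap, isIntegral_algebraMap, 0, isIntegral_zero, by ring⟩
    | add a b _ _ ha hb =>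
      obtain ⟨a1, a2, c, a3, a4⟩ := ha
      obtain ⟨b1, b2, d, b3, b4⟩ := hb
      rw [map_add]
      exact ⟨a1.add b1, a2.add b2, c + d, a3.add b3, by linear_combination a4 + b4⟩
    | mul a b _ _ ha hb =>
      obtain ⟨a1, a2, c, a3, a4⟩ := ha
      obtain ⟨b1, b2, d, b3, b4⟩ := hb
      rw [map_mul]
      exact ⟨a1.mul b1, a2.mul b2, c * b + s a * d, (a3.mul b1).add (a2.mul b3),
        by linear_combination b * a4 + s a * b4⟩
  obtain ⟨-, -, b, hb, e1⟩ := key _ ha
  have hω0 : ω ≠ 0 := by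
    rintro rfl
    rw [zero_pow hN] at hω
    exact zero_ne_one hω
  -- `s ω = ω * y`
  set y := s ω / ω with hy
  have hy1 : y ^ 2 ^ e = 1 := by rw [hy, div_pow, ← map_pow, hω, map_one, div_one]
  have hy2 : y ≠ 1 := fun h3 => h2 (sq_eq_one_of_fix hs e ω hω ((div_eq_one_iff_eq hω0).1 h3))
  obtain ⟨j, hj⟩ := exists_pow_eq_neg_one e hy1 hy2
  obtain ⟨c, hc, e2⟩ := exists_geom (isIntegral_of_pow hN hy1) j
  rw [hj] at e2
  have e3 : s ω = ω * y := by rw [hy, mul_div_cancel₀ _ hω0]
  have e4 : s ((x - ω) / 2) = (x - ω * y) / 2 := by rw [map_div₀, map_sub, hfix, e3, map_ofNat]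
  rw [e4] at e1
  have e5 : ω = (ζ - 1) * (-(b * c)) := by
    apply mul_left_cancel₀ (sub_ne_zero.2 hy2)
    linear_combination 2 * e1 - (ζ - 1) * b * e2
  apply not_ev_one
  have e6 := ev_pow_sub_one hζi e
  rw [hζ.pow_eq_one, sub_self, sub_zero] at e6
  rw [← hω, e5, mul_pow]
  exact e6.mul_right ((hb.mul hc).neg.pow _)

/-- character values at `2`-elements -/
theorem char_mem_cyc {G : Type*} [Group G] {χ : G → ℂ} (hχ : IsCharacter G χ) {g : G} {N : ℕ} (hN : N ≠ 0)
    (hg : g ^ N = 1) : χ g ∈ cyc N := by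
  obtain ⟨d, μ, -, h1, h2⟩ := GaloisBasic.isCharacter_exists_fin_pow hχ g hN hg
  have h3 := h2 1
  rw [pow_one] at h3
  rw [h3]
  exact sum_mem fun i _ => pow_mem (mem_cyc_of_pow hN (h1 i)) 1

end Cfsg.Agent.ODD.Lev
end

-- part: ODD/Lev/Ind
section
prune_inst 0x414403144540002000018059241005842f8000100004b80004c420e0407c82c612d052e21bde0010f5a380c546008804811000020023829c0008c0e0005190080808010041000a19972008f00178b600000209000000000000000800000000004018000000
set_option linter.all false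
open scoped Cfsg.Agent.FastGrp

/-!
# ODD, box LEV: the lemmas on irreducible representations (helper97)

* `triv_or_ev`: a normal subgroup `Q` acts trivially or the character value is even;
* `ev_of_ind`: a representation over a linear character of `B` whose stabiliser lies in `H` is induced from `H`;
* `sum_ne_zero`, `exists_eig`: eigenvectors of `B` and multiplicities.
-/

set_option autoImplicit false
set_option linter.unusedSectionVars false

namespace Cfsg.Agent.ODD.Lev

open Cfsg Module Cfsg.Agent.Characters Cfsg.Agent.H684.OQ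

variable {G V : Type} [Group G] [AddCommGroup V] [Module ℂ V] (σ : Representation ℂ G V)

theorem alg_dl (g : G) : σ.asAlgebraHom (dl g) = σ g := by
  simp [dl]

variable {σ}

/-- the translates of a non zero vector span an irreducible representation -/
theorem eq_top_of_orbit (hσ : σ.IsIrreducible) {v : V} (hv : v ≠ 0) {N : Submodule ℂ V} (h : ∀ y, σ y v ∈ N) :
    N = ⊤ := by
  have h1 := ((CharDeep.LinearChar.isIrreducible_iff σ).1 hσ).2 (Submodule.span ℂ (Set.range fun y => σ y v))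
    fun g w hw => by
      induction hw using Submodule.span_induction with
      | mem x hx =>
        obtain ⟨y, rfl⟩ := hx
        exact Submodule.subset_span ⟨g * y, by simp⟩
      | zero => rw [map_zero]; exact zero_mem _
      | add x y _ _ hx hy => rw [map_add]; exact add_mem hx hy
      | smul c x _ hx => rw [map_smul]; exact Submodule.smul_mem _ c hx
  rcases h1 with h1 | h1
  · exfalso
    have h2 : v ∈ Submodule.span ℂ (Set.range fun y => σ y v) := Submodule.subset_span ⟨1, by simp⟩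
    rw [h1] at h2
    exact hv h2
  · rw [eq_top_iff, ← h1, Submodule.span_le]
    rintro _ ⟨y, rfl⟩
    exact h y

theorem ext_orbit (hσ : σ.IsIrreducible) {v : V} (hv : v ≠ 0) {f f' : End ℂ V} (h : ∀ y, f (σ y v) = f' (σ y v)) :
    f = f' := by
  have h1 := eq_top_of_orbit hσ hv (N := LinearMap.eqLocus f f') h
  exact LinearMap.eqLocus_eq_top.1 h1

variable [Finite G]

theorem av_apply {P : Subgroup G} (ψ : P →* ℂˣ) [Fintype P] (v : V) :
    σ.asAlgebraHom (av ψ) v = (Nat.card P : ℂ)⁻¹ • ∑ u : P, (((ψ u)⁻¹ : ℂˣ) : ℂ) • σ u v := by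
  rw [av_def, map_smul, map_sum, LinearMap.smul_apply, LinearMap.sum_apply]
  simp only [map_smul, alg_dl, LinearMap.smul_apply]

theorem av_mem {P : Subgroup G} (ψ : P →* ℂˣ) {N : Submodule ℂ V} {v : V} (h : ∀ u ∈ P, σ u v ∈ N) :
    σ.asAlgebraHom (av ψ) v ∈ N := by
  have := Fintype.ofFinite P
  rw [av_apply]
  exact N.smul_mem _ (N.sum_mem fun u _ => N.smul_mem _ (h u u.2))

theorem av_eq {P : Subgroup G} (ψ : P →* ℂˣ) {v : V} (h : ∀ u : P, σ u v = ((ψ u : ℂˣ) : ℂ) • v) :
    σ.asAlgebraHom (av ψ) v = v := by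
  have := Fintype.ofFinite P
  rw [av_apply]
  have h1 : ∀ u : P, (((ψ u)⁻¹ : ℂˣ) : ℂ) • σ u v = v := fun u => by
    rw [h u, smul_smul, Units.inv_mul, one_smul]
  rw [Finset.sum_congr rfl fun u _ => h1 u, Finset.sum_const, Finset.card_univ, ← Nat.card_eq_fintype_card,
    ← Nat.cast_smul_eq_nsmul ℂ, smul_smul, inv_mul_cancel₀ (card_ne P), one_smul]

theorem apply_av {P : Subgroup G} (ψ : P →* ℂˣ) (u : P) (v : V) :
    σ u (σ.asAlgebraHom (av ψ) v) = ((ψ u : ℂˣ) : ℂ) • σ.asAlgebraHom (av ψ) v := by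
  rw [← alg_dl, ← End.mul_apply, ← map_mul, dl_mul_av, map_smul, LinearMap.smul_apply]

theorem av_apply_apply {P : Subgroup G} (ψ : P →* ℂˣ) (u : P) (v : V) :
    σ.asAlgebraHom (av ψ) (σ u v) = ((ψ u : ℂˣ) : ℂ) • σ.asAlgebraHom (av ψ) v := by
  rw [← alg_dl, ← End.mul_apply, ← map_mul, av_mul_dl, map_smul, LinearMap.smul_apply]

variable [FiniteDimensional ℂ V]

theorem trace_av {P : Subgroup G} (ψ : P →* ℂˣ) [Fintype P] :
    LinearMap.trace ℂ V (σ.asAlgebraHom (av ψ)) =
      (Nat.card P : ℂ)⁻¹ * ∑ u : P, (((ψ u)⁻¹ : ℂˣ) : ℂ) * σ.character u := by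
  rw [av_def, map_smul, map_sum, map_smul, map_sum]
  simp only [map_smul, alg_dl, smul_eq_mul]
  rfl

/-- an eigenvector gives a constituent -/
theorem sum_ne_zero {P : Subgroup G} (ψ : P →* ℂˣ) [Fintype P] {v : V} (hv : v ≠ 0)
    (h : ∀ u : P, σ u v = ((ψ u : ℂˣ) : ℂ) • v) : ∑ u : P, (((ψ u)⁻¹ : ℂˣ) : ℂ) * σ.character u ≠ 0 := by
  intro h0
  have h1 : IsIdempotentElem (σ.asAlgebraHom (av ψ)) := by rw [IsIdempotentElem, ← map_mul, av_mul_av]
  have h2 := LinearMap.IsIdempotentElem.eq_zero_of_trace_eq_zero h1 (by rw [trace_av, h0, mul_zero])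
  have h3 := av_eq ψ h
  rw [h2] at h3
  exact hv h3.symm

/-- a constituent gives an eigenvector -/
theorem exists_eig {P : Subgroup G} (ψ : P →* ℂˣ) [Fintype P]
    (h : ∑ u : P, (((ψ u)⁻¹ : ℂˣ) : ℂ) * σ.character u ≠ 0) :
    ∃ v : V, v ≠ 0 ∧ ∀ u : P, σ u v = ((ψ u : ℂˣ) : ℂ) • v := by
  have h1 : σ.asAlgebraHom (av ψ) ≠ 0 := fun h0 => by
    have h2 := trace_av (σ := σ) ψ
    rw [h0, map_zero] at h2
    exact mul_ne_zero (inv_ne_zero (card_ne P)) h h2.symm
  obtain ⟨v, hv⟩ := DFunLike.ne_iff.1 h1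
  exact ⟨_, hv, fun u => apply_av ψ u v⟩

/-- a normal subgroup acts trivially, or the sums over its cosets vanish -/
theorem triv_or_sum (hσ : σ.IsIrreducible) (Q : Subgroup G) [hQ : Q.Normal] [Fintype Q] :
    (∀ q ∈ Q, ∀ y, σ q y = y) ∨ ∀ g, ∑ v : Q, σ.character (g * v) = 0 := by
  let F : Submodule ℂ V :=
    { carrier := {y | ∀ q ∈ Q, σ q y = y}
      add_mem' := fun ha hb q hq => by rw [map_add, ha q hq, hb q hq]
      zero_mem' := fun q _ => map_zero _
      smul_mem' := fun c y hy q hq => by rw [map_smul, hy q hq] }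
  rcases ((CharDeep.LinearChar.isIrreducible_iff σ).1 hσ).2 F (fun g y hy q hq => by
    have h1 := hy _ (hQ.conj_mem q hq g⁻¹)
    rw [inv_inv] at h1
    conv_rhs => rw [← h1]
    rw [← End.mul_apply, ← map_mul, ← End.mul_apply, ← map_mul]
    congr 2
    group) with h | h
  · right
    intro g
    have h1 : σ.asAlgebraHom (av (1 : Q →* ℂˣ)) = 0 := by
      ext y
      have h2 : σ.asAlgebraHom (av (1 : Q →* ℂˣ)) y ∈ F := fun q hq => by
        have h3 := apply_av (σ := σ) (1 : Q →* ℂˣ) ⟨q, hq⟩ y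
        rwa [MonoidHom.one_apply, Units.val_one, one_smul] at h3
      rw [h] at h2
      exact h2
    have h2 : σ g * σ.asAlgebraHom (av (1 : Q →* ℂˣ)) = 0 := by rw [h1, mul_zero]
    have h3 := congrArg (LinearMap.trace ℂ V) h2
    rw [av_def, map_smul, map_sum, mul_smul_comm, Finset.mul_sum, map_smul, map_sum, map_zero, smul_eq_mul] at h3
    rcases mul_eq_zero.1 h3 with h4 | h4
    · exact absurd h4 (inv_ne_zero (card_ne Q))
    · rw [← h4]
      refine Finset.sum_congr rfl fun v _ => ?_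
      rw [MonoidHom.one_apply, inv_one, Units.val_one, one_smul, alg_dl, ← map_mul]
      rfl
  · left
    intro q hq y
    have h1 : y ∈ F := by rw [h]; trivial
    exact h1 q hq

theorem triv_or_ev (hσ : σ.IsIrreducible) (Q : Subgroup G) [hQ : Q.Normal] {D : Subgroup G} (hD : IsPGroup 2 D)
    (hC : ∀ v ∈ Q, (∀ d ∈ D, d * v = v * d) → v = 1) :
    (∀ q ∈ Q, ∀ y, σ q y = y) ∨ ∀ g, (∀ d ∈ D, d * g = g * d) → Ev (σ.character g) := by
  have := Fintype.ofFinite Q
  refine (triv_or_sum hσ Q).imp_right fun h g hg => ?_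
  have h1 := ev_coset hD (fun d _ v hv => hQ.conj_mem v hv d) hC hg (Core.isCharacter_of_rep σ)
  rw [h g, zero_sub] at h1
  have h2 := h1.neg
  rwa [neg_neg] at h2

/-- the trace of a group element on the image of a commuting projection -/
theorem isIntegral_trace_proj {H : Subgroup G} {π : End ℂ V} (hπ : π * π = π) (hc : ∀ y ∈ H, σ y * π = π * σ y)
    {y : G} (hy : y ∈ H) : IsIntegral ℤ (LinearMap.trace ℂ V (σ y * π)) := by
  let ρ : Representation ℂ H V :=
    { toFun := fun x => σ x * π + (1 - π)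
      map_one' := by rw [Subgroup.coe_one, map_one, one_mul, add_sub_cancel]
      map_mul' := fun a b => by
        have h1 : π * (σ b * π) = σ b * π := by rw [← mul_assoc, ← hc b b.2, mul_assoc, hπ]
        rw [Subgroup.coe_mul, map_mul, add_mul, mul_add, mul_add, mul_assoc (σ a) π, h1, mul_assoc (σ a) π, mul_sub,
          mul_one, hπ, sub_self, mul_zero, add_zero, sub_mul, one_mul, h1, sub_self, zero_add, sub_mul, one_mul,
          mul_sub, mul_one, hπ, sub_self, sub_zero, mul_assoc] }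
  have h1 := GaloisBasic.isIntegral_apply (Core.isCharacter_of_rep ρ) ⟨y, hy⟩
  have h2 : ρ.character ⟨y, hy⟩ = LinearMap.trace ℂ V (σ y * π) + LinearMap.trace ℂ V (1 - π) := by
    rw [← map_add]
    rfl
  have h3 : IsIdempotentElem (1 - π) := IsIdempotentElem.one_sub hπ
  have h4 := ((LinearMap.isProj_range_iff_isIdempotentElem _).2 h3).trace
  rw [h2, h4] at h1
  have h5 := h1.sub (isIntegral_nat (finrank ℂ (LinearMap.range (1 - π))))
  rwa [add_sub_cancel_right] at h5

open Classical in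
/-- the projection onto the part generated under `H` -/
theorem exists_proj {B H : Subgroup G} (hBH : B ≤ H) (ν : B →* ℂˣ) {v : V}
    (hv : ∀ b : B, σ b v = ((ν b : ℂˣ) : ℂ) • v)
    (hx : ∀ x, x ∉ H → ∃ (b : G) (hb : b ∈ B) (hb' : x⁻¹ * b * x ∈ B), ν ⟨b, hb⟩ ≠ ν ⟨x⁻¹ * b * x, hb'⟩) :
    ∃ π : End ℂ V, ∀ y, π (σ y v) = if y ∈ H then σ y v else 0 := by
  let E := σ.asAlgebraHom (av ν)
  have hE0 : ∀ x, x ∉ H → E (σ x v) = 0 := by
    intro x hxH
    obtain ⟨b, hb, hb', hne⟩ := hx x hxH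
    have h1 := av_apply_apply (σ := σ) ν ⟨b, hb⟩ (σ x v)
    have h2 : σ b (σ x v) = ((ν ⟨x⁻¹ * b * x, hb'⟩ : ℂˣ) : ℂ) • σ x v := by
      rw [← map_smul, ← hv, ← End.mul_apply, ← End.mul_apply, ← map_mul, ← map_mul]
      congr 2
      simp only
      group
    rw [h2, map_smul, ← sub_eq_zero, ← sub_smul, smul_eq_zero] at h1
    exact h1.resolve_left fun h => hne (Units.ext (sub_eq_zero.1 h)).symm
  let ρ : Representation ℂ H V := σ.comp H.subtype
  let N : Subrepresentation ρ :=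
    { toSubmodule :=
        { carrier := {y | ∀ x ∈ H, E (σ x y) = 0}
          add_mem' := fun ha hb x hx => by rw [map_add, map_add, ha x hx, hb x hx, add_zero]
          zero_mem' := fun x _ => by rw [map_zero, map_zero]
          smul_mem' := fun c y hy x hx => by rw [map_smul, map_smul, hy x hx, smul_zero] }
      apply_mem_toSubmodule := fun g y hy x hx => by
        have h1 := hy (x * g) (mul_mem hx g.2)
        rwa [map_mul] at h1 }
  obtain ⟨U, hU⟩ := Core.exists_isCompl_sub N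
  have hUH : ∀ x ∈ H, ∀ y ∈ U.toSubmodule, σ x y ∈ U.toSubmodule := fun x hx y hy =>
    U.apply_mem_toSubmodule ⟨x, hx⟩ hy
  have hvU : v ∈ U.toSubmodule := by
    obtain ⟨a, ha, b, hb, e⟩ := Submodule.mem_sup.1 (show v ∈ N.toSubmodule ⊔ U.toSubmodule by
      rw [hU.sup_eq_top]; trivial)
    have h1 : E a = 0 := by
      have h2 := ha 1 (one_mem H)
      rwa [map_one] at h2
    have h2 : E v = v := av_eq ν hv
    rw [← h2, ← e, map_add, h1, zero_add]
    exact av_mem ν fun u hu => hUH u (hBH hu) b hb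
  refine ⟨U.toSubmodule.projection N.toSubmodule hU.symm, fun y => ?_⟩
  split_ifs with hy
  · exact Submodule.projection_apply_left hU.symm ⟨σ y v, hUH y hy v hvU⟩
  · have h1 : σ y v ∈ N.toSubmodule := fun x hx => by
      rw [← End.mul_apply (σ x), ← map_mul]
      exact hE0 _ fun h => hy (by simpa using mul_mem (inv_mem hx) h)
    exact (Submodule.projection_apply_eq_zero_iff hU.symm).2 h1

/-- **Induced representations.** -/
theorem ev_of_ind (hσ : σ.IsIrreducible) {B H : Subgroup G} (hBH : B ≤ H) (ν : B →* ℂˣ) {v : V} (hv0 : v ≠ 0)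
    (hv : ∀ b : B, σ b v = ((ν b : ℂˣ) : ℂ) • v)
    (hx : ∀ x, x ∉ H → ∃ (b : G) (hb : b ∈ B) (hb' : x⁻¹ * b * x ∈ B), ν ⟨b, hb⟩ ≠ ν ⟨x⁻¹ * b * x, hb'⟩)
    {D : Subgroup G} (hD : IsPGroup 2 D) (hf : ∀ x, ∃ d ∈ D, x⁻¹ * d * x ∉ H) {g : G}
    (hg : ∀ d ∈ D, d * g = g * d) : Ev (σ.character g) := by
  classical
  obtain ⟨π, hπ⟩ := exists_proj hBH ν hv hx
  have hm : ∀ a b, σ a (σ b v) = σ (a * b) v := fun a b => by rw [map_mul, End.mul_apply]
  have h1 : π * π = π := ext_orbit hσ hv0 fun y => by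
    rw [End.mul_apply, hπ]
    split_ifs with hy
    · rw [hπ, if_pos hy]
    · rw [map_zero]
  have h2 : ∀ x ∈ H, σ x * π = π * σ x := fun x hx => ext_orbit hσ hv0 fun y => by
    rw [End.mul_apply, End.mul_apply, hm, hπ, hπ]
    by_cases hy : y ∈ H
    · rw [if_pos hy, if_pos (mul_mem hx hy), hm]
    · rw [if_neg hy, if_neg fun h => hy (by simpa using mul_mem (inv_mem hx) h), map_zero]
  have h3 : ∀ x, x ∉ H → π * σ x * π = 0 := fun x hx => ext_orbit hσ hv0 fun y => by
    rw [End.mul_apply, End.mul_apply, hπ, LinearMap.zero_apply]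
    split_ifs with hy
    · rw [hm, hπ, if_neg fun h => hx (by simpa using mul_mem h (inv_mem hy))]
    · rw [map_zero, map_zero]
  -- the function on the cosets
  let F : G → ℂ := fun x => LinearMap.trace ℂ V (σ (x⁻¹ * g * x) * π)
  have hF : ∀ x, ∀ y ∈ H, F (x * y) = F x := by
    intro x y hy
    show LinearMap.trace ℂ V (σ ((x * y)⁻¹ * g * (x * y)) * π) = LinearMap.trace ℂ V (σ (x⁻¹ * g * x) * π)
    have e1 : (x * y)⁻¹ * g * (x * y) = y⁻¹ * (x⁻¹ * g * x) * y := by group
    rw [e1, map_mul σ, map_mul σ y⁻¹, mul_assoc _ (σ y), h2 y hy, mul_assoc (σ y⁻¹), LinearMap.trace_mul_comm,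
      mul_assoc (σ _), mul_assoc π, ← map_mul σ, mul_inv_cancel, map_one, mul_one]
  have hF' : ∀ x y : G, (x : G ⧸ H) = y → F x = F y := fun x y h => by
    have h4 := hF x _ (QuotientGroup.eq.1 h)
    rw [mul_inv_cancel_left] at h4
    exact h4.symm
  have := Fintype.ofFinite (G ⧸ H)
  have h4 : ∑ q : G ⧸ H, σ q.out * π * σ q.out⁻¹ = 1 := ext_orbit hσ hv0 fun y => by
    rw [LinearMap.sum_apply, Finset.sum_eq_single (y : G ⧸ H)]
    · rw [End.mul_apply, End.mul_apply, hm, hπ, if_pos (QuotientGroup.eq.1 (QuotientGroup.out_eq' _)), hm,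
        mul_inv_cancel_left, End.one_apply]
    · intro q _ hq
      rw [End.mul_apply, End.mul_apply, hm, hπ, if_neg, map_zero]
      intro h
      exact hq ((QuotientGroup.out_eq' q).symm.trans (QuotientGroup.eq.2 h))
    · intro h
      exact absurd (Finset.mem_univ _) h
  have h5 : σ.character g = ∑ q : G ⧸ H, F q.out := by
    show LinearMap.trace ℂ V (σ g) = _
    conv_lhs => rw [← mul_one (σ g), ← h4, Finset.mul_sum, map_sum]
    refine Finset.sum_congr rfl fun q _ => ?_
    show _ = LinearMap.trace ℂ V (σ (q.out⁻¹ * g * q.out) * π)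
    rw [← mul_assoc, LinearMap.trace_mul_comm, map_mul σ, map_mul σ]
    simp only [mul_assoc]
  rw [h5]
  refine ev_sum hD ((MulAction.toPermHom G (G ⧸ H)).comp D.subtype) (F := fun q : G ⧸ H => F q.out) _
    (fun _ _ _ => Finset.mem_univ _) (fun d q _ => ?_) (fun q _ => ?_) fun q _ => ?_
  · have e1 : F ((d : G) * q.out) = F q.out := by
      show LinearMap.trace ℂ V (σ (((d : G) * q.out)⁻¹ * g * (d * q.out)) * π) =
        LinearMap.trace ℂ V (σ (q.out⁻¹ * g * q.out) * π)
      have e2 : ((d : G) * q.out)⁻¹ * g * (d * q.out) = q.out⁻¹ * ((d : G)⁻¹ * (g * d)) * q.out := by group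
      rw [e2, ← hg d d.2, inv_mul_cancel_left]
    rw [← e1]
    refine hF' _ _ ?_
    rw [QuotientGroup.out_eq']
    show (d : G) • q = _
    conv_lhs => rw [← QuotientGroup.out_eq' q]
    rfl
  · by_cases hq : q.out⁻¹ * g * q.out ∈ H
    · exact isIntegral_trace_proj h1 h2 hq
    · have e1 : F q.out = 0 := by
        show LinearMap.trace ℂ V (σ (q.out⁻¹ * g * q.out) * π) = 0
        rw [← h1, ← mul_assoc, LinearMap.trace_mul_comm, ← mul_assoc, h3 _ hq, map_zero]
      rw [e1]
      exact isIntegral_zero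
  · obtain ⟨d, hd, hne⟩ := hf q.out
    refine ⟨⟨d, hd⟩, fun h => hne ?_⟩
    have e1 : ((d * q.out : G) : G ⧸ H) = q.out := by
      rw [QuotientGroup.out_eq']
      refine Eq.trans ?_ h
      show _ = d • q
      conv_rhs => rw [← QuotientGroup.out_eq' q]
      rfl
    rw [mul_assoc]
    exact QuotientGroup.eq.1 e1.symm

end Cfsg.Agent.ODD.Lev

private theorem dce_2e271570e3f4 : _root_.True := by
  try have : _root_.True := by simp only [_root_.Cfsg.Agent.H684.OQ.dl.eq_1]
  exact _root_.True.intro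
end
end
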